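import Cfsg.Agent.Lib.Orth.Basic

set_option autoImplicit false
set_option linter.unusedSectionVars false

/-!
The Dickson invariant in characteristic two: a homomorphism to `(F, +)` taking the value `1` on every
orthogonal transvection.
-/

namespace CfsgLib.Orth

open QuadraticMap Matrix

section MatrixLemmas

variable {F : Type*} [Field F] [CharP F 2] {ι : Type*} [Fintype ι] [LinearOrder ι]

theorem sum_sum_eq_zero (f : ι → ι → F) (hs : ∀ i j, f i j = f j i) (hd : ∀ i, f i i = 0) :
    ∑ i, ∑ j, f i j = 0 := by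
  rw [← Fintype.sum_prod_type' f]
  refine Finset.sum_involution (fun p _ => (p.2, p.1)) (fun p _ => ?_) (fun p _ hp h => hp ?_)
    (fun p _ => Finset.mem_univ _) (fun p _ => rfl)
  · show f p.1 p.2 + f p.2 p.1 = 0
    rw [hs p.2 p.1, CharTwo.add_self_eq_zero]
  · have : p.2 = p.1 := congrArg Prod.fst h
    show f p.1 p.2 = 0
    rw [this, hd]

/-- The strictly upper triangular part. -/
def upper (A : Matrix ι ι F) : Matrix ι ι F := Matrix.of fun i j => if i < j then A i j else 0

theorem upper_add_transpose (A : Matrix ι ι F) (hs : Aᵀ = A) (hd : ∀ i, A i i = 0) :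
    upper A + (upper A)ᵀ = A := by
  ext i j
  rcases lt_trichotomy i j with h | rfl | h
  · simp [upper, h, h.not_gt]
  · simp [upper, hd]
  · simp [upper, h, h.not_gt, ← congrFun (congrFun hs i) j]

theorem trace_mul_eq_of_add_transpose_eq {J U U' : Matrix ι ι F} (hJ : Jᵀ = J) (hJd : ∀ i, J i i = 0)
    (h : U + Uᵀ = U' + U'ᵀ) : (U * J).trace = (U' * J).trace := by
  have hDs : (U - U')ᵀ = U - U' := by
    rw [Matrix.transpose_sub]
    ext i j
    have := congrFun (congrFun h i) j
    simp only [Matrix.add_apply, Matrix.sub_apply, Matrix.transpose_apply] at this ⊢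
    rw [CharTwo.sub_eq_add, CharTwo.sub_eq_add]
    linear_combination this - (CharTwo.two_eq_zero (R := F)) * U i j + (CharTwo.two_eq_zero (R := F)) * U' j i
  have h0 : ((U - U') * J).trace = 0 := by
    simp only [Matrix.trace, Matrix.diag_apply, Matrix.mul_apply]
    refine sum_sum_eq_zero _ (fun i j => ?_) (fun i => by rw [hJd, mul_zero])
    have e1 : (U - U') j i = (U - U') i j := congrFun (congrFun hDs i) j
    have e2 : J i j = J j i := (congrFun (congrFun hJ i) j).symm
    rw [e1, e2]
  rwa [Matrix.sub_mul, Matrix.trace_sub, sub_eq_zero] at h0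

end MatrixLemmas

variable {F V : Type*} [Field F] [CharP F 2] [AddCommGroup V] [Module F V] [FiniteDimensional F V]
variable (Q : QuadraticForm F V)

/-- A homomorphism `orthGroup Q → (F, +)` with value `1` on every orthogonal transvection. -/
theorem exists_dickson (hQ : (QuadraticMap.polarBilin Q).Nondegenerate) :
    ∃ κ : orthGroup Q →* Multiplicative F, ∀ a, Q a ≠ 0 → κ (refl Q a) = Multiplicative.ofAdd 1 := by
  classical
  let b := Module.finBasis F V
  set M := LinearMap.BilinForm.toMatrix b (QuadraticMap.polarBilin Q) with hM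
  set C := LinearMap.BilinForm.toMatrix b (Q.toBilin b) with hC
  have hMu : IsUnit M.det :=
    isUnit_iff_ne_zero.2 ((LinearMap.BilinForm.nondegenerate_iff_det_ne_zero b).1 hQ)
  have hMs : Mᵀ = M := by
    ext i j
    simp [hM, LinearMap.BilinForm.toMatrix_apply, polar_comm]
  have hMd : ∀ i, M i i = 0 := fun i => by
    simp [hM, LinearMap.BilinForm.toMatrix_apply, polar_self', CharTwo.two_eq_zero]
  have hCQ : ∀ v, (Q.toBilin b) v v = Q v := fun v => by
    rw [← LinearMap.BilinMap.toQuadraticMap_apply, Q.toQuadraticMap_toBilin b]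
  have hCM : C + Cᵀ = M := by
    ext i j
    simp only [hC, hM, Matrix.add_apply, Matrix.transpose_apply, LinearMap.BilinForm.toMatrix_apply,
      QuadraticMap.polarBilin_apply_apply, QuadraticMap.polar]
    rw [← hCQ, ← hCQ (b i), ← hCQ (b j)]
    simp only [map_add, LinearMap.add_apply]
    ring
  set J := M⁻¹ with hJ
  have hJs : Jᵀ = J := by rw [hJ, Matrix.transpose_nonsing_inv, hMs]
  have hJd : ∀ i, J i i = 0 := by
    intro i
    have hJMJ : Jᵀ * M * J = J := by
      rw [hJs, hJ, Matrix.nonsing_inv_mul M hMu, Matrix.one_mul]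
    rw [← hJMJ, Matrix.mul_apply]
    simp only [Matrix.mul_apply, Finset.sum_mul, Matrix.transpose_apply]
    refine sum_sum_eq_zero _ (fun x y => ?_) (fun x => by rw [hMd, mul_zero, zero_mul])
    have e : M y x = M x y := congrFun (congrFun hMs x) y
    rw [e]; ring
  let G : orthGroup Q → Matrix (Fin (Module.finrank F V)) (Fin (Module.finrank F V)) F :=
    fun g => LinearMap.toMatrix b b (g.1 : V →ₗ[F] V)
  have hG1 : G 1 = 1 := LinearMap.toMatrix_one b
  have hGmul : ∀ g h, G (g * h) = G g * G h := fun g h => LinearMap.toMatrix_mul b _ _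
  have hGiso : ∀ g, (G g)ᵀ * M * G g = M := by
    intro g
    rw [hM, ← LinearMap.BilinForm.toMatrix_comp b b]
    congr 1
    refine LinearMap.ext fun u => LinearMap.ext fun v => ?_
    exact polar_isom g u v
  let A : orthGroup Q → Matrix (Fin (Module.finrank F V)) (Fin (Module.finrank F V)) F :=
    fun g => (G g)ᵀ * C * G g + C
  have hA : ∀ g, (A g)ᵀ = A g ∧ ∀ i, A g i i = 0 := by
    intro g
    constructor
    · have h1 : (G g)ᵀ * C * G g + ((G g)ᵀ * C * G g)ᵀ = M := by
        rw [Matrix.transpose_mul, Matrix.transpose_mul, Matrix.transpose_transpose, ← Matrix.mul_assoc,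
          ← Matrix.add_mul, ← Matrix.mul_add, hCM, hGiso]
      show ((G g)ᵀ * C * G g + C)ᵀ = _
      rw [Matrix.transpose_add]
      ext i j
      have e1 := congrFun (congrFun h1 i) j
      have e2 := congrFun (congrFun hCM i) j
      simp only [A, Matrix.add_apply, Matrix.transpose_apply] at e1 e2 ⊢
      linear_combination e1 + e2 - (CharTwo.two_eq_zero (R := F)) * (((G g)ᵀ * C * G g) i j + C i j) +
        (CharTwo.two_eq_zero (R := F)) * M i j
    · intro i
      have e : (G g)ᵀ * C * G g =
          LinearMap.BilinForm.toMatrix b (LinearMap.BilinForm.comp (Q.toBilin b) (g.1 : V →ₗ[F] V) (g.1 : V →ₗ[F] V)) := by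
        rw [LinearMap.BilinForm.toMatrix_comp b b]
      show ((G g)ᵀ * C * G g + C) i i = 0
      rw [e, Matrix.add_apply, hC, LinearMap.BilinForm.toMatrix_apply, LinearMap.BilinForm.toMatrix_apply]
      show (Q.toBilin b) (g.1 (b i)) (g.1 (b i)) + (Q.toBilin b) (b i) (b i) = 0
      rw [hCQ, hCQ, apply_quad, CharTwo.add_self_eq_zero]
  have hJinv : ∀ g, G g * J * (G g)ᵀ = J := by
    intro g
    have hu : IsUnit (G g).det := by
      refine isUnit_iff_ne_zero.2 fun h => ?_
      have := congrArg Matrix.det (hGiso g)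
      rw [Matrix.det_mul, h, mul_zero] at this
      exact hMu.ne_zero this.symm
    have h1 : G g * J * (G g)ᵀ * M = 1 := by
      have h2 : J * (G g)ᵀ * M * G g = 1 := by
        rw [Matrix.mul_assoc J, Matrix.mul_assoc J, hGiso, hJ, Matrix.nonsing_inv_mul M hMu]
      rw [Matrix.mul_assoc (G g), Matrix.mul_assoc (G g)]
      exact mul_eq_one_comm.1 h2
    calc G g * J * (G g)ᵀ = G g * J * (G g)ᵀ * (M * J) := by
          rw [hJ, Matrix.mul_nonsing_inv M hMu, Matrix.mul_one]
      _ = J := by rw [← Matrix.mul_assoc, h1, Matrix.one_mul]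
  let κ₀ : orthGroup Q → F := fun g => (upper (A g) * J).trace
  have key : ∀ g U, U + Uᵀ = A g → κ₀ g = (U * J).trace := fun g U hU =>
    trace_mul_eq_of_add_transpose_eq hJs hJd ((upper_add_transpose _ (hA g).1 (hA g).2).trans hU.symm)
  have hκmul : ∀ g h, κ₀ (g * h) = κ₀ g + κ₀ h := by
    intro g h
    set Ug := upper (A g)
    set Uh := upper (A h)
    rw [key (g * h) ((G h)ᵀ * Ug * G h + Uh) ?_]
    · rw [Matrix.add_mul, Matrix.trace_add]
      congr 1
      rw [Matrix.mul_assoc, Matrix.mul_assoc, Matrix.trace_mul_comm, Matrix.mul_assoc, Matrix.mul_assoc,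
        ← Matrix.mul_assoc (G h), hJinv]
    · have e1 := upper_add_transpose _ (hA g).1 (hA g).2
      have e2 := upper_add_transpose _ (hA h).1 (hA h).2
      rw [Matrix.transpose_add, add_add_add_comm, e2]
      have e3 : (G h)ᵀ * Ug * G h + ((G h)ᵀ * Ug * G h)ᵀ = (G h)ᵀ * A g * G h := by
        rw [Matrix.transpose_mul, Matrix.transpose_mul, Matrix.transpose_transpose, ← Matrix.mul_assoc,
          ← Matrix.add_mul, ← Matrix.mul_add, e1]
      rw [e3]
      simp only [A, hGmul, Matrix.transpose_mul, Matrix.mul_add, Matrix.add_mul, Matrix.mul_assoc]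
      have e4 : ∀ X Y Z : Matrix (Fin (Module.finrank F V)) (Fin (Module.finrank F V)) F, X + Y + (Y + Z) = X + Z := by
        intro X Y Z; ext i j; simp only [Matrix.add_apply]
        linear_combination (CharTwo.two_eq_zero (R := F)) * Y i j
      exact e4 _ _ _
  have hκone : κ₀ 1 = 0 := by
    have := hκmul 1 1
    rw [one_mul] at this
    exact left_eq_add.1 this
  refine ⟨{ toFun := fun g => Multiplicative.ofAdd (κ₀ g)
            map_one' := by rw [hκone]; rfl
            map_mul' := fun g h => by rw [hκmul]; rfl }, fun a ha => ?_⟩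
  show Multiplicative.ofAdd (κ₀ (refl Q a)) = _
  congr 1
  set x := fun i => b.repr a i with hx
  set α := (Q a)⁻¹ • (M *ᵥ x) with hα
  have hMx : ∀ i, (M *ᵥ x) i = polar Q (b i) a := fun i => by
    conv_rhs => rw [← b.sum_repr a, ← QuadraticMap.polarBilin_apply_apply, map_sum]
    simp [hM, Matrix.mulVec, dotProduct, LinearMap.BilinForm.toMatrix_apply, hx, mul_comm]
  have hGr : G (refl Q a) = 1 + Matrix.vecMulVec x α := by
    ext i j
    simp only [G, LinearMap.toMatrix_apply, Matrix.add_apply, Matrix.vecMulVec_apply, hα, Pi.smul_apply,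
      hMx, LinearEquiv.coe_coe, refl_apply, map_sub, map_smul, Finsupp.sub_apply, Finsupp.smul_apply,
      b.repr_self, Finsupp.single_apply, smul_eq_mul, CharTwo.sub_eq_add, polar_comm _ a (b j), hx]
    rw [Matrix.one_apply]
    simp only [eq_comm]
    rw [show (M *ᵥ fun i => b.repr a i) j = polar Q (b j) a from hMx j]
    ring
  have hxx : x ⬝ᵥ (C *ᵥ x) = Q a := by
    rw [← hCQ a, hC]
    exact (LinearMap.BilinForm.apply_eq_dotProduct_toMatrix_mulVec b (Q.toBilin b) a a).symm
  set c₁ := Cᵀ *ᵥ x with hc₁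
  have hc₂ : C *ᵥ x = Q a • α + c₁ := by
    rw [hα, smul_smul, mul_inv_cancel₀ ha, one_smul, ← hCM, Matrix.add_mulVec, hc₁, add_assoc]
    ext i
    simp [CharTwo.add_self_eq_zero]
  rw [key (refl Q a) (Matrix.vecMulVec α c₁) ?_]
  · have e : (Matrix.vecMulVec α c₁ * J).trace = c₁ ⬝ᵥ (J *ᵥ α) := by
      rw [Matrix.trace_mul_comm, Matrix.mul_vecMulVec, Matrix.trace_vecMulVec, dotProduct_comm]
    rw [e, hα, Matrix.mulVec_smul, Matrix.mulVec_mulVec, hJ, Matrix.nonsing_inv_mul M hMu, Matrix.one_mulVec,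
      dotProduct_smul, hc₁, Matrix.mulVec_transpose, ← Matrix.dotProduct_mulVec, hxx, smul_eq_mul,
      inv_mul_cancel₀ ha]
  · show Matrix.vecMulVec α c₁ + (Matrix.vecMulVec α c₁)ᵀ = (G (refl Q a))ᵀ * C * G (refl Q a) + C
    rw [hGr]
    set X := Matrix.vecMulVec x α with hX
    have eA : Xᵀ * C = Matrix.vecMulVec α c₁ := by
      rw [hX, Matrix.transpose_vecMulVec, Matrix.vecMulVec_mul, hc₁, Matrix.mulVec_transpose]
    have eB : C * X = Matrix.vecMulVec (Q a • α + c₁) α := by
      rw [hX, Matrix.mul_vecMulVec, hc₂]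
    have h3 : c₁ ⬝ᵥ x = Q a := by rw [hc₁, Matrix.mulVec_transpose, ← Matrix.dotProduct_mulVec, hxx]
    have eC : ∀ i j, (Matrix.vecMulVec α c₁ * X) i j = α i * Q a * α j := fun i j => by
      rw [← h3]
      simp only [Matrix.mul_apply, hX, Matrix.vecMulVec_apply, dotProduct, Finset.mul_sum, Finset.sum_mul]
      exact Finset.sum_congr rfl fun k _ => by ring
    rw [Matrix.transpose_add, Matrix.transpose_one, Matrix.add_mul, Matrix.one_mul, eA, Matrix.mul_add,
      Matrix.mul_one, Matrix.add_mul, eB]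
    ext i j
    simp only [Matrix.add_apply, eC, Matrix.vecMulVec_apply, Matrix.transpose_apply, Pi.add_apply,
      Pi.smul_apply, smul_eq_mul]
    linear_combination -(CharTwo.two_eq_zero (R := F)) * (C i j + Q a * α i * α j)

end CfsgLib.Orth
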