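import Cfsg.Agent.Lib.Orth.Basic

set_option autoImplicit false
set_option linter.unusedSectionVars false

/-!
The spinor norm over a finite field of odd order as the sign of the permutation of `{v | Q v = c}`.
-/

namespace CfsgLib.Orth

open QuadraticMap

variable {F V : Type*} [Field F] [AddCommGroup V] [Module F V] (Q : QuadraticForm F V)

/-- The permutation of the vectors of norm `c` induced by an isometry. -/
def levelPerm (c : F) : orthGroup Q →* Equiv.Perm {v : V // Q v = c} where
  toFun g := Equiv.Perm.subtypePerm g.1.toEquiv (fun v => by rw [LinearEquiv.coe_toEquiv, apply_quad])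
  map_one' := Equiv.ext fun v => Subtype.ext rfl
  map_mul' g h := Equiv.ext fun v => Subtype.ext rfl

theorem levelPerm_apply (c : F) (g : orthGroup Q) (v : {v : V // Q v = c}) :
    ((levelPerm Q c g v : {v : V // Q v = c}) : V) = g.1 v := rfl

variable [Finite V]

/-- The sign of that permutation. -/
noncomputable def levelSign (c : F) : orthGroup Q →* ℤˣ :=
  letI := Classical.decEq {v : V // Q v = c}
  letI := Fintype.ofFinite {v : V // Q v = c}
  Equiv.Perm.sign.comp (levelPerm Q c)

theorem even_card_of_involution {α : Type*} (s : Finset α) (f : α → α) (hmem : ∀ a ∈ s, f a ∈ s)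
    (hne : ∀ a ∈ s, f a ≠ a) (hinv : ∀ a ∈ s, f (f a) = a) : Even s.card := by
  have h : ∏ _a ∈ s, (-1 : ℤ) = 1 :=
    Finset.prod_involution (fun a _ => f a) (fun a _ => by norm_num) (fun a ha _ => hne a ha)
      hmem hinv
  rw [Finset.prod_const] at h
  exact (neg_one_pow_eq_one_iff_even (by norm_num)).1 h

theorem sign_of_mul_self_eq_one {α : Type*} [Fintype α] [DecidableEq α] {σ : Equiv.Perm α} (h : σ * σ = 1) :
    ∃ k, σ.support.card = 2 * k ∧ Equiv.Perm.sign σ = (-1 : ℤˣ) ^ k := by
  have h2 : ∀ n ∈ σ.cycleType, n = 2 := fun n hn => by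
    have hd : n ∣ 2 := dvd_trans (Equiv.Perm.dvd_of_mem_cycleType hn)
      (orderOf_dvd_of_pow_eq_one (by rwa [pow_two]))
    exact ((Nat.dvd_prime Nat.prime_two).1 hd).resolve_left
      (fun e => by have := Equiv.Perm.two_le_of_mem_cycleType hn; omega)
  have hr : σ.cycleType = Multiset.replicate (Multiset.card σ.cycleType) 2 :=
    Multiset.eq_replicate.2 ⟨rfl, h2⟩
  refine ⟨Multiset.card σ.cycleType, ?_, ?_⟩
  · rw [← Equiv.Perm.sum_cycleType, hr, Multiset.sum_replicate, Multiset.card_replicate, smul_eq_mul, mul_comm]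
  · rw [Equiv.Perm.sign_of_cycleType, hr, Multiset.sum_replicate, Multiset.card_replicate, smul_eq_mul,
      pow_add, pow_mul', neg_one_sq, one_pow, one_mul]

theorem levelSign_refl [Fintype F] (h2 : (2 : F) ≠ 0) {c : F} (hc : c ≠ 0) {a : V} (ha : Q a ≠ 0)
    [Decidable (IsSquare (c * Q a))] :
    levelSign Q c (refl Q a) = if IsSquare (c * Q a) then -1 else 1 := by
  classical
  letI : Fintype V := Fintype.ofFinite V
  set X := {v : V // Q v = c}
  unfold levelSign
  rw [MonoidHom.comp_apply]
  generalize Classical.decEq X = dX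
  generalize Fintype.ofFinite X = fX
  set σ := levelPerm Q c (refl Q a)
  obtain ⟨k, hk, hs⟩ := sign_of_mul_self_eq_one (σ := σ)
    (by rw [← map_mul, refl_mul_self, map_one])
  rw [hs]
  -- the moved vectors
  set M := Finset.univ.filter fun v : V => Q v = c ∧ polar Q a v ≠ 0 with hM
  have hcard : σ.support.card = M.card := by
    rw [← Finset.card_map (Function.Embedding.subtype _)]
    congr 1
    ext v
    simp only [Finset.mem_map, Equiv.Perm.mem_support, Function.Embedding.coe_subtype, hM, Finset.mem_filter,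
      Finset.mem_univ, true_and]
    constructor
    · rintro ⟨w, hw, rfl⟩
      refine ⟨w.2, fun h => hw (Subtype.ext ?_)⟩
      rw [levelPerm_apply]; exact refl_fix Q h
    · rintro ⟨hv, hp⟩
      refine ⟨⟨v, hv⟩, fun h => hp ?_, rfl⟩
      have h' := congrArg Subtype.val h
      rw [levelPerm_apply, refl_apply, sub_eq_self, smul_eq_zero, mul_eq_zero, inv_eq_zero] at h'
      rcases h' with (h' | h') | h'
      · exact absurd h' ha
      · exact h'
      · simp [h'] at ha
  set R := M.filter fun v => v ∉ (F ∙ a) with hR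
  set L := M.filter fun v => v ∈ (F ∙ a) with hL
  have hsplit : M.card = L.card + R.card := (Finset.card_filter_add_card_filter_not _).symm
  -- a half system
  let e := Fintype.equivFin F
  let pos : F → Prop := fun x => e x < e (-x)
  have hpos : ∀ x : F, x ≠ 0 → (pos (-x) ↔ ¬ pos x) := by
    intro x hx
    have hne : e x ≠ e (-x) := fun h => by
      have h' := e.injective h
      apply mul_ne_zero h2 hx
      linear_combination h'
    simp only [pos, neg_neg]
    omega
  have hMneg : ∀ v ∈ M, -v ∈ M := fun v hv => by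
    simp only [hM, Finset.mem_filter, Finset.mem_univ, true_and, QuadraticMap.map_neg, polar_neg_right] at hv ⊢
    exact ⟨hv.1, neg_ne_zero.2 hv.2⟩
  set R₁ := R.filter fun v => pos (polar Q a v) with hR₁
  set R₂ := R.filter fun v => ¬ pos (polar Q a v) with hR₂
  have hR2 : R₂.card = R₁.card := by
    refine Finset.card_bij' (fun v _ => -v) (fun v _ => -v) ?_ ?_ (fun v _ => neg_neg v) (fun v _ => neg_neg v)
    · intro v hv
      simp only [hR₂, hR₁, hR, Finset.mem_filter] at hv ⊢
      refine ⟨⟨hMneg v hv.1.1, fun h => hv.1.2 (by simpa using Submodule.neg_mem _ h)⟩, ?_⟩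
      rw [polar_neg_right, hpos _ (Finset.mem_filter.1 hv.1.1).2.2]
      exact hv.2
    · intro v hv
      simp only [hR₂, hR₁, hR, Finset.mem_filter] at hv ⊢
      refine ⟨⟨hMneg v hv.1.1, fun h => hv.1.2 (by simpa using Submodule.neg_mem _ h)⟩, ?_⟩
      rw [polar_neg_right, hpos _ (Finset.mem_filter.1 hv.1.1).2.2, not_not]
      exact hv.2
  have hev : Even R₁.card := by
    refine even_card_of_involution R₁ (fun v => -(refl Q a).1 v) ?_ ?_ ?_
    · intro v hv
      simp only [hR₁, hR, hM, Finset.mem_filter, Finset.mem_univ, true_and] at hv ⊢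
      have hp : polar Q a (-(refl Q a).1 v) = polar Q a v := by
        have h3 := polar_isom (refl Q a) a v
        rw [refl_self Q ha, polar_neg_left] at h3
        rw [polar_neg_right]; exact h3
      refine ⟨⟨⟨by rw [QuadraticMap.map_neg, apply_quad]; exact hv.1.1.1, by rw [hp]; exact hv.1.1.2⟩, fun h => hv.1.2 ?_⟩, by rw [hp]; exact hv.2⟩
      have h' := Submodule.neg_mem _ h
      rw [neg_neg, refl_apply] at h'
      simpa using Submodule.add_mem _ h' (Submodule.smul_mem _ ((Q a)⁻¹ * polar Q a v) (Submodule.mem_span_singleton_self a))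
    · intro v hv h
      simp only [hR₁, hR, Finset.mem_filter] at hv
      apply hv.1.2
      rw [refl_apply, neg_sub, sub_eq_iff_eq_add] at h
      refine Submodule.mem_span_singleton.2 ⟨(2 : F)⁻¹ * ((Q a)⁻¹ * polar Q a v), ?_⟩
      rw [← smul_smul, h, ← two_smul F v, inv_smul_smul₀ h2]
    · intro v _
      rw [map_neg, neg_neg]
      exact LinearEquiv.congr_fun (congrArg Subtype.val (refl_mul_self Q a)) v
  obtain ⟨j, hj⟩ := hev
  have hRcard : R.card = 4 * j := by
    have := Finset.card_filter_add_card_filter_not (s := R) (fun v => pos (polar Q a v))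
    rw [← hR₁, ← hR₂, hR2] at this
    omega
  have hLmem : ∀ v, v ∈ L ↔ ∃ t : F, t • a = v ∧ t * t * Q a = c := by
    intro v
    simp only [hL, hM, Finset.mem_filter, Finset.mem_univ, true_and, Submodule.mem_span_singleton]
    constructor
    · rintro ⟨⟨hv, -⟩, t, rfl⟩
      exact ⟨t, rfl, by rw [← quad_smul']; exact hv⟩
    · rintro ⟨t, rfl, ht⟩
      refine ⟨⟨by rw [quad_smul']; exact ht, ?_⟩, t, rfl⟩
      rw [polar_smul_r', polar_self']
      have ht0 : t ≠ 0 := fun h => hc (by simp [← ht, h])
      exact mul_ne_zero ht0 (mul_ne_zero h2 ha)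
  by_cases hsq : IsSquare (c * Q a)
  · rw [if_pos hsq]
    obtain ⟨w, hw⟩ := hsq
    set t := w / Q a
    have ht : t * t * Q a = c := by simp only [t]; field_simp; linear_combination -hw
    have ha0 : a ≠ 0 := fun h => by simp [h] at ha
    have hLeq : L = {t • a, -(t • a)} := by
      ext v
      rw [hLmem, Finset.mem_insert, Finset.mem_singleton]
      constructor
      · rintro ⟨s, rfl, hs⟩
        have : (s - t) * (s + t) = 0 := by
          apply mul_right_cancel₀ ha
          linear_combination hs - ht
        rcases mul_eq_zero.1 this with h | h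
        · exact Or.inl (by rw [sub_eq_zero.1 h])
        · exact Or.inr (by rw [eq_neg_of_add_eq_zero_left h, neg_smul])
      · rintro (rfl | rfl)
        · exact ⟨t, rfl, ht⟩
        · exact ⟨-t, neg_smul _ _, by rw [neg_mul_neg]; exact ht⟩
    have hne : t • a ≠ -(t • a) := by
      intro h
      rw [eq_neg_iff_add_eq_zero, ← two_smul F, smul_smul, smul_eq_zero] at h
      rcases h with h | h
      · exact mul_ne_zero h2 (fun h' => hc (by simp [← ht, h'])) h
      · exact ha0 h
    have hk' : k = 2 * j + 1 := by
      rw [hcard, hsplit, hRcard, hLeq, Finset.card_pair hne] at hk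
      omega
    rw [hk', pow_succ, pow_mul, neg_one_sq, one_pow, one_mul]
  · rw [if_neg hsq]
    have hLeq : L = ∅ := by
      refine Finset.eq_empty_iff_forall_notMem.2 fun v hv => hsq ?_
      obtain ⟨t, -, ht⟩ := (hLmem v).1 hv
      exact ⟨t * Q a, by rw [← ht]; ring⟩
    have hk' : k = 2 * j := by
      rw [hcard, hsplit, hRcard, hLeq, Finset.card_empty] at hk
      omega
    rw [hk', pow_mul, neg_one_sq, one_pow]

end CfsgLib.Orth
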