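import Cfsg.Agent.Lib.Orth.Witt
import Cfsg.Agent.Lib.Orth.SignHom
import Cfsg.Agent.Lib.Orth.Dickson

set_option autoImplicit false
set_option linter.unusedSectionVars false

/-!
The commutator subgroup of the orthogonal group over a finite field.

Two reflections are congruent modulo commutators when the values of the form lie in one square class;
consequently the commutator subgroup consists, for odd order, of the isometries of determinant one and
trivial spinor norm, and in characteristic two of those with trivial Dickson invariant.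
-/

namespace CfsgLib.Orth

open QuadraticMap Module

variable {F V : Type*} [Field F] [AddCommGroup V] [Module F V] [FiniteDimensional F V]
variable {Q : QuadraticForm F V} (hQ : (QuadraticMap.polarBilin Q).Nondegenerate)

/-- The hypothesis excluding the orthogonal groups of dimension four over the field of two elements. -/
def Good (F V : Type*) [Field F] [AddCommGroup V] [Module F V] : Prop :=
  (∃ a : F, a ≠ 0 ∧ a ≠ 1) ∨ finrank F V ≠ 4

theorem good_of [Fintype F] (h : Fintype.card F ≠ 2 ∨ finrank F V ≠ 4) : Good F V := by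
  classical
  rcases h with h | h
  · left
    by_contra hall
    push Not at hall
    apply h
    have : (Finset.univ : Finset F) = {0, 1} := by
      ext x
      simp only [Finset.mem_univ, Finset.mem_insert, Finset.mem_singleton, true_iff]
      exact (em (x = 0)).imp_right (hall x)
    rw [← Finset.card_univ, this, Finset.card_pair zero_ne_one]
  · exact Or.inr h

theorem good_of_two_ne (h2 : (2 : F) ≠ 0) : Good F V :=
  Or.inl ⟨-1, neg_ne_zero.2 one_ne_zero, fun h => h2 (by linear_combination -h)⟩

include hQ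

/-- Isometries act transitively on the vectors of given non-zero norm, up to the group. -/
theorem exists_map_eq (h4 : Good F V) {u w : V} (hu : u ≠ 0) (hw : w ≠ 0) (h : Q u = Q w) :
    ∃ g : orthGroup Q, g.1 u = w := by
  obtain ⟨g, -, hg⟩ := witt_family hQ h4 ![u] ![w]
    (LinearIndependent.of_subsingleton 0 hu)
    (LinearIndependent.of_subsingleton 0 hw)
    (fun i => by fin_cases i; exact h) (fun i j => by
      fin_cases i; fin_cases j
      simp [polar_self', h])
  exact ⟨g, hg 0⟩

theorem ab_refl_eq (h4 : Good F V) {a b : V} (ha : Q a ≠ 0) (hb : Q b ≠ 0) (hsq : IsSquare (Q a * Q b)) :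
    Abelianization.of (refl Q a) = Abelianization.of (refl Q b) := by
  obtain ⟨w, hw⟩ := hsq
  have hw0 : w ≠ 0 := fun h => by rw [h, mul_zero] at hw; exact mul_ne_zero ha hb hw
  set t := w / Q b with ht
  have ht0 : t ≠ 0 := div_ne_zero hw0 hb
  have hq : Q (t • b) = Q a := by
    rw [quad_smul', ht]; field_simp; linear_combination -hw
  obtain ⟨g, hg⟩ := exists_map_eq hQ h4 (u := a) (w := t • b) (fun h => by simp [h] at ha)
    (smul_ne_zero ht0 (fun h => by simp [h] at hb)) hq.symm
  rw [← refl_smul Q ht0 b, ← hg, ← conj_refl, map_mul, map_mul, mul_comm (Abelianization.of g), mul_assoc,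
    ← map_mul, mul_inv_cancel, map_one, mul_one]

omit hQ in
theorem mem_commutator_iff (g : orthGroup Q) : g ∈ commutator (orthGroup Q) ↔ Abelianization.of g = 1 := by
  rw [← Abelianization.ker_of, MonoidHom.mem_ker]

omit hQ in
theorem ab_refl_sq (a : V) : Abelianization.of (refl Q a) * Abelianization.of (refl Q a) = 1 := by
  rw [← map_mul, refl_mul_self, map_one]

/-- In every isometry group the abelianization has exponent two. -/
theorem ab_sq (h4 : Good F V) (g : orthGroup Q) : Abelianization.of g * Abelianization.of g = 1 := by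
  have hg : g ∈ reflGroup Q := by rw [reflGroup_eq_top hQ h4]; trivial
  induction hg using Subgroup.closure_induction with
  | mem x hx => obtain ⟨a, rfl⟩ := hx; exact ab_refl_sq a
  | one => simp
  | mul x y _ _ hx hy => rw [map_mul, mul_mul_mul_comm, hx, hy, one_mul]
  | inv x _ hx => rw [map_inv, ← mul_inv_rev, hx, inv_one]

/-- A subgroup meeting every class of reflections meets every coset of the commutator subgroup. -/
theorem exists_mem_ab_eq (h4 : Good F V) (S : Subgroup (orthGroup Q))
    (hS : ∀ a, Q a ≠ 0 → ∃ s ∈ S, Abelianization.of s = Abelianization.of (refl Q a))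
    (g : orthGroup Q) : ∃ s ∈ S, Abelianization.of s = Abelianization.of g := by
  have hg : g ∈ reflGroup Q := by rw [reflGroup_eq_top hQ h4]; trivial
  induction hg using Subgroup.closure_induction with
  | mem x hx =>
    obtain ⟨a, rfl⟩ := hx
    by_cases ha : Q a = 0
    · refine ⟨1, one_mem _, ?_⟩
      have : refl Q a = 1 := Subtype.ext (LinearEquiv.ext fun v => by
        rw [refl_apply, ha]; simp)
      rw [this]
    · exact hS a ha
  | one => exact ⟨1, one_mem _, rfl⟩
  | mul x y _ _ hx hy =>
    obtain ⟨s, hs, hse⟩ := hx; obtain ⟨t, ht, hte⟩ := hy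
    exact ⟨s * t, mul_mem hs ht, by rw [map_mul, map_mul, hse, hte]⟩
  | inv x _ hx =>
    obtain ⟨s, hs, hse⟩ := hx
    exact ⟨s⁻¹, inv_mem hs, by rw [map_inv, map_inv, hse]⟩

/-- Odd order: the commutator subgroup is the kernel of determinant and spinor norm. -/
theorem mem_commutator_odd [Fintype F] [Finite V] (h2 : (2 : F) ≠ 0) (g : orthGroup Q) :
    g ∈ commutator (orthGroup Q) ↔
      LinearMap.det (g.1 : V →ₗ[F] V) = 1 ∧ levelSign Q 1 g = 1 := by
  classical
  have h4 : Good F V := good_of_two_ne h2
  let δ : orthGroup Q →* F :=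
    { toFun := fun g => LinearMap.det (g.1 : V →ₗ[F] V)
      map_one' := LinearMap.det_id
      map_mul' := fun x y => map_mul LinearMap.det (x.1 : V →ₗ[F] V) (y.1 : V →ₗ[F] V) }
  constructor
  · intro hg
    constructor
    · have h := Abelianization.commutator_subset_ker δ.toHomUnits hg
      rw [MonoidHom.mem_ker] at h
      exact congrArg Units.val h
    · exact MonoidHom.mem_ker.1 (Abelianization.commutator_subset_ker (levelSign Q 1) hg)
  rintro ⟨hd, hs⟩
  let ab : orthGroup Q →* Abelianization (orthGroup Q) := Abelianization.of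
  -- representatives of the two classes
  obtain ⟨s, hs2, hsa⟩ : ∃ s : Abelianization (orthGroup Q), s * s = 1 ∧
      ∀ a, Q a ≠ 0 → IsSquare (Q a) → ab (refl Q a) = s := by
    by_cases h : ∃ a, Q a ≠ 0 ∧ IsSquare (Q a)
    · obtain ⟨b, hb, hbs⟩ := h
      exact ⟨ab (refl Q b), ab_refl_sq b, fun a ha has => ab_refl_eq hQ h4 ha hb (has.mul hbs)⟩
    · exact ⟨1, one_mul 1, fun a ha has => absurd ⟨a, ha, has⟩ h⟩
  obtain ⟨t, ht2, hta⟩ : ∃ t : Abelianization (orthGroup Q), t * t = 1 ∧
      ∀ a, Q a ≠ 0 → ¬ IsSquare (Q a) → ab (refl Q a) = t := by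
    by_cases h : ∃ a, Q a ≠ 0 ∧ ¬ IsSquare (Q a)
    · obtain ⟨b, hb, hbs⟩ := h
      refine ⟨ab (refl Q b), ab_refl_sq b, fun a ha has => ab_refl_eq hQ h4 ha hb ?_⟩
      rw [← quadraticChar_one_iff_isSquare (mul_ne_zero ha hb), map_mul,
        quadraticChar_neg_one_iff_not_isSquare.2 has, quadraticChar_neg_one_iff_not_isSquare.2 hbs]
      norm_num
    · exact ⟨1, one_mul 1, fun a ha has => absurd ⟨a, ha, has⟩ h⟩
  have key : ∀ g : orthGroup Q, ∃ i j : ℕ, ab g = s ^ i * t ^ j ∧
      δ g = (-1) ^ (i + j) ∧ levelSign Q 1 g = (-1) ^ i := by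
    intro g
    have hg : g ∈ reflGroup Q := by rw [reflGroup_eq_top hQ h4]; trivial
    induction hg using Subgroup.closure_induction with
    | mem x hx =>
      obtain ⟨a, rfl⟩ := hx
      by_cases ha : Q a = 0
      · refine ⟨0, 0, ?_⟩
        have : refl Q a = 1 := Subtype.ext (LinearEquiv.ext fun v => by rw [refl_apply, ha]; simp)
        rw [this, map_one, map_one, map_one]
        simp
      have hd : δ (refl Q a) = -1 := det_refl Q ha
      have hθ := levelSign_refl Q h2 one_ne_zero ha
      rw [one_mul] at hθ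
      by_cases has : IsSquare (Q a)
      · exact ⟨1, 0, by rw [hsa a ha has]; simp, by rw [hd]; simp, by rw [hθ, if_pos has]; simp⟩
      · exact ⟨0, 1, by rw [hta a ha has]; simp, by rw [hd]; simp, by rw [hθ, if_neg has]; simp⟩
    | one => exact ⟨0, 0, by simp, by simp, by simp⟩
    | mul x y _ _ hx hy =>
      obtain ⟨i, j, h1, h2, h3⟩ := hx; obtain ⟨i', j', h1', h2', h3'⟩ := hy
      refine ⟨i + i', j + j', by rw [map_mul, h1, h1', pow_add, pow_add, mul_mul_mul_comm],
        by rw [map_mul, h2, h2', ← pow_add]; ring_nf, by rw [map_mul, h3, h3', pow_add]⟩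
    | inv x _ hx =>
      obtain ⟨i, j, h1, h2, h3⟩ := hx
      refine ⟨i, j, ?_, ?_, ?_⟩
      · rw [map_inv]
        exact inv_eq_of_mul_eq_one_right (by
          rw [h1, mul_mul_mul_comm, ← mul_pow, ← mul_pow, hs2, ht2, one_pow, one_pow, one_mul])
      · have h : δ x⁻¹ * δ x = 1 := by rw [← map_mul, inv_mul_cancel, map_one]
        have hsq : ((-1 : F) ^ (i + j)) * (-1) ^ (i + j) = 1 := by rw [← mul_pow, neg_mul_neg, one_mul, one_pow]
        rw [h2] at h
        calc δ x⁻¹ = δ x⁻¹ * ((-1) ^ (i + j) * (-1) ^ (i + j)) := by rw [hsq, mul_one]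
          _ = _ := by rw [← mul_assoc, h, one_mul]
      · rw [map_inv, h3, Int.units_inv_eq_self]
  obtain ⟨i, j, h1, hd', hs'⟩ := key g
  rw [mem_commutator_iff]
  show ab g = 1
  have hd1 : (-1 : F) ^ (i + j) = 1 := hd'.symm.trans hd
  have hie : Even i := by
    rw [hs] at hs'
    rcases Nat.even_or_odd i with h | h
    · exact h
    · rw [h.neg_one_pow] at hs'; exact absurd hs' (by decide)
  have hje : Even j := by
    rcases Nat.even_or_odd j with h | h
    · exact h
    · rw [(hie.add_odd h).neg_one_pow] at hd1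
      exact absurd (by linear_combination -hd1 : (2 : F) = 0) h2
  obtain ⟨i', rfl⟩ := hie; obtain ⟨j', rfl⟩ := hje
  rw [h1, pow_add, pow_add, ← mul_pow, ← mul_pow, hs2, ht2, one_pow, one_pow, one_mul]

/-- Characteristic two: the commutator subgroup is the kernel of the Dickson invariant. -/
theorem mem_commutator_two [Fintype F] [CharP F 2] (h4 : Good F V) (κ : orthGroup Q →* Multiplicative F)
    (hκ : ∀ a, Q a ≠ 0 → κ (refl Q a) = Multiplicative.ofAdd 1) (g : orthGroup Q) :
    g ∈ commutator (orthGroup Q) ↔ κ g = 1 := by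
  constructor
  · intro hg; exact MonoidHom.mem_ker.1 (Abelianization.commutator_subset_ker κ hg)
  intro hg
  let ab : orthGroup Q →* Abelianization (orthGroup Q) := Abelianization.of
  obtain ⟨s, hs2, hsa⟩ : ∃ s : Abelianization (orthGroup Q), s * s = 1 ∧ ∀ a, Q a ≠ 0 → ab (refl Q a) = s := by
    by_cases h : ∃ a, Q a ≠ 0
    · obtain ⟨b, hb⟩ := h
      exact ⟨ab (refl Q b), ab_refl_sq b, fun a ha => ab_refl_eq hQ h4 ha hb
        (FiniteField.isSquare_of_char_two (ringChar.eq F 2) _)⟩
    · exact ⟨1, one_mul 1, fun a ha => absurd ⟨a, ha⟩ h⟩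
  have key : ∀ g : orthGroup Q, ∃ i : ℕ, ab g = s ^ i ∧ κ g = Multiplicative.ofAdd (i : F) := by
    intro g
    have hg : g ∈ reflGroup Q := by rw [reflGroup_eq_top hQ h4]; trivial
    induction hg using Subgroup.closure_induction with
    | mem x hx =>
      obtain ⟨a, rfl⟩ := hx
      by_cases ha : Q a = 0
      · refine ⟨0, ?_⟩
        have : refl Q a = 1 := Subtype.ext (LinearEquiv.ext fun v => by rw [refl_apply, ha]; simp)
        rw [this, map_one, map_one]; simp
      · exact ⟨1, by rw [hsa a ha]; simp, by rw [hκ a ha]; simp⟩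
    | one => exact ⟨0, by simp, by simp⟩
    | mul x y _ _ hx hy =>
      obtain ⟨i, h1, h2⟩ := hx; obtain ⟨i', h1', h2'⟩ := hy
      exact ⟨i + i', by rw [map_mul, h1, h1', pow_add], by rw [map_mul, h2, h2', ← ofAdd_add, Nat.cast_add]⟩
    | inv x _ hx =>
      obtain ⟨i, h1, h2⟩ := hx
      refine ⟨i, ?_, by rw [map_inv, h2, ← ofAdd_neg, CharTwo.neg_eq]⟩
      rw [map_inv]
      exact inv_eq_of_mul_eq_one_right (by rw [h1, ← mul_pow, hs2, one_pow])
  obtain ⟨i, h1, h2⟩ := key g
  rw [mem_commutator_iff]
  show ab g = 1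
  rw [hg] at h2
  have : (i : F) = 0 := congrArg Multiplicative.toAdd h2.symm
  obtain ⟨k, rfl⟩ := (CharP.cast_eq_zero_iff F 2 i).1 this
  rw [h1, pow_mul, pow_two, hs2, one_pow]

end CfsgLib.Orth
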