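import Cfsg.Prelude.Def_ClassicalGeometry
import Cfsg.Agent.Lib.Orth.Omega

set_option autoImplicit false
set_option linter.unusedSectionVars false

/-! The matrix isometry groups and `Omega` of the prelude in terms of `orthGroup`. -/

namespace CfsgLib.Orth

open QuadraticMap Matrix

variable {F : Type*} [Field F] {ι : Type} [Fintype ι] [DecidableEq ι]
variable {Qf : (ι → F) → F} (Q : QuadraticForm F (ι → F)) (hQf : ∀ v, Qf v = Q v)

/-- The matrix of an element of `orthGroup Q`. -/
noncomputable def matOf (g : orthGroup Q) : Matrix ι ι F := LinearMap.toMatrix' (g.1 : (ι → F) →ₗ[F] (ι → F))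

theorem matOf_mulVec (g : orthGroup Q) (v : ι → F) : matOf Q g *ᵥ v = g.1 v := by
  rw [matOf, LinearMap.toMatrix'_mulVec]; rfl

theorem matOf_mul (g h : orthGroup Q) : matOf Q (g * h) = matOf Q g * matOf Q h :=
  LinearMap.toMatrix'_comp _ _

theorem matOf_one : matOf Q 1 = 1 := LinearMap.toMatrix'_id

/-- The isometry group of the prelude is the orthogonal group. -/
noncomputable def toOrth : ↥(Cfsg.isometryGroup F Qf) ≃* orthGroup Q where
  toFun g := ⟨(Matrix.GeneralLinearGroup.toLin g.1).toLinearEquiv, fun v => by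
    rw [← hQf, ← hQf]
    exact g.2 v v⟩
  invFun g := ⟨{ val := matOf Q g, inv := matOf Q g⁻¹,
                 val_inv := by rw [← matOf_mul, mul_inv_cancel, matOf_one],
                 inv_val := by rw [← matOf_mul, inv_mul_cancel, matOf_one] }, fun u _ => by
    show Qf (matOf Q g *ᵥ u) = Qf u
    rw [matOf_mulVec, hQf, hQf, apply_quad]⟩
  left_inv g := by
    refine Subtype.ext (Units.ext ?_)
    exact LinearMap.toMatrix'_toLin' _
  right_inv g := by
    refine Subtype.ext (LinearEquiv.ext fun v => ?_)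
    exact matOf_mulVec Q g v
  map_mul' g h := by
    refine Subtype.ext (LinearEquiv.ext fun v => ?_)
    show ((g.1 * h.1 : GL ι F) : Matrix ι ι F) *ᵥ v =
      ((g.1 : Matrix ι ι F)) *ᵥ (((h.1 : Matrix ι ι F)) *ᵥ v)
    rw [Units.val_mul, Matrix.mulVec_mulVec]

theorem toOrth_apply (g : ↥(Cfsg.isometryGroup F Qf)) (v : ι → F) :
    (toOrth Q hQf g).1 v = ((g : GL ι F) : Matrix ι ι F) *ᵥ v := rfl

theorem toOrth_symm_coe (g : orthGroup Q) :
    (((toOrth Q hQf).symm g : GL ι F) : Matrix ι ι F) = matOf Q g := rfl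

theorem mem_Omega_iff (g : ↥(Cfsg.isometryGroup F Qf)) :
    g ∈ Cfsg.Omega F Qf ↔ toOrth Q hQf g ∈ commutator (orthGroup Q) := by
  show g ∈ commutator _ ↔ _
  rw [mem_commutator_iff]
  rw [← Abelianization.ker_of, MonoidHom.mem_ker]
  constructor
  · intro h
    have := congrArg (Abelianization.map (toOrth Q hQf).toMonoidHom) h
    rwa [Abelianization.map_of, map_one] at this
  · intro h
    have := congrArg (Abelianization.map (toOrth Q hQf).symm.toMonoidHom) h
    rw [Abelianization.map_of, map_one] at this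
    simpa using this

theorem matOf_refl (a : ι → F) : matOf Q (refl Q a) = Cfsg.reflectionMatrix ⇑Q a := by
  apply Matrix.toLin'.injective
  refine LinearMap.ext fun v => ?_
  rw [Matrix.toLin'_apply, Matrix.toLin'_apply, matOf_mulVec, refl_apply, Cfsg.reflectionMatrix,
    Matrix.sub_mulVec, Matrix.one_mulVec, Matrix.smul_mulVec, Matrix.vecMulVec_mulVec, op_smul_eq_smul, smul_smul]
  congr 2
  congr 1
  conv_lhs => rw [show v = ∑ j, v j • Pi.single j (1 : F) from pi_eq_sum_univ' v,
    ← QuadraticMap.polarBilin_apply_apply, map_sum]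
  simp [Cfsg.polarVec, dotProduct, mul_comm]

theorem det_toOrth (g : ↥(Cfsg.isometryGroup F Qf)) :
    LinearMap.det ((toOrth Q hQf g).1 : (ι → F) →ₗ[F] (ι → F)) = ((g : GL ι F) : Matrix ι ι F).det := by
  rw [← LinearMap.det_toLin']
  rfl

end CfsgLib.Orth
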