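import Cfsg.Agent.Lib.Orth.Bridge

set_option autoImplicit false
set_option linter.unusedSectionVars false

/-! The standard forms of the prelude as quadratic forms. -/

namespace CfsgLib.Orth

open QuadraticMap Matrix

variable (F : Type*) [Field F]

/-- `Σ x_i y_i`. -/
noncomputable def plusForm (m : ℕ) : QuadraticForm F (Fin m ⊕ Fin m → F) :=
  ∑ i : Fin m, QuadraticMap.linMulLin (LinearMap.proj (Sum.inl i)) (LinearMap.proj (Sum.inr i))

/-- `x₀² + Σ x_i y_i`. -/
noncomputable def oddForm (m : ℕ) : QuadraticForm F (Unit ⊕ (Fin m ⊕ Fin m) → F) :=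
  QuadraticMap.linMulLin (LinearMap.proj (Sum.inl ())) (LinearMap.proj (Sum.inl ())) +
    ∑ i : Fin m, QuadraticMap.linMulLin (LinearMap.proj (Sum.inr (Sum.inl i))) (LinearMap.proj (Sum.inr (Sum.inr i)))

/-- `Σ x_i y_i + z₁² + a z₁ z₂ + b z₂²`. -/
noncomputable def minusForm (m : ℕ) (a b : F) : QuadraticForm F ((Fin m ⊕ Fin m) ⊕ Fin 2 → F) :=
  ∑ i : Fin m, QuadraticMap.linMulLin (LinearMap.proj (Sum.inl (Sum.inl i))) (LinearMap.proj (Sum.inl (Sum.inr i))) +
    (QuadraticMap.linMulLin (LinearMap.proj (Sum.inr 0)) (LinearMap.proj (Sum.inr 0)) +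
      a • QuadraticMap.linMulLin (LinearMap.proj (Sum.inr 0)) (LinearMap.proj (Sum.inr 1)) +
      b • QuadraticMap.linMulLin (LinearMap.proj (Sum.inr 1)) (LinearMap.proj (Sum.inr 1)))

variable {F}

theorem plusForm_apply (m : ℕ) (v : Fin m ⊕ Fin m → F) : Cfsg.quadFormPlus m F v = plusForm F m v := by
  simp [plusForm, Cfsg.quadFormPlus, _root_.sum_apply]

theorem oddForm_apply (m : ℕ) (v : Unit ⊕ (Fin m ⊕ Fin m) → F) : Cfsg.quadFormOdd m F v = oddForm F m v := by
  simp [oddForm, Cfsg.quadFormOdd, _root_.sum_apply, pow_two]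

theorem minusForm_apply (m : ℕ) (a b : F) (v : (Fin m ⊕ Fin m) ⊕ Fin 2 → F) :
    Cfsg.quadFormMinus m F a b v = minusForm F m a b v := by
  simp [minusForm, Cfsg.quadFormMinus, _root_.sum_apply, pow_two, mul_assoc]

theorem plusForm_polar (m : ℕ) (u v : Fin m ⊕ Fin m → F) :
    polar (plusForm F m) u v = ∑ i, (u (.inl i) * v (.inr i) + u (.inr i) * v (.inl i)) := by
  simp only [polar, ← plusForm_apply, Cfsg.quadFormPlus, Pi.add_apply, ← Finset.sum_sub_distrib]
  exact Finset.sum_congr rfl fun i _ => by ring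

theorem oddForm_polar (m : ℕ) (u v : Unit ⊕ (Fin m ⊕ Fin m) → F) :
    polar (oddForm F m) u v = 2 * u (.inl ()) * v (.inl ()) +
      ∑ i, (u (.inr (.inl i)) * v (.inr (.inr i)) + u (.inr (.inr i)) * v (.inr (.inl i))) := by
  simp only [polar, ← oddForm_apply, Cfsg.quadFormOdd, Pi.add_apply, add_mul, mul_add, Finset.sum_add_distrib]
  simp only [mul_comm (u (Sum.inr (Sum.inr _))) _]
  ring

theorem minusForm_polar (m : ℕ) (a b : F) (u v : (Fin m ⊕ Fin m) ⊕ Fin 2 → F) :
    polar (minusForm F m a b) u v =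
      ∑ i, (u (.inl (.inl i)) * v (.inl (.inr i)) + u (.inl (.inr i)) * v (.inl (.inl i))) +
      (2 * u (.inr 0) * v (.inr 0) + a * (u (.inr 0) * v (.inr 1) + u (.inr 1) * v (.inr 0)) +
        2 * b * u (.inr 1) * v (.inr 1)) := by
  simp only [polar, ← minusForm_apply, Cfsg.quadFormMinus, Pi.add_apply, add_mul, mul_add, Finset.sum_add_distrib]
  simp only [mul_comm (u (Sum.inl (Sum.inr _))) _]
  ring

theorem nondegenerate_of_left {V : Type*} [AddCommGroup V] [Module F V] {Q : QuadraticForm F V}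
    (h : ∀ v, (∀ w, polar Q v w = 0) → v = 0) : (QuadraticMap.polarBilin Q).Nondegenerate :=
  ⟨h, fun v hv => h v fun w => by rw [polar_comm]; exact hv w⟩

theorem plusForm_nondeg (m : ℕ) : (QuadraticMap.polarBilin (plusForm F m)).Nondegenerate := by
  classical
  refine nondegenerate_of_left fun v hv => funext fun k => ?_
  rcases k with i | i
  · simpa [plusForm_polar, Pi.single_apply] using hv (Pi.single (Sum.inr i) 1)
  · simpa [plusForm_polar, Pi.single_apply] using hv (Pi.single (Sum.inl i) 1)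

theorem oddForm_nondeg (m : ℕ) (h2 : (2 : F) ≠ 0) : (QuadraticMap.polarBilin (oddForm F m)).Nondegenerate := by
  classical
  refine nondegenerate_of_left fun v hv => funext fun k => ?_
  rcases k with u | i | i
  · simpa [oddForm_polar, Pi.single_apply, h2] using hv (Pi.single (Sum.inl u) 1)
  · simpa [oddForm_polar, Pi.single_apply] using hv (Pi.single (Sum.inr (Sum.inr i)) 1)
  · simpa [oddForm_polar, Pi.single_apply] using hv (Pi.single (Sum.inr (Sum.inl i)) 1)

theorem minusForm_nondeg [Finite F] (m : ℕ) (a b : F)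
    (hab : ∀ z₁ z₂ : F, z₁ ^ 2 + a * z₁ * z₂ + b * z₂ ^ 2 = 0 → z₁ = 0 ∧ z₂ = 0) :
    (QuadraticMap.polarBilin (minusForm F m a b)).Nondegenerate := by
  classical
  refine nondegenerate_of_left fun v hv => ?_
  have h0 : 2 * v (.inr 0) + a * v (.inr 1) = 0 := by
    simpa [minusForm_polar, Pi.single_apply] using hv (Pi.single (Sum.inr 0) 1)
  have h1 : a * v (.inr 0) + 2 * b * v (.inr 1) = 0 := by
    simpa [minusForm_polar, Pi.single_apply] using hv (Pi.single (Sum.inr 1) 1)
  have hz : v (.inr 0) = 0 ∧ v (.inr 1) = 0 := by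
    by_cases h2 : (2 : F) = 0
    · have ha : a ≠ 0 := by
        rintro rfl
        have : Fintype F := Fintype.ofFinite F
        have hc : ringChar F = 2 := by
          by_contra hne
          exact Ring.two_ne_zero hne h2
        obtain ⟨s, hs⟩ := FiniteField.isSquare_of_char_two hc b
        exact one_ne_zero (hab s 1 (by linear_combination (s * s) * h2 + hs)).2
      rw [h2, zero_mul, zero_add, mul_eq_zero] at h0
      rw [h2, zero_mul, zero_mul, add_zero, mul_eq_zero] at h1
      exact ⟨h1.resolve_left ha, h0.resolve_left ha⟩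
    · apply hab
      apply mul_left_cancel₀ h2
      linear_combination v (.inr 0) * h0 + v (.inr 1) * h1
  refine funext fun k => ?_
  rcases k with (i | i) | i
  · simpa [minusForm_polar, Pi.single_apply] using hv (Pi.single (Sum.inl (Sum.inr i)) 1)
  · simpa [minusForm_polar, Pi.single_apply] using hv (Pi.single (Sum.inl (Sum.inl i)) 1)
  · fin_cases i
    · exact hz.1
    · exact hz.2

end CfsgLib.Orth
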