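import Cfsg.Agent.Lib.Orth.Omega

set_option autoImplicit false
set_option linter.unusedSectionVars false

/-! Transitivity of the commutator subgroup of the orthogonal group on subspaces. -/

namespace CfsgLib.Orth

open QuadraticMap Module

variable {F V : Type*} [Field F] [AddCommGroup V] [Module F V] [FiniteDimensional F V]
variable {Q : QuadraticForm F V}

/-- The isometries carrying a subspace onto itself. -/
def stab (U : Submodule F V) : Subgroup (orthGroup Q) where
  carrier := {g | U.map (g.1 : V →ₗ[F] V) = U}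
  one_mem' := Submodule.map_id U
  mul_mem' := fun {a b} ha hb => by
    show U.map ((a.1 : V →ₗ[F] V).comp (b.1 : V →ₗ[F] V)) = U
    rw [Submodule.map_comp, hb, ha]
  inv_mem' := fun {a} ha => by
    show U.map ((a⁻¹).1 : V →ₗ[F] V) = U
    calc U.map ((a⁻¹).1 : V →ₗ[F] V) = (U.map (a.1 : V →ₗ[F] V)).map ((a⁻¹).1 : V →ₗ[F] V) := by rw [ha]
      _ = U := by
        rw [← Submodule.map_comp]
        have e : ((a⁻¹).1 : V →ₗ[F] V).comp (a.1 : V →ₗ[F] V) = LinearMap.id :=
          LinearMap.ext fun v => a.1.symm_apply_apply v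
        rw [e, Submodule.map_id]

theorem mem_stab_of_le {U : Submodule F V} {g : orthGroup Q} (h : ∀ u ∈ U, g.1 u ∈ U) :
    g ∈ stab (Q := Q) U := by
  refine Submodule.eq_of_le_of_finrank_eq ?_ (LinearEquiv.finrank_map_eq g.1 U)
  rintro _ ⟨u, hu, rfl⟩
  exact h u hu

theorem refl_mem_stab {U : Submodule F V} {a : V} (h : a ∈ U ∨ ∀ u ∈ U, polar Q a u = 0) :
    refl Q a ∈ stab (Q := Q) U := by
  refine mem_stab_of_le fun u hu => ?_
  rcases h with h | h
  · rw [refl_apply]; exact U.sub_mem hu (U.smul_mem _ h)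
  · rw [refl_fix Q (h u hu)]; exact hu

theorem quad_polar_of {U : Submodule F V} {f : U →ₗ[F] V} (hf : ∀ u : U, Q (f u) = Q u) (u v : U) :
    polar Q (f u) (f v) = polar Q (u : V) v := by
  simp only [polar, ← map_add, hf, ← Submodule.coe_add]

variable (hQ : (QuadraticMap.polarBilin Q).Nondegenerate)
include hQ

/-- Witt's theorem for subspaces. -/
theorem exists_map_submodule (h4 : Good F V) {U : Submodule F V} (f : U →ₗ[F] V) (hinj : Function.Injective f)
    (hf : ∀ u : U, Q (f u) = Q u) : ∃ g : orthGroup Q, ∀ u : U, g.1 u = f u := by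
  let b := Module.finBasis F U
  obtain ⟨g, -, hg⟩ := witt_family hQ h4 (fun i => ((b i : U) : V)) (fun i => f (b i))
    (b.linearIndependent.map' U.subtype U.ker_subtype)
    (b.linearIndependent.map' f (LinearMap.ker_eq_bot.2 hinj))
    (fun i => (hf _).symm) (fun i j => (quad_polar_of hf _ _).symm)
  refine ⟨g, fun u => ?_⟩
  have : (g.1 : V →ₗ[F] V).comp U.subtype = f := b.ext fun i => hg i
  exact LinearMap.congr_fun this u

theorem exists_map_eq_submodule (h4 : Good F V) {U W : Submodule F V} (e : U ≃ₗ[F] W)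
    (he : ∀ u : U, Q (e u : V) = Q (u : V)) : ∃ g : orthGroup Q, U.map (g.1 : V →ₗ[F] V) = W := by
  obtain ⟨g, hg⟩ := exists_map_submodule hQ h4 (W.subtype.comp (e : U →ₗ[F] W))
    (W.injective_subtype.comp e.injective) he
  refine ⟨g, le_antisymm ?_ fun w hw => ?_⟩
  · rintro _ ⟨u, hu, rfl⟩
    show g.1 u ∈ W
    rw [hg ⟨u, hu⟩]
    exact (e ⟨u, hu⟩).2
  · refine ⟨(e.symm ⟨w, hw⟩ : U), (e.symm ⟨w, hw⟩).2, ?_⟩
    show g.1 _ = w
    rw [hg]; simp

/-- If the stabiliser of `U` meets every class of reflections, transitivity descends to the commutator subgroup. -/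
theorem exists_commutator_map (h4 : Good F V) {U W : Submodule F V} (g : orthGroup Q)
    (hg : U.map (g.1 : V →ₗ[F] V) = W)
    (hS : ∀ a, Q a ≠ 0 → ∃ s ∈ stab (Q := Q) U, Abelianization.of s = Abelianization.of (refl Q a)) :
    ∃ g' ∈ commutator (orthGroup Q), U.map (g'.1 : V →ₗ[F] V) = W := by
  obtain ⟨s, hs, hse⟩ := exists_mem_ab_eq hQ h4 (stab (Q := Q) U) hS g⁻¹
  refine ⟨g * s, ?_, ?_⟩
  · rw [mem_commutator_iff, map_mul, hse, map_inv, mul_inv_cancel]
  · show U.map ((g.1 : V →ₗ[F] V).comp (s.1 : V →ₗ[F] V)) = W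
    rw [Submodule.map_comp]
    exact (congrArg (Submodule.map (g.1 : V →ₗ[F] V)) hs).trans hg

omit hQ in
theorem value_of_pair {W : Submodule F V} {b z : V} (hb : b ∈ W) (hz : z ∈ W) (hQb : Q b = 0)
    (hbz : polar Q b z ≠ 0) (c : F) : ∃ a ∈ W, Q a = c := by
  refine ⟨((c - Q z) / polar Q b z) • b + z, W.add_mem (W.smul_mem _ hb) hz, ?_⟩
  rw [quad_add', quad_smul', polar_smul_l', hQb, div_mul_cancel₀ _ hbz]
  ring

omit hQ in
/-- A subspace two dimensions larger than its radical takes every value. -/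
theorem exists_value [Fintype F] (W : Submodule F V)
    (h : finrank F ↥(W ⊓ LinearMap.BilinForm.orthogonal (QuadraticMap.polarBilin Q) W) + 2 ≤ finrank F W)
    (c : F) : ∃ a ∈ W, Q a = c := by
  classical
  set R := W ⊓ LinearMap.BilinForm.orthogonal (QuadraticMap.polarBilin Q) W
  have mem_R : ∀ x ∈ W, x ∉ R → ∃ z ∈ W, polar Q x z ≠ 0 := by
    intro x hx hxR
    by_contra hall
    push Not at hall
    exact hxR ⟨hx, fun z hz => by
      show polar Q z x = 0
      rw [polar_comm]; exact hall z hz⟩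
  obtain ⟨a, ha, haQ⟩ : ∃ a ∈ W, Q a ≠ 0 := by
    by_contra hall
    push Not at hall
    have hle : W ≤ R := fun x hx => ⟨hx, fun y hy => by
      show polar Q y x = 0
      simp only [polar, hall _ (W.add_mem hy hx), hall _ hy, hall _ hx, sub_zero]⟩
    have := Submodule.finrank_mono hle
    omega
  set K := W ⊓ LinearMap.ker (QuadraticMap.polarBilin Q a)
  have hK : finrank F W ≤ finrank F K + 1 := by
    have h1 := LinearMap.finrank_range_add_finrank_ker ((QuadraticMap.polarBilin Q a).comp W.subtype)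
    have h2 : finrank F (LinearMap.range ((QuadraticMap.polarBilin Q a).comp W.subtype)) ≤ 1 :=
      (Submodule.finrank_le _).trans (le_of_eq (Module.finrank_self F))
    have h3 : finrank F (LinearMap.ker ((QuadraticMap.polarBilin Q a).comp W.subtype)) = finrank F K := by
      rw [LinearMap.ker_comp]
      exact (LinearEquiv.finrank_eq (Submodule.equivMapOfInjective W.subtype W.injective_subtype _)).trans
        (by rw [Submodule.map_comap_subtype])
    omega
  obtain ⟨b, hbK, hbR⟩ : ∃ b ∈ K, b ∉ R := by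
    by_contra hall
    push Not at hall
    have := Submodule.finrank_mono (s := K) (t := R) hall
    omega
  obtain ⟨z, hz, hbz⟩ := mem_R b hbK.1 hbR
  by_cases hb : Q b = 0
  · exact value_of_pair hbK.1 hz hb hbz c
  have hab : polar Q a b = 0 := hbK.2
  by_cases h2 : (2 : F) = 0
  · haveI : CharP F 2 := CharTwo.of_one_ne_zero_of_two_eq_zero one_ne_zero h2
    obtain ⟨t, ht⟩ := FiniteField.isSquare_of_char_two (ringChar.eq F 2) (c / Q a)
    refine ⟨t • a, W.smul_mem _ ha, ?_⟩
    rw [quad_smul', ← ht, div_mul_cancel₀ _ haQ]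
  · have hodd : Fintype.card F % 2 = 1 :=
      FiniteField.odd_card_of_char_ne_two fun h' => h2 (by
        haveI : CharP F 2 := ringChar.eq_iff.1 h'
        exact CharTwo.two_eq_zero)
    obtain ⟨s, t, hst⟩ := FiniteField.exists_root_sum_quadratic
      (f := Polynomial.C (Q a) * Polynomial.X ^ 2 - Polynomial.C c) (g := Polynomial.C (Q b) * Polynomial.X ^ 2)
      (by rw [Polynomial.degree_sub_C (by rw [Polynomial.degree_C_mul_X_pow 2 haQ]; norm_num),
        Polynomial.degree_C_mul_X_pow 2 haQ]; rfl)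
      (by rw [Polynomial.degree_C_mul_X_pow 2 hb]; rfl) hodd
    refine ⟨s • a + t • b, W.add_mem (W.smul_mem _ ha) (W.smul_mem _ hbK.1), ?_⟩
    simp only [Polynomial.eval_sub, Polynomial.eval_mul, Polynomial.eval_C, Polynomial.eval_pow,
      Polynomial.eval_X] at hst
    rw [quad_add', quad_smul', quad_smul', polar_smul_l', polar_smul_r', hab]
    linear_combination hst

/-- Transitivity on isometric non-degenerate subspaces. -/
theorem commutator_transitive_nondeg [Fintype F] (h4 : Good F V) (hn : 3 ≤ finrank F V) {U W : Submodule F V}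
    (hU : U ⊓ LinearMap.BilinForm.orthogonal (QuadraticMap.polarBilin Q) U = ⊥) (e : U ≃ₗ[F] W)
    (he : ∀ u : U, Q (e u : V) = Q (u : V)) :
    ∃ g ∈ commutator (orthGroup Q), U.map (g.1 : V →ₗ[F] V) = W := by
  obtain ⟨g, hg⟩ := exists_map_eq_submodule hQ h4 e he
  refine exists_commutator_map hQ h4 g hg fun b hb => ?_
  set B : LinearMap.BilinForm F V := QuadraticMap.polarBilin Q
  have hrefl : B.IsRefl := fun x y h => by
    change polar Q y x = 0
    rw [polar_comm]; exact h
  have hdim : finrank F (B.orthogonal U) = finrank F V - finrank F U :=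
    LinearMap.BilinForm.finrank_orthogonal hQ U
  have hle : finrank F U ≤ finrank F V := Submodule.finrank_le U
  obtain ⟨a, ha, hQa⟩ : ∃ a : V, (a ∈ U ∨ ∀ u ∈ U, polar Q a u = 0) ∧ Q a = Q b := by
    rcases Nat.lt_or_ge (finrank F U) 2 with h | h
    · have hR : B.orthogonal U ⊓ B.orthogonal (B.orthogonal U) = ⊥ := by
        rw [LinearMap.BilinForm.orthogonal_orthogonal hQ hrefl, inf_comm]; exact hU
      obtain ⟨a, ha, hQa⟩ := exists_value (Q := Q) (B.orthogonal U) (by rw [hR, finrank_bot]; omega) (Q b)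
      exact ⟨a, Or.inr fun u hu => hrefl _ _ (ha u hu), hQa⟩
    · obtain ⟨a, ha, hQa⟩ := exists_value (Q := Q) U (by rw [hU, finrank_bot]; omega) (Q b)
      exact ⟨a, Or.inl ha, hQa⟩
  exact ⟨refl Q a, refl_mem_stab ha, ab_refl_eq hQ h4 (hQa ▸ hb) hb ⟨Q b, by rw [hQa]⟩⟩

/-- The torus on a singular vector of a totally singular subspace, stabilising it. -/
theorem exists_torus_stab {U : Submodule F V} (hU0 : ∀ u ∈ U, Q u = 0) {d : V} (hd : d ∈ U) (hd0 : d ≠ 0)
    {c : F} (hc : c ≠ 0) :
    ∃ z, Q (d + z) = 1 ∧ Q (d + c • z) = c ∧ torus Q d z c ∈ stab (Q := Q) U := by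
  obtain ⟨U', hU'⟩ := Submodule.exists_isCompl ((F ∙ d).comap U.subtype)
  have hdU' : d ∉ U'.map U.subtype := by
    rintro ⟨u, hu, rfl⟩
    have hu' : u ∈ (F ∙ (u : V)).comap U.subtype := Submodule.mem_span_singleton_self (u : V)
    exact hd0 (by simp [Submodule.disjoint_def.1 hU'.disjoint u hu' hu])
  obtain ⟨z', hz', hz'd⟩ := exists_polar_one hQ hdU'
  have hperp : ∀ u ∈ U, ∀ v ∈ U, polar Q u v = 0 := fun u hu v hv => by
    simp only [polar, hU0 _ (U.add_mem hu hv), hU0 _ hu, hU0 _ hv, sub_zero]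
  set z := z' - Q z' • d with hz
  have hdz : polar Q d z = 1 := by
    rw [hz, polar_sub_right, polar_smul_r', polar_comm _ d z', hz'd, hperp d hd d hd]; ring
  have hQz : Q z = 0 := by
    rw [hz, sub_eq_add_neg, ← neg_smul, quad_add', quad_smul', polar_smul_r', hU0 d hd, hz'd]; ring
  refine ⟨z, ?_, ?_, mem_stab_of_le fun u hu => ?_⟩
  · rw [quad_add', hU0 d hd, hQz, hdz]; ring
  · rw [quad_add', quad_smul', polar_smul_r', hU0 d hd, hQz, hdz]; ring
  · have hsplit : (⟨u, hu⟩ : U) ∈ (F ∙ d).comap U.subtype ⊔ U' := by rw [hU'.sup_eq_top]; trivial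
    obtain ⟨x, hx, y, hy, hxy⟩ := Submodule.mem_sup.1 hsplit
    obtain ⟨t, ht⟩ := Submodule.mem_span_singleton.1 hx
    have hux : u = t • d + (y : V) := by
      rw [ht]; exact congrArg Subtype.val hxy.symm
    have hzy : polar Q z (y : V) = 0 := by
      rw [hz, polar_sub_left, polar_smul_l', show polar Q z' (y : V) = 0 from hz' _ ⟨y, hy, rfl⟩, hperp d hd _ y.2]; ring
    rw [hux, map_add, map_smul, (torus_pair Q (hU0 d hd) hQz hdz hc).1,
      torus_fix Q c (hperp d hd _ y.2) hzy]
    exact U.add_mem (U.smul_mem _ (U.smul_mem _ hd)) y.2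

/-- Transitivity on totally singular subspaces of dimension less than half. -/
theorem commutator_transitive_singular [Fintype F] (h4 : Good F V) {U W : Submodule F V} {k : ℕ}
    (hk : 2 * k < finrank F V) (hU : finrank F U = k) (hW : finrank F W = k)
    (hU0 : ∀ u ∈ U, Q u = 0) (hW0 : ∀ w ∈ W, Q w = 0) :
    ∃ g ∈ commutator (orthGroup Q), U.map (g.1 : V →ₗ[F] V) = W := by
  classical
  by_cases hbot : U = ⊥
  · subst hbot
    refine ⟨1, one_mem _, ?_⟩
    rw [finrank_bot] at hU
    rw [Submodule.map_bot]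
    exact (Submodule.finrank_eq_zero.1 (hW.trans hU.symm)).symm
  let e : U ≃ₗ[F] W := LinearEquiv.ofFinrankEq U W (hU.trans hW.symm)
  obtain ⟨g, hg⟩ := exists_map_eq_submodule hQ h4 e (fun u => by rw [hW0 _ (e u).2, hU0 _ u.2])
  refine exists_commutator_map hQ h4 g hg fun b hb => ?_
  set B : LinearMap.BilinForm F V := QuadraticMap.polarBilin Q
  have hrefl : B.IsRefl := fun x y h => by
    change polar Q y x = 0
    rw [polar_comm]; exact h
  have hR : B.orthogonal U ⊓ B.orthogonal (B.orthogonal U) = U := by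
    rw [LinearMap.BilinForm.orthogonal_orthogonal hQ hrefl, inf_eq_right]
    intro u hu v hv
    show polar Q v u = 0
    simp only [polar, hU0 _ (U.add_mem hv hu), hU0 _ hv, hU0 _ hu, sub_zero]
  have hdim : finrank F (B.orthogonal U) = finrank F V - k := by
    rw [LinearMap.BilinForm.finrank_orthogonal hQ, hU]
  have hfix : ∀ a ∈ B.orthogonal U, refl Q a ∈ stab (Q := Q) U := fun a ha =>
    refl_mem_stab (Or.inr fun u hu => hrefl _ _ (ha u hu))
  rcases Nat.lt_or_ge (finrank F V) (2 * k + 2) with h | h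
  swap
  · obtain ⟨a, ha, hQa⟩ := exists_value (Q := Q) (B.orthogonal U) (by rw [hR, hU, hdim]; omega) (Q b)
    exact ⟨refl Q a, hfix a ha, ab_refl_eq hQ h4 (hQa ▸ hb) hb ⟨Q b, by rw [hQa]⟩⟩
  obtain ⟨a, ha, hQa⟩ : ∃ a ∈ B.orthogonal U, Q a ≠ 0 := by
    by_contra hall
    push Not at hall
    have hle : B.orthogonal U ≤ U := by
      rw [← LinearMap.BilinForm.orthogonal_orthogonal hQ hrefl U]
      conv_lhs => rw [LinearMap.BilinForm.orthogonal_orthogonal hQ hrefl U]
      intro x hx y hy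
      show polar Q y x = 0
      simp only [polar, hall _ (Submodule.add_mem _ hy hx), hall _ hy, hall _ hx, sub_zero]
    have := Submodule.finrank_mono hle
    omega
  by_cases hsq : IsSquare (Q a * Q b)
  · exact ⟨refl Q a, hfix a ha, ab_refl_eq hQ h4 hQa hb hsq⟩
  -- otherwise compose with a torus on a singular vector of `U`
  obtain ⟨d, hd, hd0⟩ := Submodule.exists_mem_ne_zero_of_ne_bot hbot
  obtain ⟨z, hz1, hzc, hts⟩ := exists_torus_stab hQ hU0 hd hd0 (mul_ne_zero hQa hb)
  refine ⟨refl Q a * torus Q d z (Q a * Q b), mul_mem (hfix a ha) hts, ?_⟩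
  rw [torus, map_mul, map_mul]
  by_cases has : IsSquare (Q a)
  · rw [ab_refl_eq hQ h4 (a := d + z) (b := a) (by rw [hz1]; exact one_ne_zero) hQa (by rw [hz1, one_mul]; exact has),
      ← mul_assoc, ab_refl_sq, one_mul]
    refine ab_refl_eq hQ h4 (by rw [hzc]; exact mul_ne_zero hQa hb) hb ?_
    rw [hzc, mul_assoc]
    exact has.mul ⟨Q b, rfl⟩
  · rw [ab_refl_eq hQ h4 (a := d + (Q a * Q b) • z) (b := a) (by rw [hzc]; exact mul_ne_zero hQa hb) hQa ?_,
      mul_left_comm, ab_refl_sq, mul_one]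
    · refine ab_refl_eq hQ h4 (by rw [hz1]; exact one_ne_zero) hb ?_
      rw [hz1, one_mul, ← quadraticChar_one_iff_isSquare hb]
      have h1 := quadraticChar_neg_one_iff_not_isSquare.2 hsq
      rw [map_mul, quadraticChar_neg_one_iff_not_isSquare.2 has, neg_one_mul, neg_inj] at h1
      exact h1
    · rw [hzc, mul_assoc, ← quadraticChar_one_iff_isSquare (mul_ne_zero hQa (mul_ne_zero hb hQa)), map_mul, map_mul]
      have h1 := quadraticChar_neg_one_iff_not_isSquare.2 hsq
      rw [map_mul] at h1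
      rw [quadraticChar_neg_one_iff_not_isSquare.2 has] at h1 ⊢
      linear_combination (-1 : ℤ) * h1

/-- Transitivity on non-singular lines in characteristic two. -/
theorem commutator_transitive_line [Fintype F] [CharP F 2] (h4 : Good F V) {u v : V} (hu : Q u ≠ 0) (hv : Q v ≠ 0) :
    ∃ g ∈ commutator (orthGroup Q), ∃ t : F, t ≠ 0 ∧ g.1 u = t • v := by
  obtain ⟨t, ht⟩ := FiniteField.isSquare_of_char_two (ringChar.eq F 2) (Q u / Q v)
  have ht0 : t ≠ 0 := fun h => by rw [h, mul_zero, div_eq_zero_iff] at ht; exact ht.elim hu hv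
  obtain ⟨g, hg⟩ := exists_map_eq hQ h4 (u := u) (w := t • v) (fun h => by simp [h] at hu)
    (smul_ne_zero ht0 fun h => by simp [h] at hv) (by rw [quad_smul', ← ht, div_mul_cancel₀ _ hv])
  obtain ⟨s, hs, hse⟩ := exists_mem_ab_eq hQ h4 (Subgroup.closure {refl Q u}) (fun a ha =>
    ⟨refl Q u, Subgroup.subset_closure rfl, ab_refl_eq hQ h4 hu ha
      (FiniteField.isSquare_of_char_two (ringChar.eq F 2) _)⟩) g⁻¹
  refine ⟨g * s, by rw [mem_commutator_iff, map_mul, hse, map_inv, mul_inv_cancel], t, ht0, ?_⟩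
  have hfix : s.1 u = u := by
    clear hse
    induction hs using Subgroup.closure_induction with
    | mem x hx =>
      obtain rfl : x = refl Q u := hx
      rw [refl_self Q hu, ← neg_one_smul F u, CharTwo.neg_eq, one_smul]
    | one => rfl
    | mul x y _ _ hx hy => show x.1 (y.1 u) = u; rw [hy, hx]
    | inv x _ hx => rw [← hx]; exact x.1.symm_apply_apply u |>.trans hx.symm
  show g.1 (s.1 u) = t • v
  rw [hfix, hg]

end CfsgLib.Orth
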