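import Cfsg.Agent.Lib.Orth.Classify

set_option autoImplicit false
set_option linter.unusedSectionVars false

/-! Isometries between non-degenerate forms over finite fields. -/

namespace CfsgLib.Orth

open QuadraticMap Module

variable {F : Type*} [Field F] [Fintype F]

/-- The binary form `t² + t + ζ` anisotropy as a statement on pairs. -/
theorem anisotropic_of_no_root {ζ : F} (hζ : ∀ t : F, t ^ 2 + t + ζ ≠ 0) :
    ∀ z₁ z₂ : F, z₁ ^ 2 + 1 * z₁ * z₂ + ζ * z₂ ^ 2 = 0 → z₁ = 0 ∧ z₂ = 0 := by
  intro z₁ z₂ h0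
  by_cases hz : z₂ = 0
  · subst hz; simpa using h0
  · exfalso
    apply hζ (z₁ / z₂)
    field_simp
    linear_combination h0

/-- All elliptic binary forms `z₁² + z₁z₂ + ζ z₂²` are isometric. -/
theorem exists_plane_change {ζ ζ' : F} (hζ : ∀ t : F, t ^ 2 + t + ζ ≠ 0) (hζ' : ∀ t : F, t ^ 2 + t + ζ' ≠ 0) :
    ∃ a b : F, 2 * a + b = 1 ∧ a ^ 2 + a * b + ζ * b ^ 2 = ζ' := by
  classical
  by_cases h2 : (2 : F) = 0
  · haveI : CharP F 2 := CharTwo.of_one_ne_zero_of_two_eq_zero one_ne_zero h2
    -- the image of `a ↦ a² + a` has index two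
    let AS : F →+ F := AddMonoidHom.mk' (fun a => a ^ 2 + a) (fun a b => by
      rw [add_pow_char]; ring)
    have hker : Nat.card AS.ker ≤ 2 := by
      have hsub : (AS.ker : Set F) ⊆ ({0, 1} : Finset F) := fun a ha => by
        have ha' : a * (a + 1) = 0 := by
          have : a ^ 2 + a = 0 := ha
          linear_combination this
        rcases mul_eq_zero.1 ha' with h | h
        · simp [h]
        · simp [eq_neg_of_add_eq_zero_left h, CharTwo.neg_eq]
      have := Set.ncard_le_ncard hsub
      rw [Set.ncard_coe_finset, Finset.card_pair zero_ne_one] at this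
      rwa [← Nat.card_coe_set_eq] at this
    have hidx : AS.range.index ≤ 2 := by
      have h1 := AddSubgroup.card_eq_card_quotient_mul_card_addSubgroup AS.ker
      rw [Nat.card_congr (QuotientAddGroup.quotientKerEquivRange AS).toEquiv] at h1
      have h2' := AS.range.index_mul_card
      have hpos : 0 < Nat.card AS.range := Nat.card_pos
      nlinarith
    have hnot : ∀ z : F, (∀ t : F, t ^ 2 + t + z ≠ 0) → z ∉ AS.range := by
      rintro z hz ⟨t, ht⟩
      apply hz t
      show t ^ 2 + t + z = 0
      rw [← ht]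
      exact CharTwo.add_self_eq_zero _
    have hidx2 : AS.range.index = 2 := by
      have h1 : AS.range.index ≠ 1 := fun h => hnot ζ hζ (by rw [AddSubgroup.index_eq_one.1 h]; trivial)
      have h0 : AS.range.index ≠ 0 := AddSubgroup.index_ne_zero_of_finite
      omega
    obtain ⟨a, ha⟩ : ζ + ζ' ∈ AS.range := by
      rw [AddSubgroup.add_mem_iff_of_index_two hidx2]
      exact iff_of_false (hnot ζ hζ) (hnot ζ' hζ')
    refine ⟨a, 1, by rw [h2]; ring, ?_⟩
    have ha' : a ^ 2 + a = ζ + ζ' := ha
    linear_combination ha' + ζ * h2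
  · have hns : ∀ z : F, (∀ t : F, t ^ 2 + t + z ≠ 0) → ¬ IsSquare (1 - 4 * z) := by
      rintro z hz ⟨d, hd⟩
      apply hz ((d - 1) / 2)
      field_simp
      linear_combination -hd
    have hd0 : (1 - 4 * ζ) ≠ 0 := fun h => hns ζ hζ (h ▸ IsSquare.zero)
    obtain ⟨r, hr⟩ : IsSquare ((1 - 4 * ζ') / (1 - 4 * ζ)) := by
      have hd0' : (1 - 4 * ζ') ≠ 0 := fun h => hns ζ' hζ' (h ▸ IsSquare.zero)
      rw [← quadraticChar_one_iff_isSquare (div_ne_zero hd0' hd0), div_eq_mul_inv, map_mul]
      have hinv : ¬ IsSquare (1 - 4 * ζ)⁻¹ := fun h => hns ζ hζ (by simpa using h.inv)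
      rw [quadraticChar_neg_one_iff_not_isSquare.2 hinv, quadraticChar_neg_one_iff_not_isSquare.2 (hns ζ' hζ')]
      norm_num
    refine ⟨(1 - r) / 2, r, by field_simp; ring, ?_⟩
    rw [div_eq_iff hd0] at hr
    field_simp
    linear_combination hr

variable {V W : Type*} [AddCommGroup V] [Module F V] [FiniteDimensional F V] [AddCommGroup W] [Module F W]
  [FiniteDimensional F W] {Q : QuadraticForm F V} {R : QuadraticForm F W}

theorem exists_minus_iso {m : ℕ} {ζ ζ' : F} (hζ : ∀ t : F, t ^ 2 + t + ζ ≠ 0) (hζ' : ∀ t : F, t ^ 2 + t + ζ' ≠ 0) :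
    ∃ e : ((Fin m ⊕ Fin m) ⊕ Fin 2 → F) ≃ₗ[F] ((Fin m ⊕ Fin m) ⊕ Fin 2 → F),
      ∀ v, minusForm F m 1 ζ (e v) = minusForm F m 1 ζ' v := by
  obtain ⟨a, b, hab, hval⟩ := exists_plane_change hζ hζ'
  let S : ((Fin m ⊕ Fin m) ⊕ Fin 2 → F) →ₗ[F] ((Fin m ⊕ Fin m) ⊕ Fin 2 → F) :=
    LinearMap.pi fun k => Sum.elim (fun i => LinearMap.proj (Sum.inl i))
      ![LinearMap.proj (Sum.inr 0) + a • LinearMap.proj (Sum.inr 1), b • LinearMap.proj (Sum.inr 1)] k
  have hS : ∀ v, minusForm F m 1 ζ (S v) = minusForm F m 1 ζ' v := by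
    intro v
    rw [← minusForm_apply, ← minusForm_apply]
    simp [Cfsg.quadFormMinus, S]
    linear_combination (v (Sum.inr 0) * v (Sum.inr 1)) * hab + v (Sum.inr 1) ^ 2 * hval
  have hinj := injective_of_preserving (minusForm_nondeg m 1 ζ' (anisotropic_of_no_root hζ')) S hS
  exact ⟨LinearEquiv.ofBijective S ⟨hinj, LinearMap.injective_iff_surjective.1 hinj⟩, hS⟩

/-- Sum of squares with a last coefficient. -/
noncomputable def diagForm (k : ℕ) (δ : F) : QuadraticForm F (Fin (k + 1) → F) :=
  QuadraticMap.weightedSumSquares F (fun i : Fin (k + 1) => if i = Fin.last k then δ else 1)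

theorem diagForm_apply (k : ℕ) (δ : F) (v : Fin (k + 1) → F) :
    diagForm k δ v = ∑ i : Fin k, v i.castSucc * v i.castSucc + δ * (v (Fin.last k) * v (Fin.last k)) := by
  simp [diagForm, QuadraticMap.weightedSumSquares_apply, Fin.sum_univ_castSucc, (Fin.castSucc_lt_last _).ne]

/-- Odd order: every non-degenerate form is `x₁² + ⋯ + δ x_n²`. -/
theorem exists_diag (h2 : (2 : F) ≠ 0) (hQ : (QuadraticMap.polarBilin Q).Nondegenerate) {k : ℕ}
    (hV : finrank F V = k + 1) :
    ∃ (δ : F) (e : (Fin (k + 1) → F) ≃ₗ[F] V), δ ≠ 0 ∧ ∀ v, Q (e v) = diagForm k δ v := by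
  classical
  set B : LinearMap.BilinForm F V := QuadraticMap.polarBilin Q
  have hrefl : B.IsRefl := fun u v h => by
    change polar Q v u = 0
    rw [polar_comm]; exact h
  -- orthonormal families of size `≤ k`
  have key : ∀ j, j ≤ k → ∃ x : Fin j → V, ∀ i l, polar Q (x i) (x l) = if i = l then 2 else 0 := by
    intro j hj
    induction j with
    | zero => exact ⟨Fin.elim0, fun i => i.elim0⟩
    | succ j ih =>
      obtain ⟨x, hx⟩ := ih (by omega)
      set U := Submodule.span F (Set.range x)
      have hU : finrank F U ≤ j := le_trans (finrank_range_le_card x) (by simp)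
      have hR : B.orthogonal U ⊓ B.orthogonal (B.orthogonal U) = ⊥ := by
        rw [LinearMap.BilinForm.orthogonal_orthogonal hQ hrefl, Submodule.eq_bot_iff]
        rintro u ⟨hu, hu'⟩
        obtain ⟨c, rfl⟩ := (Submodule.mem_span_range_iff_exists_fun F).1 hu'
        refine Finset.sum_eq_zero fun i _ => ?_
        have h0 : polar Q (x i) (∑ l, c l • x l) = 0 := hu _ (Submodule.subset_span ⟨i, rfl⟩)
        rw [← QuadraticMap.polarBilin_apply_apply, map_sum] at h0
        simp only [map_smul, QuadraticMap.polarBilin_apply_apply, hx, smul_eq_mul, mul_ite, mul_zero,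
          Finset.sum_ite_eq, Finset.mem_univ, if_true, mul_eq_zero] at h0
        rw [h0.resolve_right h2, zero_smul]
      obtain ⟨a, ha, haQ⟩ := exists_value (Q := Q) (B.orthogonal U) (by
        rw [hR, finrank_bot, LinearMap.BilinForm.finrank_orthogonal hQ]; omega) 1
      refine ⟨Fin.snoc x a, fun i l => ?_⟩
      refine Fin.lastCases ?_ (fun i => ?_) i <;> refine Fin.lastCases ?_ (fun l => ?_) l
      · simp [polar_self', haQ]
      · simp only [Fin.snoc_last, Fin.snoc_castSucc, if_neg (Fin.castSucc_lt_last l).ne']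
        rw [polar_comm]; exact ha _ (Submodule.subset_span ⟨l, rfl⟩)
      · simp only [Fin.snoc_last, Fin.snoc_castSucc, if_neg (Fin.castSucc_lt_last i).ne]
        exact ha _ (Submodule.subset_span ⟨i, rfl⟩)
      · simp [hx]
  obtain ⟨x, hx⟩ := key k le_rfl
  set U := Submodule.span F (Set.range x)
  have hU : finrank F U ≤ k := le_trans (finrank_range_le_card x) (by simp)
  obtain ⟨a, ha, haQ⟩ : ∃ a ∈ B.orthogonal U, Q a ≠ 0 := by
    by_contra hall
    push Not at hall
    have hle : B.orthogonal U ≤ U := by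
      intro v hv
      rw [← LinearMap.BilinForm.orthogonal_orthogonal hQ hrefl U]
      intro w hw
      show polar Q w v = 0
      simp only [polar, hall _ (Submodule.add_mem _ hw hv), hall _ hw, hall _ hv, sub_zero]
    have h1 := Submodule.finrank_mono hle
    obtain ⟨v, hv, hv0⟩ := Submodule.exists_mem_ne_zero_of_ne_bot (p := B.orthogonal U) (fun hb => by
      have := congrArg (fun S : Submodule F V => finrank F S) hb
      simp only [LinearMap.BilinForm.finrank_orthogonal hQ, finrank_bot] at this
      omega)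
    apply hv0
    obtain ⟨c, rfl⟩ := (Submodule.mem_span_range_iff_exists_fun F).1 (hle hv)
    refine Finset.sum_eq_zero fun i _ => ?_
    have h0 : polar Q (x i) (∑ l, c l • x l) = 0 := hv _ (Submodule.subset_span ⟨i, rfl⟩)
    rw [← QuadraticMap.polarBilin_apply_apply, map_sum] at h0
    simp only [map_smul, QuadraticMap.polarBilin_apply_apply, hx, smul_eq_mul, mul_ite, mul_zero,
      Finset.sum_ite_eq, Finset.mem_univ, if_true, mul_eq_zero] at h0
    rw [h0.resolve_right h2, zero_smul]
  let S : (Fin (k + 1) → F) →ₗ[F] V := Fintype.linearCombination F (Fin.snoc x a)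
  have hS : ∀ v, Q (S v) = diagForm k (Q a) v := by
    intro v
    apply mul_left_cancel₀ h2
    rw [← polar_self']
    have hsx : ∀ i l : Fin (k + 1), polar Q ((Fin.snoc x a : Fin (k + 1) → V) i) ((Fin.snoc x a : Fin (k + 1) → V) l) =
        if i = l then (if i = Fin.last k then 2 * Q a else 2) else 0 := by
      intro i l
      refine Fin.lastCases ?_ (fun i => ?_) i <;> refine Fin.lastCases ?_ (fun l => ?_) l
      · simp [polar_self']
      · simp only [Fin.snoc_last, Fin.snoc_castSucc, if_neg (Fin.castSucc_lt_last l).ne']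
        rw [polar_comm]; exact ha _ (Submodule.subset_span ⟨l, rfl⟩)
      · simp only [Fin.snoc_last, Fin.snoc_castSucc, if_neg (Fin.castSucc_lt_last i).ne]
        exact ha _ (Submodule.subset_span ⟨i, rfl⟩)
      · simp [hx, (Fin.castSucc_lt_last i).ne]
    simp only [S, Fintype.linearCombination_apply, ← QuadraticMap.polarBilin_apply_apply, map_sum, map_smul,
      LinearMap.sum_apply, LinearMap.smul_apply]
    simp only [QuadraticMap.polarBilin_apply_apply, hsx, smul_eq_mul, mul_ite, mul_zero, Finset.sum_ite_eq', Finset.sum_ite_eq,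
      Finset.mem_univ, if_true, diagForm, QuadraticMap.weightedSumSquares_apply, Finset.mul_sum]
    exact Finset.sum_congr rfl fun i _ => by split_ifs <;> ring
  have hnd : (QuadraticMap.polarBilin (diagForm k (Q a))).Nondegenerate := by
    refine nondegenerate_of_left fun v hv => funext fun i => ?_
    have h := hv (Pi.single i 1)
    simp only [polar, diagForm, QuadraticMap.weightedSumSquares_apply, ← Finset.sum_sub_distrib, Pi.add_apply,
      smul_eq_mul] at h
    rw [Finset.sum_eq_single i (fun l _ hl => by simp [hl]) (by simp)] at h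
    simp only [Pi.single_eq_same] at h
    have hw : (if i = Fin.last k then Q a else 1) ≠ 0 := by split_ifs <;> [exact haQ; exact one_ne_zero]
    have : (if i = Fin.last k then Q a else 1) * (2 * v i) = 0 := by linear_combination h
    exact (mul_eq_zero.1 ((mul_eq_zero.1 this).resolve_left hw)).resolve_left h2
  have hinj := injective_of_preserving hnd S hS
  exact ⟨Q a, LinearEquiv.ofBijective S ⟨hinj, (LinearMap.injective_iff_surjective_of_finrank_eq_finrank
    (by rw [hV, Module.finrank_fin_fun])).1 hinj⟩, haQ, hS⟩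

end CfsgLib.Orth
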