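import Cfsg.Agent.Lib.Orth.Spinor
import Cfsg.Agent.Lib.Orth.Stab

set_option autoImplicit false
set_option linter.unusedSectionVars false

/-!
The two classes of maximal totally singular subspaces of a hyperbolic space: the parity of
`dim U - dim (U ∩ gU)` is the determinant (odd order) or the Dickson invariant (characteristic two).
-/

namespace CfsgLib.Orth

open QuadraticMap Module

variable {F V : Type*} [Field F] [AddCommGroup V] [Module F V] [FiniteDimensional F V]

/-- `U` is totally singular and equals its own orthogonal. -/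
def IsLagrangian (Q : QuadraticForm F V) (U : Submodule F V) : Prop :=
  (∀ u ∈ U, Q u = 0) ∧ LinearMap.BilinForm.orthogonal (QuadraticMap.polarBilin Q) U = U

/-- `dim U - dim (U ∩ W)`. -/
noncomputable def lagDist (U W : Submodule F V) : ℕ := finrank F U - finrank F ↥(U ⊓ W)

theorem lagDist_self (U : Submodule F V) : lagDist U U = 0 := by
  unfold lagDist
  rw [inf_idem, Nat.sub_self]

variable {Q : QuadraticForm F V}

theorem isLagrangian_of_finrank (hQ : (QuadraticMap.polarBilin Q).Nondegenerate) {U : Submodule F V}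
    (h0 : ∀ u ∈ U, Q u = 0) (h : finrank F V = 2 * finrank F U) : IsLagrangian Q U := by
  refine ⟨h0, (Submodule.eq_of_le_of_finrank_eq ?_ ?_).symm⟩
  · intro u hu v hv
    show polar Q v u = 0
    simp only [polar, h0 _ (U.add_mem hv hu), h0 _ hv, h0 _ hu, sub_zero]
  · rw [LinearMap.BilinForm.finrank_orthogonal hQ]; omega

variable (hQ : (QuadraticMap.polarBilin Q).Nondegenerate)
include hQ

theorem finrank_of_isLagrangian {U : Submodule F V} (hU : IsLagrangian Q U) : finrank F V = 2 * finrank F U := by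
  have h := congrArg (fun S : Submodule F V => finrank F S) hU.2
  simp only [LinearMap.BilinForm.finrank_orthogonal hQ] at h
  have := Submodule.finrank_le U
  omega

omit hQ in
theorem isLagrangian_map {U : Submodule F V} (hU : IsLagrangian Q U) (g : orthGroup Q) :
    IsLagrangian Q (U.map (g.1 : V →ₗ[F] V)) := by
  refine ⟨?_, le_antisymm ?_ ?_⟩
  · rintro _ ⟨u, hu, rfl⟩
    exact (apply_quad g u).trans (hU.1 u hu)
  · intro x hx
    obtain ⟨y, rfl⟩ := g.1.surjective x
    refine ⟨y, ?_, rfl⟩
    rw [← hU.2]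
    intro u hu
    show polar Q u y = 0
    rw [← polar_isom g]
    exact hx _ ⟨u, hu, rfl⟩
  · rintro _ ⟨u, hu, rfl⟩ _ ⟨v, hv, rfl⟩
    show polar Q (g.1 v) (g.1 u) = 0
    rw [polar_isom g]
    have hu' := hU.2.ge hu
    exact hu' v hv

/-- A reflection changes the parity of the distance. -/
theorem lagDist_refl {U W : Submodule F V} (hU : IsLagrangian Q U) (hW : IsLagrangian Q W) {a : V}
    (ha : Q a ≠ 0) :
    lagDist U W + lagDist U (W.map ((refl Q a).1 : V →ₗ[F] V)) ≠ 0 ∧
      Odd (lagDist U W + lagDist U (W.map ((refl Q a).1 : V →ₗ[F] V))) := by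
  set B : LinearMap.BilinForm F V := QuadraticMap.polarBilin Q with hB
  set W' := W.map ((refl Q a).1 : V →ₗ[F] V) with hW'def
  have hW' : IsLagrangian Q W' := isLagrangian_map hW _
  have haW : a ∉ W := fun h => ha (hW.1 a h)
  set H := W ⊓ LinearMap.ker (B a) with hH
  have hHW : H ≤ W := inf_le_left
  have hfW : finrank F W' = finrank F W := LinearEquiv.finrank_map_eq _ _
  obtain ⟨w, hw, hwa⟩ : ∃ w ∈ W, polar Q a w ≠ 0 := by
    by_contra hall
    push Not at hall
    apply haW
    rw [← hW.2]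
    intro w hw
    show polar Q w a = 0
    rw [polar_comm]; exact hall w hw
  set w' := (refl Q a).1 w
  have hw' : w' ∈ W' := ⟨w, hw, rfl⟩
  have hHW' : H ≤ W' := by
    intro h hh
    exact ⟨h, hh.1, refl_fix Q (show polar Q a h = 0 from hh.2)⟩
  have hww' : polar Q w w' ≠ 0 := by
    simp only [w', refl_apply, polar_sub_right, polar_smul_r', polar_self', hW.1 w hw, polar_comm _ w a]
    intro h
    have : (Q a)⁻¹ * polar Q a w * polar Q a w = 0 := by linear_combination -h
    rcases mul_eq_zero.1 this with h' | h'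
    · rcases mul_eq_zero.1 h' with h'' | h''
      · exact ha (inv_eq_zero.1 h'')
      · exact hwa h''
    · exact hwa h'
  -- `W` and `W'` meet exactly in `H`
  have hdec : ∀ x ∈ W, ∃ t : F, x - t • w ∈ H := fun x hx => ⟨polar Q a x / polar Q a w, W.sub_mem hx (W.smul_mem _ hw), by
    show polar Q a (x - _ • w) = 0
    rw [polar_sub_right, polar_smul_r', div_mul_cancel₀ _ hwa, sub_self]⟩
  have hdec' : ∀ x ∈ W', ∃ t : F, x - t • w' ∈ H := by
    rintro _ ⟨y, hy, rfl⟩
    obtain ⟨t, ht⟩ := hdec y hy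
    refine ⟨t, ?_⟩
    have e : (refl Q a).1 y - t • w' = (refl Q a).1 (y - t • w) := by rw [map_sub, map_smul]
    show (refl Q a).1 y - t • w' ∈ H
    rw [e, refl_fix Q (show polar Q a (y - t • w) = 0 from ht.2)]
    exact ht
  have hperpW : ∀ x ∈ W, ∀ y ∈ W, polar Q x y = 0 := fun x hx y hy => (hW.2.ge hy) x hx
  have hinter : W ⊓ W' = H := by
    refine le_antisymm ?_ (le_inf hHW hHW')
    intro x hx
    obtain ⟨t, ht⟩ := hdec x hx.1
    obtain ⟨s, hs⟩ := hdec' x hx.2
    have h1 : polar Q w (x - s • w') = 0 := hperpW _ hw _ hs.1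
    rw [polar_sub_right, polar_smul_r', hperpW w hw x hx.1, zero_sub, neg_eq_zero] at h1
    rw [(mul_eq_zero.1 h1).resolve_right hww', zero_smul, sub_zero] at hs
    exact hs
  set K := U ⊓ H with hK
  set P := U ⊓ B.orthogonal H with hP
  have hrefl : B.IsRefl := fun x y h => by
    change polar Q y x = 0
    rw [polar_comm]; exact h
  have hHrank : finrank F H + 1 = finrank F W := by
    have hsup : W = H ⊔ (F ∙ w) := by
      refine le_antisymm (fun x hx => ?_) (sup_le hHW (by rwa [Submodule.span_singleton_le_iff_mem]))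
      obtain ⟨t, ht⟩ := hdec x hx
      exact Submodule.mem_sup.2 ⟨_, ht, t • w, Submodule.smul_mem _ _ (Submodule.mem_span_singleton_self w), by abel⟩
    have hwH : H ⊓ (F ∙ w) = ⊥ := by
      rw [Submodule.eq_bot_iff]
      rintro x ⟨hxH, hx⟩
      obtain ⟨t, rfl⟩ := Submodule.mem_span_singleton.1 hx
      have h' : polar Q a (t • w) = 0 := hxH.2
      rw [polar_smul_r', mul_eq_zero] at h'
      rw [h'.resolve_right hwa, zero_smul]
    have h := Submodule.finrank_sup_add_finrank_inf_eq H (F ∙ w)
    have hw0 : w ≠ 0 := fun h0 => hwa (by simp [h0])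
    rw [← hsup, hwH, finrank_bot, finrank_span_singleton hw0] at h
    omega
  have hPK : finrank F P = finrank F K + 1 := by
    have h1 : P = B.orthogonal (U ⊔ H) := by
      ext x
      constructor
      · rintro ⟨hxU, hxH⟩ y hy
        obtain ⟨u, hu, h, hh, rfl⟩ := Submodule.mem_sup.1 hy
        show polar Q (u + h) x = 0
        rw [polar_add_left]
        have e1 : polar Q u x = 0 := (hU.2.ge hxU) u hu
        have e2 : polar Q h x = 0 := hxH h hh
        rw [e1, e2, add_zero]
      · intro hx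
        exact ⟨hU.2.le (fun u hu => hx u (Submodule.mem_sup_left hu)), fun h hh => hx h (Submodule.mem_sup_right hh)⟩
    have h2 := Submodule.finrank_sup_add_finrank_inf_eq U H
    have h3 := Submodule.finrank_le (U ⊔ H)
    have h4 := Submodule.finrank_mono (show K ≤ U from inf_le_left)
    rw [h1, LinearMap.BilinForm.finrank_orthogonal hQ]
    have := finrank_of_isLagrangian hQ hU
    have := finrank_of_isLagrangian hQ hW
    rw [← hK] at h2
    omega
  have hWP : U ⊓ W ≤ P := inf_le_inf_left _ (fun x hx h hh => hperpW h hh.1 x hx)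
  have hW'P : U ⊓ W' ≤ P := inf_le_inf_left _ (fun x hx h hh => (hW'.2.ge hx) h (hHW' hh))
  -- some vector of `P` lies outside `K`, in `W` or in `W'`
  have hor : ¬ (U ⊓ W = K ∧ U ⊓ W' = K) := by
    rintro ⟨hUW, hUW'⟩
    obtain ⟨x, hxP, hxK⟩ : ∃ x ∈ P, x ∉ K := by
      by_contra hall
      push Not at hall
      have := Submodule.finrank_mono (s := P) (t := K) hall
      omega
    have hspan : B.orthogonal H ≤ W ⊔ W' := by
      have h2 := Submodule.finrank_sup_add_finrank_inf_eq W W'
      rw [hinter, hfW] at h2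
      refine le_of_eq (Submodule.eq_of_le_of_finrank_eq (sup_le ?_ ?_) ?_).symm
      · exact fun x hx h hh => hperpW h hh.1 x hx
      · exact fun x hx h hh => (hW'.2.ge hx) h (hHW' hh)
      · rw [LinearMap.BilinForm.finrank_orthogonal hQ]
        have := finrank_of_isLagrangian hQ hW
        omega
    obtain ⟨y, hy, y', hy', hyy⟩ := Submodule.mem_sup.1 (hspan hxP.2)
    obtain ⟨s, hs⟩ := hdec y hy
    obtain ⟨t, ht⟩ := hdec' y' hy'
    have hx : x = (y - s • w + (y' - t • w')) + (s • w + t • w') := by rw [← hyy]; abel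
    have hQw' : Q w' = 0 := hW'.1 _ hw'
    have hst : s * t = 0 := by
      have h0 : Q x = 0 := hU.1 x hxP.1
      rw [hx] at h0
      have hh := H.add_mem hs ht
      rw [quad_add', hW.1 _ hh.1, zero_add] at h0
      have hperp : polar Q (y - s • w + (y' - t • w')) (s • w + t • w') = 0 := by
        rw [polar_add_right, hperpW _ hh.1 _ (W.smul_mem s hw)]
        rw [zero_add]
        exact (hW'.2.ge (W'.smul_mem t hw')) _ (hHW' hh)
      rw [hperp, add_zero, quad_add', quad_smul', quad_smul', hW.1 w hw, hQw', polar_smul_l', polar_smul_r'] at h0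
      have : s * t * polar Q w w' = 0 := by linear_combination h0
      exact (mul_eq_zero.1 this).resolve_right hww'
    rcases mul_eq_zero.1 hst with h | h
    · apply hxK
      rw [← hUW']
      refine ⟨hxP.1, ?_⟩
      rw [hx, h, zero_smul, zero_add, sub_zero]
      exact W'.add_mem (W'.add_mem (hHW' (by simpa [h] using hs)) (hHW' ht)) (W'.smul_mem t hw')
    · apply hxK
      rw [← hUW]
      refine ⟨hxP.1, ?_⟩
      rw [hx, h, zero_smul, add_zero, sub_zero]
      exact W.add_mem (W.add_mem (hHW hs) (hHW (by simpa [h] using ht))) (W.smul_mem s hw)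
  have hKW : K ≤ U ⊓ W := inf_le_inf_left _ hHW
  have hKW' : K ≤ U ⊓ W' := inf_le_inf_left _ hHW'
  have hand : ¬ (U ⊓ W = P ∧ U ⊓ W' = P) := by
    rintro ⟨h1, h2⟩
    have : P ≤ K := fun x hx => ⟨hx.1, hinter ▸ ⟨(h1.ge hx).2, (h2.ge hx).2⟩⟩
    have := Submodule.finrank_mono this
    omega
  have a1 := Submodule.finrank_mono hWP
  have a2 := Submodule.finrank_mono hW'P
  have a3 := Submodule.finrank_mono hKW
  have a4 := Submodule.finrank_mono hKW'
  have a5 : finrank F ↥(U ⊓ W) + finrank F ↥(U ⊓ W') = finrank F K + finrank F P := by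
    rcases Nat.lt_or_ge (finrank F K) (finrank F ↥(U ⊓ W)) with h | h <;>
      rcases Nat.lt_or_ge (finrank F K) (finrank F ↥(U ⊓ W')) with h' | h'
    · exact absurd ⟨Submodule.eq_of_le_of_finrank_eq hWP (by omega), Submodule.eq_of_le_of_finrank_eq hW'P (by omega)⟩ hand
    · omega
    · omega
    · exact absurd ⟨(Submodule.eq_of_le_of_finrank_eq hKW (by omega)).symm,
        (Submodule.eq_of_le_of_finrank_eq hKW' (by omega)).symm⟩ hor
  have a6 := Submodule.finrank_mono (show P ≤ U from inf_le_left)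
  have hodd : Odd (lagDist U W + lagDist U W') := by
    rw [Nat.odd_iff]; unfold lagDist; omega
  exact ⟨fun h => by simp [h] at hodd, hodd⟩

/-- A character taking one value `ε` on all reflections records the parity of the distance. -/
theorem char_eq_pow_lagDist (h4 : Good F V) {M : Type*} [CommMonoid M] (χ : orthGroup Q →* M) {ε : M}
    (hε : ε * ε = 1) (hχ : ∀ a, Q a ≠ 0 → χ (refl Q a) = ε) {U : Submodule F V} (hU : IsLagrangian Q U)
    (g : orthGroup Q) : χ g = ε ^ lagDist U (U.map (g.1 : V →ₗ[F] V)) := by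
  have hpar : ∀ i j : ℕ, i % 2 = j % 2 → ε ^ i = ε ^ j := by
    intro i j h
    rw [← Nat.mod_add_div i 2, ← Nat.mod_add_div j 2, h, pow_add, pow_add, pow_mul, pow_mul, pow_two, hε,
      one_pow, one_pow]
  have key : ∀ g : orthGroup Q, ∀ W, IsLagrangian Q W →
      χ g = ε ^ (lagDist U W + lagDist U (W.map (g.1 : V →ₗ[F] V))) := by
    intro g
    have hg : g ∈ reflGroup Q := by rw [reflGroup_eq_top hQ h4]; trivial
    induction hg using Subgroup.closure_induction with
    | mem x hx =>
      obtain ⟨a, rfl⟩ := hx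
      intro W hW
      by_cases ha : Q a = 0
      · have : refl Q a = 1 := Subtype.ext (LinearEquiv.ext fun v => by rw [refl_apply, ha]; simp)
        rw [this, map_one, show W.map (((1 : orthGroup Q)).1 : V →ₗ[F] V) = W from Submodule.map_id W,
          hpar _ 0 (by omega), pow_zero]
      · rw [hχ a ha]
        obtain ⟨-, ⟨k, hk⟩⟩ := lagDist_refl hQ hU hW ha
        rw [hpar _ 1 (by omega), pow_one]
    | one =>
      intro W _
      rw [map_one, show W.map (((1 : orthGroup Q)).1 : V →ₗ[F] V) = W from Submodule.map_id W,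
        hpar _ 0 (by omega), pow_zero]
    | mul x y _ _ hx hy =>
      intro W hW
      have e : W.map ((x * y).1 : V →ₗ[F] V) = (W.map (y.1 : V →ₗ[F] V)).map (x.1 : V →ₗ[F] V) := by
        rw [← Submodule.map_comp]; rfl
      rw [map_mul, hx _ (isLagrangian_map hW y), hy _ hW, ← pow_add, e]
      exact hpar _ _ (by omega)
    | inv x _ hx =>
      intro W hW
      have e : (W.map ((x⁻¹).1 : V →ₗ[F] V)).map (x.1 : V →ₗ[F] V) = W := by
        rw [← Submodule.map_comp]
        have e' : (x.1 : V →ₗ[F] V).comp ((x⁻¹).1 : V →ₗ[F] V) = LinearMap.id :=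
          LinearMap.ext fun v => inv_apply x v
        rw [e', Submodule.map_id]
      have h := hx _ (isLagrangian_map hW x⁻¹)
      rw [e] at h
      have h1 : χ x⁻¹ * χ x = 1 := by rw [← map_mul, inv_mul_cancel, map_one]
      calc χ x⁻¹ = χ x⁻¹ * (χ x * χ x) := by
            rw [h, ← pow_add, hpar _ 0 (by omega), pow_zero, mul_one]
        _ = χ x := by rw [← mul_assoc, h1, one_mul]
        _ = _ := by rw [h]; exact hpar _ _ (by omega)
  rw [key g U hU, lagDist_self, zero_add]

theorem det_eq_one_iff (h2 : (2 : F) ≠ 0) {U : Submodule F V} (hU : IsLagrangian Q U) (g : orthGroup Q) :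
    LinearMap.det (g.1 : V →ₗ[F] V) = 1 ↔ Even (lagDist U (U.map (g.1 : V →ₗ[F] V))) := by
  let δ : orthGroup Q →* F :=
    { toFun := fun g => LinearMap.det (g.1 : V →ₗ[F] V)
      map_one' := LinearMap.det_id
      map_mul' := fun x y => map_mul LinearMap.det (x.1 : V →ₗ[F] V) (y.1 : V →ₗ[F] V) }
  have h := char_eq_pow_lagDist hQ (good_of_two_ne h2) δ (ε := -1) (by ring) (fun a ha => det_refl Q ha) hU g
  show δ g = 1 ↔ _
  rw [h]
  constructor
  · intro h1
    rcases Nat.even_or_odd (lagDist U (U.map (g.1 : V →ₗ[F] V))) with he | ho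
    · exact he
    · rw [ho.neg_one_pow] at h1
      exact absurd (by linear_combination -h1 : (2 : F) = 0) h2
  · intro he; exact he.neg_one_pow

theorem mem_commutator_iff_even_two [Fintype F] [CharP F 2] (h4 : Good F V) {U : Submodule F V}
    (hU : IsLagrangian Q U) (g : orthGroup Q) :
    g ∈ commutator (orthGroup Q) ↔ Even (lagDist U (U.map (g.1 : V →ₗ[F] V))) := by
  obtain ⟨κ, hκ⟩ := exists_dickson Q hQ
  rw [mem_commutator_two hQ h4 κ hκ, char_eq_pow_lagDist hQ h4 κ (ε := Multiplicative.ofAdd 1)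
    (by rw [← ofAdd_add, CharTwo.add_self_eq_zero]; rfl) hκ hU g, ← ofAdd_nsmul, nsmul_one]
  exact ⟨fun h => even_iff_two_dvd.2 ((CharP.cast_eq_zero_iff F 2 _).1 (congrArg Multiplicative.toAdd h)),
    fun h => by rw [(CharP.cast_eq_zero_iff F 2 _).2 (even_iff_two_dvd.1 h)]; rfl⟩

/-- The spinor norm of a torus. -/
theorem levelSign_torus [Fintype F] [DecidableEq F] [Finite V] (h2 : (2 : F) ≠ 0) {d z : V} (hd : Q d = 0)
    (hz : Q z = 0) (hdz : polar Q d z = 1) {c : F} (hc : c ≠ 0) :
    ((levelSign Q 1 (torus Q d z c) : ℤˣ) : ℤ) = quadraticChar F c := by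
  have e1 : Q (d + z) = 1 := by rw [quad_add', hd, hz, hdz]; ring
  have e2 : Q (d + c • z) = c := by rw [quad_add', quad_smul', polar_smul_r', hd, hz, hdz]; ring
  have h := levelSign_prod_refl (Q := Q) h2 [d + z, d + c • z] (by simp [e1, e2, hc])
  simpa [torus, e1, e2] using h

/-- An isometry of even parity, composed with a suitable torus, lies in the commutator subgroup. -/
theorem exists_mul_torus_mem [Fintype F] [Finite V] (h4 : Good F V) {U : Submodule F V} (hU : IsLagrangian Q U)
    (g : orthGroup Q) (he : Even (lagDist U (U.map (g.1 : V →ₗ[F] V)))) {d z : V} (hd : Q d = 0) (hz : Q z = 0)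
    (hdz : polar Q d z = 1) : ∃ c : F, c ≠ 0 ∧ g * torus Q d z c ∈ commutator (orthGroup Q) := by
  classical
  by_cases h2 : (2 : F) = 0
  · haveI : CharP F 2 := CharTwo.of_one_ne_zero_of_two_eq_zero one_ne_zero h2
    refine ⟨1, one_ne_zero, ?_⟩
    rw [torus, one_smul, refl_mul_self, mul_one, mem_commutator_iff_even_two hQ h4 hU]
    exact he
  have hdet : ∀ c : F, c ≠ 0 → LinearMap.det ((g * torus Q d z c).1 : V →ₗ[F] V) = 1 := by
    intro c hc
    show LinearMap.det ((g.1 : V →ₗ[F] V) * (((refl Q (d + z)).1 : V →ₗ[F] V) * ((refl Q (d + c • z)).1 : V →ₗ[F] V))) = 1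
    have e1 : Q (d + z) ≠ 0 := by rw [quad_add', hd, hz, hdz]; simp
    have e2 : Q (d + c • z) ≠ 0 := by
      rw [quad_add', quad_smul', polar_smul_r', hd, hz, hdz]; simpa using hc
    rw [map_mul, map_mul, det_refl Q e1, det_refl Q e2, (det_eq_one_iff hQ h2 hU g).2 he]; ring
  rcases Int.units_eq_one_or (levelSign Q 1 g) with hg | hg
  · refine ⟨1, one_ne_zero, (mem_commutator_odd hQ h2 _).2 ⟨hdet 1 one_ne_zero, ?_⟩⟩
    rw [torus, one_smul, refl_mul_self, mul_one, hg]
  · obtain ⟨c, hc⟩ := FiniteField.exists_nonsquare (F := F) (by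
      intro h
      haveI : CharP F 2 := ringChar.eq_iff.1 h
      exact h2 CharTwo.two_eq_zero)
    have hc0 : c ≠ 0 := fun h => hc (h ▸ IsSquare.zero)
    refine ⟨c, hc0, (mem_commutator_odd hQ h2 _).2 ⟨hdet c hc0, Units.ext ?_⟩⟩
    rw [map_mul, Units.val_mul, levelSign_torus hQ h2 hd hz hdz hc0, hg,
      quadraticChar_neg_one_iff_not_isSquare.2 hc]
    norm_num

end CfsgLib.Orth
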