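import Cfsg.Agent.Lib.Orth.Parity

set_option autoImplicit false
set_option linter.unusedSectionVars false

/-! Similitudes: their action on the isometry group, and the centraliser of the commutator subgroup. -/

namespace CfsgLib.Orth

open QuadraticMap Module

variable {F V : Type*} [Field F] [AddCommGroup V] [Module F V] [FiniteDimensional F V] {Q : QuadraticForm F V}

/-- `g` multiplies `Q` by `μ`. -/
def IsSimil (Q : QuadraticForm F V) (g : V ≃ₗ[F] V) (μ : F) : Prop := ∀ v, Q (g v) = μ * Q v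

theorem IsSimil.polar {g : V ≃ₗ[F] V} {μ : F} (hg : IsSimil Q g μ) (u v : V) :
    QuadraticMap.polar Q (g u) (g v) = μ * QuadraticMap.polar Q u v := by
  simp only [QuadraticMap.polar, ← map_add, show ∀ w, Q (g w) = μ * Q w from hg]
  ring

/-- Conjugation by a similitude. -/
def conjSim {g : V ≃ₗ[F] V} {μ : F} (hg : IsSimil Q g μ) : orthGroup Q →* orthGroup Q where
  toFun h := ⟨g.symm.trans (h.1.trans g), fun v => by
    show Q (g (h.1 (g.symm v))) = Q v
    rw [hg, apply_quad, ← hg, LinearEquiv.apply_symm_apply]⟩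
  map_one' := Subtype.ext (LinearEquiv.ext fun v => g.apply_symm_apply v)
  map_mul' h k := Subtype.ext (LinearEquiv.ext fun v => by
    show g (h.1 (k.1 (g.symm v))) = g (h.1 (g.symm (g (k.1 (g.symm v)))))
    rw [LinearEquiv.symm_apply_apply])

theorem conjSim_apply {g : V ≃ₗ[F] V} {μ : F} (hg : IsSimil Q g μ) (h : orthGroup Q) (v : V) :
    (conjSim hg h).1 v = g (h.1 (g.symm v)) := rfl

theorem conjSim_refl {g : V ≃ₗ[F] V} {μ : F} (hg : IsSimil Q g μ) (hμ : μ ≠ 0) (a : V) :
    conjSim hg (refl Q a) = refl Q (g a) := by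
  refine Subtype.ext (LinearEquiv.ext fun v => ?_)
  obtain ⟨w, rfl⟩ := g.surjective v
  rw [conjSim_apply, LinearEquiv.symm_apply_apply, refl_apply, refl_apply, hg, hg.polar, map_sub, map_smul,
    mul_inv, mul_mul_mul_comm, inv_mul_cancel₀ hμ, one_mul]

theorem conjSim_mem_commutator {g : V ≃ₗ[F] V} {μ : F} (hg : IsSimil Q g μ) {h : orthGroup Q}
    (hh : h ∈ commutator (orthGroup Q)) : conjSim hg h ∈ commutator (orthGroup Q) := by
  rw [← Abelianization.ker_of, MonoidHom.mem_ker] at hh ⊢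
  rw [← Abelianization.map_of (conjSim hg), hh, map_one]

variable (hQ : (QuadraticMap.polarBilin Q).Nondegenerate)
include hQ

theorem sq_mem_commutator (h4 : Good F V) (h : orthGroup Q) : h * h ∈ commutator (orthGroup Q) := by
  rw [mem_commutator_iff, map_mul]
  exact ab_sq hQ h4 h

/-- Commuting with all fourth powers of isometries forces an eigenvector. -/
theorem eigen_of_commute (h2 : (2 : F) ≠ 0) (g : V →ₗ[F] V)
    (hg : ∀ (h : orthGroup Q) (v : V), g (((h * h) * (h * h)).1 v) = ((h * h) * (h * h)).1 (g v)) {d u u' : V} (hd : Q d = 0)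
    (hu : Q u = 0) (hu' : Q u' = 0) (hdu : polar Q d u = 0) (hdu' : polar Q d u' = 0)
    (huu : polar Q u u' = 1) : ∃ c : F, g d = c • d := by
  have half : ∀ u u' : V, Q u = 0 → polar Q d u = 0 → polar Q d u' = 0 → polar Q u u' = 1 →
      g d = (-(polar Q d (g u'))) • u + polar Q u (g u') • d := by
    intro u u' hu hdu hdu' huu
    obtain ⟨s, hs⟩ := exists_siegel hQ (d := d) (u := (4 : F)⁻¹ • u) hd (by rw [polar_smul_r', hdu, mul_zero])
    have h4 : (4 : F) ≠ 0 := by
      rw [show (4 : F) = 2 * 2 by norm_num]; exact mul_ne_zero h2 h2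
    have hss : ∀ v, ((s * s) * (s * s)).1 v = v + polar Q d v • u + (-(polar Q u v)) • d := by
      intro v
      show s.1 (s.1 (s.1 (s.1 v))) = _
      simp only [hs]
      simp only [quad_smul', hu, mul_zero, zero_mul, sub_zero, polar_add_right, polar_smul_r', polar_smul_l', hdu,
        polar_self', hd, polar_comm _ u d, add_zero]
      match_scalars <;> field_simp <;> ring
    have h := hg s u'
    rw [hss, hss, hdu', zero_smul, add_zero, huu, neg_smul, one_smul, map_add, map_neg, add_assoc, add_right_inj] at h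
    rw [← neg_inj, h, neg_add, neg_smul, neg_smul, neg_neg]
  have h1 := half u u' hu hdu hdu' huu
  have h2' := half u' u hu' hdu' hdu (by rw [polar_comm]; exact huu)
  refine ⟨polar Q u' (g u), ?_⟩
  have e := congrArg (polar Q u) (h1.symm.trans h2')
  simp only [polar_add_right, polar_smul_r', polar_self', hu, mul_zero, zero_mul, polar_comm _ u d, hdu, huu,
    mul_one, add_zero, zero_add] at e
  rw [h2', ← e, zero_smul, zero_add]

/-- The centraliser of the fourth powers of isometries consists of scalars. -/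
theorem scalar_of_commute (h2 : (2 : F) ≠ 0) {e₀ f₀ e₁ f₁ : V} (he₀ : Q e₀ = 0) (hf₀ : Q f₀ = 0) (he₁ : Q e₁ = 0)
    (hf₁ : Q f₁ = 0) (h00 : polar Q e₀ f₀ = 1) (h11 : polar Q e₁ f₁ = 1) (hee : polar Q e₀ e₁ = 0)
    (hef : polar Q e₀ f₁ = 0) (hfe : polar Q f₀ e₁ = 0) (hff : polar Q f₀ f₁ = 0) (g : V →ₗ[F] V)
    (hg : ∀ (h : orthGroup Q) (v : V), g (((h * h) * (h * h)).1 v) = ((h * h) * (h * h)).1 (g v)) : ∃ c : F, ∀ v, g v = c • v := by
  have eig := fun {d u u' : V} (hd : Q d = 0) (hu : Q u = 0) (hu' : Q u' = 0) (hdu : polar Q d u = 0)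
    (hdu' : polar Q d u' = 0) (huu : polar Q u u' = 1) => eigen_of_commute hQ h2 g hg hd hu hu' hdu hdu' huu
  -- two eigenvectors whose sum is an eigenvector
  have same : ∀ {a b x y : V} {p q r : F}, g a = p • a → g b = q • b → g (a + b) = r • (a + b) →
      polar Q x a = 1 → polar Q x b = 0 → polar Q y a = 0 → polar Q y b = 1 → q = p := by
    intro a b x y p q r ha hb hab hxa hxb hya hyb
    rw [map_add, ha, hb] at hab
    have h1 := congrArg (polar Q x) hab
    have h3 := congrArg (polar Q y) hab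
    simp only [polar_add_right, polar_smul_r', hxa, hxb, hya, hyb, mul_one, mul_zero, add_zero, zero_add] at h1 h3
    rw [h1, h3]
  have c00 : polar Q f₀ e₀ = 1 := by rw [polar_comm]; exact h00
  have c11 : polar Q f₁ e₁ = 1 := by rw [polar_comm]; exact h11
  have cee : polar Q e₁ e₀ = 0 := by rw [polar_comm]; exact hee
  have cef : polar Q f₁ e₀ = 0 := by rw [polar_comm]; exact hef
  have cfe : polar Q e₁ f₀ = 0 := by rw [polar_comm]; exact hfe
  have cff : polar Q f₁ f₀ = 0 := by rw [polar_comm]; exact hff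
  obtain ⟨c, hc⟩ := eig he₀ he₁ hf₁ hee hef h11
  obtain ⟨c₁, hc₁⟩ := eig he₁ he₀ hf₀ cee cfe h00
  obtain ⟨c₂, hc₂⟩ := eig hf₀ he₁ hf₁ hfe hff h11
  obtain ⟨c₃, hc₃⟩ := eig hf₁ he₀ hf₀ cef cff h00
  have hsub : ∀ {x y : V}, Q x = 0 → Q y = 0 → polar Q x y = 0 → Q (x - y) = 0 := by
    intro x y hx hy hxy
    rw [sub_eq_add_neg, quad_add', QuadraticMap.map_neg, polar_neg_right, hx, hy, hxy]; ring
  have hadd : ∀ {x y : V}, Q x = 0 → Q y = 0 → polar Q x y = 0 → Q (x + y) = 0 := by
    intro x y hx hy hxy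
    rw [quad_add', hx, hy, hxy]; ring
  have e1 : c₁ = c := by
    obtain ⟨r, hr⟩ := eig (hadd he₀ he₁ hee) he₀ (hsub hf₀ hf₁ hff)
      (by rw [polar_add_left, polar_self', he₀, cee]; ring)
      (by rw [polar_add_left, polar_sub_right, polar_sub_right, h00, hef, cfe, h11]; ring)
      (by rw [polar_sub_right, h00, hef, sub_zero])
    exact same hc hc₁ hr c00 hfe cef c11
  have e3 : c₃ = c := by
    obtain ⟨r, hr⟩ := eig (hadd he₀ hf₁ hef) he₀ (hsub hf₀ he₁ hfe)
      (by rw [polar_add_left, polar_self', he₀, cef]; ring)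
      (by rw [polar_add_left, polar_sub_right, polar_sub_right, h00, hee, cff, c11]; ring)
      (by rw [polar_sub_right, h00, hee, sub_zero])
    exact same hc hc₃ hr c00 hff cee h11
  have e2 : c₂ = c := by
    obtain ⟨r, hr⟩ := eig (hadd hf₀ he₁ hfe) hf₀ (hsub he₀ hf₁ hef)
      (by rw [polar_add_left, polar_self', hf₀, cfe]; ring)
      (by rw [polar_add_left, polar_sub_right, polar_sub_right, c00, hff, cee, h11]; ring)
      (by rw [polar_sub_right, c00, hff, sub_zero])
    rw [← e1]
    exact (same hc₂ hc₁ hr h00 hee cff c11).symm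
  rw [e1] at hc₁
  rw [e2] at hc₂
  rw [e3] at hc₃
  refine ⟨c, fun v => ?_⟩
  set z := v - polar Q f₀ v • e₀ - polar Q e₀ v • f₀ - polar Q f₁ v • e₁ - polar Q e₁ v • f₁ with hz
  have z₀ : polar Q z e₀ = 0 := by
    simp only [hz, polar_sub_left, polar_smul_l', polar_self', he₀, c00, cee, cef, polar_comm _ v e₀]; ring
  have z₀' : polar Q z f₀ = 0 := by
    simp only [hz, polar_sub_left, polar_smul_l', polar_self', hf₀, h00, cfe, cff, polar_comm _ v f₀]; ring
  have z₁ : polar Q z e₁ = 0 := by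
    simp only [hz, polar_sub_left, polar_smul_l', polar_self', he₁, hee, hfe, c11, polar_comm _ v e₁]; ring
  have z₁' : polar Q z f₁ = 0 := by
    simp only [hz, polar_sub_left, polar_smul_l', polar_self', hf₁, hef, hff, h11, polar_comm _ v f₁]; ring
  set d := z + e₀ + (-Q z) • f₀ with hd
  have hd0 : Q d = 0 := by
    simp only [hd, quad_add', quad_smul', polar_add_left, polar_smul_r', he₀, hf₀, z₀, z₀', h00]; ring
  have de1 : polar Q d e₁ = 0 := by simp only [hd, polar_add_left, polar_smul_l', z₁, hee, hfe]; ring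
  have df1 : polar Q d f₁ = 0 := by simp only [hd, polar_add_left, polar_smul_l', z₁', hef, hff]; ring
  have df0 : polar Q d f₀ = 1 := by simp only [hd, polar_add_left, polar_smul_l', polar_self', hf₀, z₀', h00]; ring
  obtain ⟨k, hk⟩ := eig hd0 he₁ hf₁ de1 df1 h11
  obtain ⟨r, hr⟩ := eig (hadd hd0 he₁ de1) he₁ (hsub hf₁ hf₀ cff)
    (by rw [polar_add_left, de1, polar_self', he₁]; ring)
    (by rw [polar_add_left, polar_sub_right, polar_sub_right, df1, df0, h11, cfe]; ring)
    (by rw [polar_sub_right, h11, cfe, sub_zero])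
  have hkc : c = k := same hk hc₁ hr (by rw [polar_comm]; exact df0) hfe (by rw [polar_comm]; exact df1) c11
  rw [← hkc] at hk
  have hzc : g z = c • z := by
    have : z = d - e₀ - (-Q z) • f₀ := by rw [hd]; abel
    rw [this, map_sub, map_sub, map_smul, hk, hc, hc₂]
    module
  have hv : v = z + polar Q f₀ v • e₀ + polar Q e₀ v • f₀ + polar Q f₁ v • e₁ + polar Q e₁ v • f₁ := by
    rw [hz]; abel
  rw [hv, map_add, map_add, map_add, map_add, map_smul, map_smul, map_smul, map_smul, hzc, hc, hc₁, hc₂, hc₃]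
  module

/-- An element of a totally singular subspace of smaller than half dimension is not maximal. -/
theorem max_singular_iff (h4 : Good F V) {U₀ : Submodule F V} (hU₀ : IsLagrangian Q U₀) (U : Submodule F V) :
    ((∀ u ∈ U, Q u = 0) ∧ ∀ W : Submodule F V, (∀ w ∈ W, Q w = 0) → U ≤ W → W = U) ↔ IsLagrangian Q U := by
  constructor
  · rintro ⟨hU, hmax⟩
    have hd := finrank_of_isLagrangian hQ hU₀
    refine isLagrangian_of_finrank hQ hU ?_
    by_contra hne
    have hle : finrank F U ≤ finrank F U₀ := by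
      have h := LinearMap.BilinForm.finrank_orthogonal hQ U
      have hsub : U ≤ LinearMap.BilinForm.orthogonal (QuadraticMap.polarBilin Q) U := fun u hu w hw => by
        show QuadraticMap.polar Q w u = 0
        simp only [QuadraticMap.polar, hU _ (U.add_mem hw hu), hU _ hw, hU _ hu, sub_zero]
      have := Submodule.finrank_mono hsub
      have := Submodule.finrank_le U
      omega
    obtain ⟨W, hW, hWU⟩ : ∃ W : Submodule F V, W ≤ U₀ ∧ finrank F W = finrank F U := by
      let b := Module.finBasis F U₀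
      refine ⟨Submodule.span F (Set.range fun i : Fin (finrank F U) => ((b (Fin.castLE hle i)) : V)), ?_, ?_⟩
      · rw [Submodule.span_le]; rintro _ ⟨i, rfl⟩; exact (b _).2
      · exact (finrank_span_eq_card ((b.linearIndependent.map' U₀.subtype U₀.ker_subtype).comp _
          (Fin.castLE_injective hle))).trans (Fintype.card_fin _)
    obtain ⟨g, hg⟩ := exists_map_eq_submodule hQ h4 (LinearEquiv.ofFinrankEq W U hWU) fun u => by
      rw [hU₀.1 _ (hW u.2), hU _ (LinearEquiv.ofFinrankEq W U hWU u).2]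
    have hgU₀ := isLagrangian_map hU₀ g
    have := hmax _ hgU₀.1 (hg ▸ Submodule.map_mono hW)
    apply hne
    rw [← this]
    exact finrank_of_isLagrangian hQ hgU₀
  · intro hU
    refine ⟨hU.1, fun W hW hUW => le_antisymm ?_ hUW⟩
    intro w hw
    rw [← hU.2]
    intro u hu
    show QuadraticMap.polar Q u w = 0
    simp only [QuadraticMap.polar, hW _ (W.add_mem (hUW hu) hw), hW _ (hUW hu), hW _ hw, sub_zero]

/-- The parity class criterion for similitudes. -/
theorem similitude_parity (h2 : (2 : F) ≠ 0) {U₀ : Submodule F V} (hU₀ : IsLagrangian Q U₀) {k : ℕ}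
    {g d : V ≃ₗ[F] V} {μ : F} (hμ : μ ≠ 0) (hg : IsSimil Q g μ) (hd : IsSimil Q d μ)
    (hdU : U₀.map (d : V →ₗ[F] V) = U₀) (hdet : LinearMap.det (d : V →ₗ[F] V) = μ ^ k) {U : Submodule F V}
    (hU : IsLagrangian Q U) :
    Even (lagDist U (U.map (g : V →ₗ[F] V))) ↔ LinearMap.det (g : V →ₗ[F] V) = μ ^ k := by
  obtain ⟨t, ht⟩ := exists_map_eq_submodule hQ (good_of_two_ne h2)
    (LinearEquiv.ofFinrankEq U₀ U (by
      have h1 := finrank_of_isLagrangian hQ hU₀
      have h3 := finrank_of_isLagrangian hQ hU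
      omega))
    fun u => by rw [hU₀.1 _ u.2, hU.1 _ (LinearEquiv.ofFinrankEq U₀ U _ u).2]
  -- the similitude carried to `U₀`, divided by `d`
  let h : orthGroup Q := ⟨d.symm.trans (t.1.trans (g.trans t.1.symm)), fun v => by
    show Q (t.1.symm (g (t.1 (d.symm v)))) = Q v
    have : Q (t.1.symm (g (t.1 (d.symm v)))) = Q (g (t.1 (d.symm v))) := apply_quad t⁻¹ _
    rw [this, hg, apply_quad, ← hd, LinearEquiv.apply_symm_apply]⟩
  have hh : U₀.map (h.1 : V →ₗ[F] V) = (U.map (g : V →ₗ[F] V)).map (t.1.symm : V →ₗ[F] V) := by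
    rw [← ht, ← Submodule.map_comp, ← Submodule.map_comp]
    conv_lhs => rw [← hdU, ← Submodule.map_comp]
    congr 1
    refine LinearMap.ext fun v => ?_
    show t.1.symm (g (t.1 (d.symm (d v)))) = _
    rw [LinearEquiv.symm_apply_apply]; rfl
  have hlag : lagDist U₀ (U₀.map (h.1 : V →ₗ[F] V)) = lagDist U (U.map (g : V →ₗ[F] V)) := by
    rw [hh]
    have hU' : U₀ = U.map (t.1.symm : V →ₗ[F] V) := by
      rw [← ht, ← Submodule.map_comp]
      conv_lhs => rw [← Submodule.map_id U₀]
      congr 1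
      exact LinearMap.ext fun v => (t.1.symm_apply_apply v).symm
    unfold lagDist
    rw [hU', ← Submodule.map_inf _ t.1.symm.injective, LinearEquiv.finrank_map_eq, LinearEquiv.finrank_map_eq]
  rw [← hlag, ← det_eq_one_iff hQ h2 hU₀ h]
  show LinearMap.det ((d.symm.trans (t.1.trans (g.trans t.1.symm)) : V ≃ₗ[F] V) : V →ₗ[F] V) = 1 ↔ _
  have hdd : LinearMap.det (d.symm : V →ₗ[F] V) * μ ^ k = 1 := by
    rw [← hdet, ← map_mul]
    exact (congrArg LinearMap.det (LinearMap.ext fun v => d.symm_apply_apply v)).trans LinearMap.det_id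
  have htt : LinearMap.det (t.1.symm : V →ₗ[F] V) * LinearMap.det (t.1 : V →ₗ[F] V) = 1 := by
    rw [← map_mul]
    exact (congrArg LinearMap.det (LinearMap.ext fun v => t.1.symm_apply_apply v)).trans LinearMap.det_id
  have hmul : LinearMap.det ((d.symm.trans (t.1.trans (g.trans t.1.symm)) : V ≃ₗ[F] V) : V →ₗ[F] V) =
      LinearMap.det (t.1.symm : V →ₗ[F] V) * LinearMap.det (g : V →ₗ[F] V) * LinearMap.det (t.1 : V →ₗ[F] V) *
        LinearMap.det (d.symm : V →ₗ[F] V) := by
    rw [← map_mul, ← map_mul, ← map_mul]; rfl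
  rw [hmul]
  constructor
  · intro h1
    linear_combination μ ^ k * h1 - LinearMap.det (t.1.symm : V →ₗ[F] V) * LinearMap.det (t.1 : V →ₗ[F] V) *
      LinearMap.det (g : V →ₗ[F] V) * hdd - LinearMap.det (g : V →ₗ[F] V) * htt
  · intro h1
    rw [h1]
    linear_combination hdd + μ ^ k * LinearMap.det (d.symm : V →ₗ[F] V) * htt

end CfsgLib.Orth
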