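import Cfsg.Agent.Lib.Orth.Stab
import Cfsg.Agent.Lib.Orth.Standard

set_option autoImplicit false
set_option linter.unusedSectionVars false

/-! Classification of non-degenerate quadratic forms over finite fields. -/

namespace CfsgLib.Orth

open QuadraticMap Module

variable {F V : Type*} [Field F] [AddCommGroup V] [Module F V] [FiniteDimensional F V]
variable {Q : QuadraticForm F V} (hQ : (QuadraticMap.polarBilin Q).Nondegenerate)

/-- A form-preserving linear map out of a non-degenerate space is injective. -/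
theorem injective_of_preserving {W : Type*} [AddCommGroup W] [Module F W] {R : QuadraticForm F W}
    (hR : (QuadraticMap.polarBilin R).Nondegenerate) (T : W →ₗ[F] V) (hT : ∀ w, Q (T w) = R w) :
    Function.Injective T := by
  rw [injective_iff_map_eq_zero]
  intro w hw
  refine hR.1 w fun x => ?_
  rw [QuadraticMap.polarBilin_apply_apply]
  simp only [polar, ← hT, map_add, hw, zero_add, QuadraticMap.map_zero, sub_zero, sub_self]

theorem polar_of_preserving {W : Type*} [AddCommGroup W] [Module F W] {R : QuadraticForm F W}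
    (T : W →ₗ[F] V) (hT : ∀ w, Q (T w) = R w) (x y : W) : polar Q (T x) (T y) = polar R x y := by
  simp only [polar, ← map_add, hT]

include hQ

/-- Witt's theorem for two embeddings of a non-degenerate space. -/
theorem exists_orth_comp {W : Type*} [AddCommGroup W] [Module F W] [FiniteDimensional F W] {R : QuadraticForm F W}
    (hR : (QuadraticMap.polarBilin R).Nondegenerate) (T S : W →ₗ[F] V) (hT : ∀ w, Q (T w) = R w)
    (hS : ∀ w, Q (S w) = R w) : ∃ g : orthGroup Q, ∀ w, g.1 (T w) = S w := by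
  let b := Module.finBasis F W
  obtain ⟨g, hg⟩ := witt_family' hQ (T ∘ b) (S ∘ b)
    (b.linearIndependent.map' T (LinearMap.ker_eq_bot.2 (injective_of_preserving hR T hT)))
    (b.linearIndependent.map' S (LinearMap.ker_eq_bot.2 (injective_of_preserving hR S hS)))
    (fun i => (hT _).trans (hS _).symm)
    (fun i j => (polar_of_preserving T hT _ _).trans (polar_of_preserving S hS _ _).symm)
  refine ⟨g, fun w => ?_⟩
  have : (g.1 : V →ₗ[F] V).comp T = S := b.ext fun i => hg i
  exact LinearMap.congr_fun this w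

theorem exists_singular [Fintype F] (h : 3 ≤ finrank F V) : ∃ v : V, v ≠ 0 ∧ Q v = 0 := by
  classical
  by_contra hall
  push Not at hall
  haveI : Nontrivial V := Module.nontrivial_of_finrank_pos (R := F) (by omega)
  obtain ⟨a, ha⟩ := exists_ne (0 : V)
  have haQ : Q a ≠ 0 := hall a ha
  set B : LinearMap.BilinForm F V := QuadraticMap.polarBilin Q
  set W := B.orthogonal (F ∙ a)
  have hW : finrank F W = finrank F V - 1 := by
    rw [LinearMap.BilinForm.finrank_orthogonal hQ, finrank_span_singleton ha]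
  have hWa : ∀ b ∈ W, polar Q a b = 0 := fun b hb => hb a (Submodule.mem_span_singleton_self a)
  by_cases h2 : (2 : F) = 0
  · haveI : CharP F 2 := CharTwo.of_one_ne_zero_of_two_eq_zero one_ne_zero h2
    obtain ⟨b, hb, hba⟩ : ∃ b ∈ W, b ∉ (F ∙ a) := by
      by_contra hall'
      push Not at hall'
      have := Submodule.finrank_mono (s := W) (t := F ∙ a) hall'
      rw [finrank_span_singleton ha] at this
      omega
    have hbQ : Q b ≠ 0 := hall b fun h => hba (h ▸ Submodule.zero_mem _)
    obtain ⟨t, ht⟩ := FiniteField.isSquare_of_char_two (ringChar.eq F 2) (Q a / Q b)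
    have hne : a + t • b ≠ 0 := by
      intro h0
      rcases eq_or_ne t 0 with rfl | ht0
      · rw [zero_smul, add_zero] at h0; exact ha h0
      · apply hba
        refine Submodule.mem_span_singleton.2 ⟨-t⁻¹, ?_⟩
        rw [eq_neg_of_add_eq_zero_left h0, smul_neg, neg_smul, neg_neg, smul_smul, inv_mul_cancel₀ ht0, one_smul]
    apply hall _ hne
    rw [quad_add', quad_smul', polar_smul_r', hWa b hb, ← ht, div_mul_cancel₀ _ hbQ, mul_zero, add_zero,
      CharTwo.add_self_eq_zero]
  · have hR : W ⊓ B.orthogonal W = ⊥ := by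
      rw [Submodule.eq_bot_iff]
      rintro x ⟨hxW, hx⟩
      have hrefl : B.IsRefl := fun u v h => by
        change polar Q v u = 0
        rw [polar_comm]; exact h
      rw [show B.orthogonal W = F ∙ a from LinearMap.BilinForm.orthogonal_orthogonal hQ hrefl _] at hx
      obtain ⟨t, rfl⟩ := Submodule.mem_span_singleton.1 hx
      have h0 := hWa _ hxW
      rw [polar_smul_r', polar_self', mul_eq_zero] at h0
      rw [h0.resolve_right (mul_ne_zero h2 haQ), zero_smul]
    obtain ⟨b, hb, hbQ⟩ := exists_value (Q := Q) W (by rw [hR, finrank_bot, hW]; omega) (-(Q a))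
    refine hall (a + b) (fun h0 => ?_) (by rw [quad_add', hWa b hb, hbQ]; ring)
    have : polar Q a (a + b) = 0 := by rw [h0, polar_zero_right]
    rw [polar_add_right, polar_self', hWa b hb, add_zero] at this
    exact mul_ne_zero h2 haQ this

omit hQ in
/-- Extend an embedding of a hyperbolic space by one pair. -/
theorem extend_hyperbolic {m : ℕ} (T : (Fin m ⊕ Fin m → F) →ₗ[F] V) (hT : ∀ v, Q (T v) = plusForm F m v)
    {e f : V} (he : Q e = 0) (hf : Q f = 0) (hef : polar Q e f = 1)
    (hTe : ∀ v, polar Q (T v) e = 0) (hTf : ∀ v, polar Q (T v) f = 0) :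
    ∃ T' : (Fin (m + 1) ⊕ Fin (m + 1) → F) →ₗ[F] V, ∀ v, Q (T' v) = plusForm F (m + 1) v := by
  let r : (Fin (m + 1) ⊕ Fin (m + 1) → F) →ₗ[F] (Fin m ⊕ Fin m → F) :=
    LinearMap.funLeft F F (Sum.map Fin.castSucc Fin.castSucc)
  refine ⟨T.comp r + (LinearMap.proj (Sum.inl (Fin.last m))).smulRight e +
    (LinearMap.proj (Sum.inr (Fin.last m))).smulRight f, fun v => ?_⟩
  simp only [LinearMap.add_apply, LinearMap.comp_apply, LinearMap.smulRight_apply, LinearMap.proj_apply]
  rw [quad_add', quad_add', quad_smul', quad_smul', polar_add_left, polar_smul_r', polar_smul_r',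
    polar_smul_l', polar_smul_r', he, hf, hef, hTe, hTf, hT, ← plusForm_apply, ← plusForm_apply]
  simp only [Cfsg.quadFormPlus, Fin.sum_univ_castSucc, r, LinearMap.funLeft_apply, Sum.map_inl, Sum.map_inr]
  ring

/-- Decomposition into hyperbolic planes and an anisotropic kernel of dimension at most two. -/
theorem exists_decomposition [Fintype F] : ∃ (m : ℕ) (A : Submodule F V) (T : (Fin m ⊕ Fin m → F) →ₗ[F] V),
    (∀ v, Q (T v) = plusForm F m v) ∧ (∀ v, ∀ a ∈ A, polar Q (T v) a = 0) ∧ finrank F A + 2 * m = finrank F V ∧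
    finrank F A ≤ 2 ∧ (∀ a ∈ A, Q a = 0 → a = 0) ∧ (QuadraticMap.polarBilin (Q.comp A.subtype)).Nondegenerate := by
  classical
  have hbound : ∀ m, (∃ T : (Fin m ⊕ Fin m → F) →ₗ[F] V, ∀ v, Q (T v) = plusForm F m v) → 2 * m ≤ finrank F V := by
    rintro m ⟨T, hT⟩
    have h := LinearMap.finrank_le_finrank_of_injective (injective_of_preserving (plusForm_nondeg m) T hT)
    rw [Module.finrank_fintype_fun_eq_card, Fintype.card_sum, Fintype.card_fin] at h
    omega
  let P : ℕ → Prop := fun k => ∃ T : (Fin k ⊕ Fin k → F) →ₗ[F] V, ∀ v, Q (T v) = plusForm F k v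
  have h0 : P 0 := ⟨0, fun v => by rw [← plusForm_apply]; simp [Cfsg.quadFormPlus]⟩
  set m := Nat.findGreatest P (finrank F V)
  obtain ⟨T, hT⟩ : P m := Nat.findGreatest_spec (Nat.zero_le _) h0
  have hmax : ¬ P (m + 1) := fun h => by
    have h1 := hbound _ h
    exact absurd (Nat.le_findGreatest (n := finrank F V) (by omega) h) (by omega)
  have hTinj := injective_of_preserving (plusForm_nondeg m) T hT
  set B : LinearMap.BilinForm F V := QuadraticMap.polarBilin Q
  have hrefl : B.IsRefl := fun u v h => by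
    change polar Q v u = 0
    rw [polar_comm]; exact h
  set A := B.orthogonal (LinearMap.range T)
  have hTA : ∀ v, ∀ a ∈ A, polar Q (T v) a = 0 := fun v a ha => ha _ ⟨v, rfl⟩
  have hdim : finrank F A + 2 * m = finrank F V := by
    rw [LinearMap.BilinForm.finrank_orthogonal hQ, LinearMap.finrank_range_of_inj hTinj,
      Module.finrank_fintype_fun_eq_card, Fintype.card_sum, Fintype.card_fin]
    have := hbound m ⟨T, hT⟩
    omega
  have hint : ∀ a ∈ A, a ∈ LinearMap.range T → a = 0 := by
    rintro _ ha ⟨v, rfl⟩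
    rw [(plusForm_nondeg m).1 v (fun w => ?_), map_zero]
    rw [QuadraticMap.polarBilin_apply_apply, ← polar_of_preserving T hT, polar_comm]
    exact hTA w _ ha
  have hanis : ∀ a ∈ A, Q a = 0 → a = 0 := by
    intro a ha haQ
    by_contra ha0
    obtain ⟨z', hz'T, hz'a⟩ := exists_polar_one hQ (W := LinearMap.range T) (fun h => ha0 (hint a ha h))
    refine hmax (extend_hyperbolic T hT (e := a) (f := z' - Q z' • a) haQ ?_ ?_ (fun v => hTA v a ha) fun v => ?_)
    · rw [sub_eq_add_neg, ← neg_smul, quad_add', quad_smul', polar_smul_r', haQ, hz'a]; ring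
    · rw [polar_sub_right, polar_smul_r', polar_self', haQ, polar_comm _ a z', hz'a]; ring
    · rw [polar_sub_right, polar_smul_r', hTA v a ha, polar_comm _ (T v) z', hz'T _ ⟨v, rfl⟩]; ring
  have hnd : (QuadraticMap.polarBilin (Q.comp A.subtype)).Nondegenerate := by
    refine nondegenerate_of_left fun a ha => Subtype.ext ?_
    apply hint a.1 a.2
    rw [← LinearMap.BilinForm.orthogonal_orthogonal hQ hrefl (LinearMap.range T)]
    intro b hb
    show polar Q b a.1 = 0
    rw [polar_comm]
    exact ha ⟨b, hb⟩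
  refine ⟨m, A, T, hT, hTA, hdim, ?_, hanis, hnd⟩
  by_contra h3
  obtain ⟨a, ha0, haQ⟩ := exists_singular hnd (by omega)
  exact ha0 (Subtype.ext (hanis a.1 a.2 haQ))

omit hQ in
/-- A basis of an anisotropic plane in normal form. -/
theorem exists_plane_basis [Fintype F] (A : Submodule F V) (hA : finrank F A = 2)
    (hnd : (QuadraticMap.polarBilin (Q.comp A.subtype)).Nondegenerate) (hanis : ∀ a ∈ A, Q a = 0 → a = 0) :
    ∃ x ∈ A, ∃ y ∈ A, ∃ ζ : F, Q x = 1 ∧ polar Q x y = 1 ∧ Q y = ζ ∧ (∀ t : F, t ^ 2 + t + ζ ≠ 0) := by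
  classical
  obtain ⟨x, hx, hQx⟩ : ∃ x ∈ A, Q x = 1 := by
    refine exists_value (Q := Q) A ?_ 1
    have hbot : A ⊓ LinearMap.BilinForm.orthogonal (QuadraticMap.polarBilin Q) A = ⊥ := by
      rw [Submodule.eq_bot_iff]
      rintro v ⟨hv, hv'⟩
      have := hnd.1 ⟨v, hv⟩ (fun w => by
        show polar Q v w = 0
        rw [polar_comm]; exact hv' w w.2)
      exact congrArg Subtype.val this
    rw [hbot, finrank_bot, hA]
  have hx0 : x ≠ 0 := fun h => by simp [h] at hQx
  obtain ⟨z, hz⟩ := exists_polar_eq hnd (LinearMap.id (R := F) |>.comp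
    ((Classical.choose (Submodule.exists_dual_map_eq_bot_of_notMem (p := (⊥ : Submodule F A)) (x := ⟨x, hx⟩)
      (by simpa using hx0) inferInstance))))
  set φ := Classical.choose (Submodule.exists_dual_map_eq_bot_of_notMem (p := (⊥ : Submodule F A)) (x := ⟨x, hx⟩)
      (by simpa using hx0) inferInstance)
  have hφ : φ ⟨x, hx⟩ ≠ 0 := (Classical.choose_spec (Submodule.exists_dual_map_eq_bot_of_notMem (p := (⊥ : Submodule F A)) (x := ⟨x, hx⟩)
      (by simpa using hx0) inferInstance)).1
  set y₀ : V := (φ ⟨x, hx⟩)⁻¹ • (z : V) with hy₀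
  have hy₀A : y₀ ∈ A := A.smul_mem _ z.2
  have hxy₀ : polar Q x y₀ = 1 := by
    rw [hy₀, polar_smul_r', polar_comm _ x (z : V)]
    have := hz ⟨x, hx⟩
    change polar Q (z : V) x = φ ⟨x, hx⟩ at this
    rw [this, inv_mul_cancel₀ hφ]
  obtain ⟨y, hyA, hxy, hyx⟩ : ∃ y ∈ A, polar Q x y = 1 ∧ y ∉ (F ∙ x) := by
    by_cases hy : y₀ ∈ (F ∙ x)
    swap
    · exact ⟨y₀, hy₀A, hxy₀, hy⟩
    obtain ⟨s, hs⟩ := Submodule.mem_span_singleton.1 hy
    have hs2 : s * 2 = 1 := by
      rw [← hs, polar_smul_r', polar_self', hQx] at hxy₀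
      linear_combination hxy₀
    obtain ⟨w, hwA, hw⟩ : ∃ w ∈ A, w ∉ (F ∙ x) := by
      by_contra hall
      push Not at hall
      have := Submodule.finrank_mono (s := A) (t := F ∙ x) hall
      rw [finrank_span_singleton hx0, hA] at this
      omega
    refine ⟨y₀ + (w - (polar Q x w * s) • x), A.add_mem hy₀A (A.sub_mem hwA (A.smul_mem _ hx)), ?_, fun h => hw ?_⟩
    · rw [polar_add_right, hxy₀, polar_sub_right, polar_smul_r', polar_self', hQx]
      linear_combination -(polar Q x w) * hs2
    · have h1 := Submodule.sub_mem _ h hy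
      rw [add_sub_cancel_left] at h1
      simpa using Submodule.add_mem _ h1 (Submodule.smul_mem _ (polar Q x w * s) (Submodule.mem_span_singleton_self x))
  refine ⟨x, hx, y, hyA, Q y, hQx, hxy, rfl, fun t ht => hyx ?_⟩
  have h0 : t • x + y = 0 := hanis _ (A.add_mem (A.smul_mem _ hx) hyA) (by
    rw [quad_add', quad_smul', polar_smul_l', hQx, hxy]
    linear_combination ht)
  exact Submodule.mem_span_singleton.2 ⟨-t, by rw [neg_smul]; exact neg_eq_of_add_eq_zero_right h0⟩

/-- An even-dimensional space is hyperbolic or elliptic. -/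
theorem classify_even [Fintype F] {m : ℕ} (hV : finrank F V = 2 * m) :
    (∃ e : (Fin m ⊕ Fin m → F) ≃ₗ[F] V, ∀ v, Q (e v) = plusForm F m v) ∨
    (1 ≤ m ∧ ∃ (e : ((Fin (m - 1) ⊕ Fin (m - 1)) ⊕ Fin 2 → F) ≃ₗ[F] V) (ζ : F),
      (∀ t : F, t ^ 2 + t + ζ ≠ 0) ∧ ∀ v, Q (e v) = minusForm F (m - 1) 1 ζ v) := by
  classical
  obtain ⟨k, A, T, hT, hTA, hdim, hA2, hanis, hnd⟩ := exists_decomposition hQ
  rcases Nat.lt_or_ge (finrank F A) 2 with h | h
  · left
    have hk : k = m := by omega
    subst hk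
    exact ⟨LinearEquiv.ofBijective T ⟨injective_of_preserving (plusForm_nondeg k) T hT,
      (LinearMap.injective_iff_surjective_of_finrank_eq_finrank (by
        rw [hV, Module.finrank_fintype_fun_eq_card, Fintype.card_sum, Fintype.card_fin]; omega)).1
        (injective_of_preserving (plusForm_nondeg k) T hT)⟩, hT⟩
  right
  obtain ⟨x, hx, y, hy, ζ, hQx, hxy, hQy, hζ⟩ := exists_plane_basis A (by omega) hnd hanis
  have hk : k = m - 1 := by omega
  subst hk
  refine ⟨by omega, ?_⟩
  let S : ((Fin (m - 1) ⊕ Fin (m - 1)) ⊕ Fin 2 → F) →ₗ[F] V :=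
    T.comp (LinearMap.funLeft F F Sum.inl) + (LinearMap.proj (Sum.inr 0)).smulRight x +
      (LinearMap.proj (Sum.inr 1)).smulRight y
  have hS : ∀ v, Q (S v) = minusForm F (m - 1) 1 ζ v := by
    intro v
    simp only [S, LinearMap.add_apply, LinearMap.comp_apply, LinearMap.smulRight_apply, LinearMap.proj_apply]
    rw [quad_add', quad_add', quad_smul', quad_smul', polar_add_left, polar_smul_r', polar_smul_r', polar_smul_l',
      polar_smul_r', hQx, hQy, hxy, hTA _ x hx, hTA _ y hy, hT, ← plusForm_apply, ← minusForm_apply]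
    simp only [Cfsg.quadFormPlus, Cfsg.quadFormMinus, LinearMap.funLeft_apply]
    ring
  have hanis' : ∀ z₁ z₂ : F, z₁ ^ 2 + 1 * z₁ * z₂ + ζ * z₂ ^ 2 = 0 → z₁ = 0 ∧ z₂ = 0 := by
    intro z₁ z₂ h0
    by_cases hz : z₂ = 0
    · subst hz; simpa using h0
    · exfalso
      apply hζ (z₁ / z₂)
      field_simp
      linear_combination h0
  have hinj := injective_of_preserving (minusForm_nondeg (m - 1) 1 ζ hanis') S hS
  exact ⟨LinearEquiv.ofBijective S ⟨hinj, (LinearMap.injective_iff_surjective_of_finrank_eq_finrank (by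
    rw [hV, Module.finrank_fintype_fun_eq_card, Fintype.card_sum, Fintype.card_sum, Fintype.card_fin, Fintype.card_fin]
    omega)).1 hinj⟩, ζ, hζ, hS⟩

end CfsgLib.Orth
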