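import Cfsg.Agent.Lib.Orth.Classify

set_option autoImplicit false
set_option linter.unusedSectionVars false

/-! Witt indices of the standard forms. -/

namespace CfsgLib.Orth

open QuadraticMap Module
open scoped Matrix

variable {F : Type*} [Field F] {V : Type*} [AddCommGroup V] [Module F V] [FiniteDimensional F V] {Q : QuadraticForm F V}

theorem singular_finrank_le (hQ : (QuadraticMap.polarBilin Q).Nondegenerate) (U : Submodule F V)
    (hU : ∀ u ∈ U, Q u = 0) : 2 * finrank F U ≤ finrank F V := by
  have hle : U ≤ LinearMap.BilinForm.orthogonal (QuadraticMap.polarBilin Q) U := fun u hu w hw => by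
    show polar Q w u = 0
    simp [polar, hU _ (U.add_mem hw hu), hU _ hu, hU _ hw]
  have h1 := Submodule.finrank_mono hle
  rw [LinearMap.BilinForm.finrank_orthogonal hQ] at h1
  have := Submodule.finrank_le U
  omega

theorem minus_singular_finrank_le {k : ℕ} {a b : F}
    (hab : ∀ z₁ z₂ : F, z₁ ^ 2 + a * z₁ * z₂ + b * z₂ ^ 2 = 0 → z₁ = 0 ∧ z₂ = 0)
    (U : Submodule F ((Fin k ⊕ Fin k) ⊕ Fin 2 → F)) (hU : ∀ u ∈ U, minusForm F k a b u = 0) :
    finrank F U ≤ k := by
  let f := U.subtype
  have hf : Function.Injective f := U.injective_subtype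
  have hQ : ∀ x, Cfsg.quadFormMinus k F a b (f x) = 0 := fun x => by
    rw [minusForm_apply]; exact hU _ x.2
  let P : U →ₗ[F] (Fin k → F) := (LinearMap.funLeft F F (fun i => Sum.inl (Sum.inl i))).comp f
  let Y : U →ₗ[F] (Fin k → F) := (LinearMap.funLeft F F (fun i => Sum.inl (Sum.inr i))).comp f
  have hzero : ∀ x, (∀ i, f x (.inl (.inl i)) = 0) → f x (.inr 0) = 0 ∧ f x (.inr 1) = 0 := by
    intro x hx
    have h0 := hQ x
    simp only [Cfsg.quadFormMinus, hx, zero_mul, Finset.sum_const_zero, zero_add] at h0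
    exact hab _ _ h0
  have hker : ∀ x, P x = 0 → Y x = 0 → x = 0 := by
    intro x hP hY
    apply hf
    rw [map_zero]
    obtain ⟨hz0, hz⟩ := hzero x fun i => congrFun hP i
    funext i
    rcases i with (i | i) | i
    · exact congrFun hP i
    · exact congrFun hY i
    · fin_cases i
      · exact hz0
      · exact hz
  have hdot : ∀ x y, P x = 0 → Y x ⬝ᵥ P y = 0 := by
    intro x y hP
    have hP' : ∀ i, f x (.inl (.inl i)) = 0 := fun i => congrFun hP i
    obtain ⟨hz0, hz1⟩ := hzero x hP'
    have e2 := hQ y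
    have e3 := hQ (x + y)
    rw [map_add] at e3
    simp only [Cfsg.quadFormMinus, Pi.add_apply, hP', hz1, hz0, zero_add, mul_add, Finset.sum_add_distrib] at e2 e3
    show ∑ i, f x (.inl (.inr i)) * f y (.inl (.inl i)) = 0
    simp only [mul_comm (f x _)] at *
    linear_combination e3 - e2
  let K := P.ker
  have hYK : Function.Injective (Y.domRestrict K) := by
    intro a b h
    apply Subtype.ext
    refine sub_eq_zero.1 (hker _ ?_ ?_)
    · rw [map_sub, LinearMap.mem_ker.1 a.2, LinearMap.mem_ker.1 b.2, sub_zero]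
    · rw [map_sub, sub_eq_zero]; exact h
  let Yk : Submodule F (Fin k → F) := (Y.domRestrict K).range
  have hann : P.range.map (dotProductEquiv F (Fin k)).toLinearMap ≤ Yk.dualAnnihilator := by
    rintro _ ⟨_, ⟨y, rfl⟩, rfl⟩
    rw [Submodule.mem_dualAnnihilator]
    rintro _ ⟨x, rfl⟩
    show P y ⬝ᵥ Y x = 0
    rw [dotProduct_comm]
    exact hdot x y (LinearMap.mem_ker.1 x.2)
  have h1 := Submodule.finrank_mono hann
  rw [LinearEquiv.finrank_map_eq] at h1
  have h2 := LinearMap.finrank_range_add_finrank_ker P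
  have h3 := Subspace.finrank_add_finrank_dualAnnihilator_eq Yk
  rw [Module.finrank_fin_fun] at h3
  have h4 : Module.finrank F Yk = Module.finrank F K := LinearMap.finrank_range_of_inj hYK
  change Module.finrank F P.range + Module.finrank F K = Module.finrank F U at h2
  omega

end CfsgLib.Orth
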