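import Cfsg.Agent.Lib.Orth.Similitude
import Cfsg.Agent.Lib.Orth.Isometry

set_option autoImplicit false
set_option linter.unusedSectionVars false

/-! A special isometry outside the commutator subgroup commuting with a similitude whose square is scalar. -/

namespace CfsgLib.Orth

open QuadraticMap Module

variable {F V : Type*} [Field F] [AddCommGroup V] [Module F V] [FiniteDimensional F V] {Q : QuadraticForm F V}

/-- A form vanishing on the singular vectors of another is a multiple of it. -/
theorem proportional_of_singular (Q' : QuadraticForm F V) (h2 : (2 : F) ≠ 0) {e₀ f₀ e₁ f₁ : V} (he₀ : Q' e₀ = 0) (hf₀ : Q' f₀ = 0)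
    (he₁ : Q' e₁ = 0) (hf₁ : Q' f₁ = 0) (h00 : polar Q' e₀ f₀ = 1) (h11 : polar Q' e₁ f₁ = 1)
    (hee : polar Q' e₀ e₁ = 0) (hef : polar Q' e₀ f₁ = 0) (hfe : polar Q' f₀ e₁ = 0) (hff : polar Q' f₀ f₁ = 0)
    (h : ∀ v, Q' v = 0 → Q v = 0) : ∀ v, Q v = polar Q e₀ f₀ * Q' v := by
  set k := polar Q e₀ f₀
  set P : QuadraticForm F V := Q - k • Q' with hP
  suffices H : ∀ v, P v = 0 by
    intro v
    have := H v
    rw [hP, QuadraticMap.sub_apply, QuadraticMap.smul_apply, smul_eq_mul, sub_eq_zero] at this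
    exact this
  have hv : ∀ v, Q' v = 0 → P v = 0 := fun v hv => by
    rw [hP, QuadraticMap.sub_apply, QuadraticMap.smul_apply, h v hv, hv, smul_zero, sub_zero]
  have perp : ∀ {u v}, Q' u = 0 → Q' v = 0 → polar Q' u v = 0 → polar P u v = 0 := by
    intro u v hu hv' huv
    have : Q' (u + v) = 0 := by rw [quad_add', hu, hv', huv]; ring
    simp only [polar, hv _ hu, hv _ hv', hv _ this, sub_zero]
  have k00 : polar P e₀ f₀ = 0 := by
    have : polar P e₀ f₀ = polar Q e₀ f₀ - k * polar Q' e₀ f₀ := by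
      simp only [hP, polar, QuadraticMap.sub_apply, QuadraticMap.smul_apply, smul_eq_mul]; ring
    rw [this, h00, mul_one, sub_self]
  have k11 : polar P e₁ f₁ = 0 := by
    have ha : Q' (e₀ + e₁) = 0 := by rw [quad_add', he₀, he₁, hee]; ring
    have hb : Q' (f₀ - f₁) = 0 := by
      rw [sub_eq_add_neg, quad_add', QuadraticMap.map_neg, polar_neg_right, hf₀, hf₁, hff]; ring
    have hab : polar Q' (e₀ + e₁) (f₀ - f₁) = 0 := by
      rw [polar_add_left, polar_sub_right, polar_sub_right, h00, hef, polar_comm Q' e₁ f₀, hfe, h11]; ring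
    have h' := perp ha hb hab
    rw [polar_add_left, polar_sub_right, polar_sub_right, k00, perp he₀ hf₁ hef,
      perp he₁ hf₀ (by rw [polar_comm]; exact hfe)] at h'
    linear_combination -h'
  intro v
  set z := v - polar Q' f₀ v • e₀ - polar Q' e₀ v • f₀ - polar Q' f₁ v • e₁ - polar Q' e₁ v • f₁ with hz
  have c00 : polar Q' f₀ e₀ = 1 := by rw [polar_comm]; exact h00
  have c11 : polar Q' f₁ e₁ = 1 := by rw [polar_comm]; exact h11
  have cee : polar Q' e₁ e₀ = 0 := by rw [polar_comm]; exact hee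
  have cef : polar Q' f₁ e₀ = 0 := by rw [polar_comm]; exact hef
  have cfe : polar Q' e₁ f₀ = 0 := by rw [polar_comm]; exact hfe
  have cff : polar Q' f₁ f₀ = 0 := by rw [polar_comm]; exact hff
  have z₀ : polar Q' z e₀ = 0 := by
    simp only [hz, polar_sub_left, polar_smul_l', polar_self', he₀, c00, cee, cef, polar_comm _ v e₀]; ring
  have z₀' : polar Q' z f₀ = 0 := by
    simp only [hz, polar_sub_left, polar_smul_l', polar_self', hf₀, h00, cfe, cff, polar_comm _ v f₀]; ring
  have z₁ : polar Q' z e₁ = 0 := by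
    simp only [hz, polar_sub_left, polar_smul_l', polar_self', he₁, hee, hfe, c11, polar_comm _ v e₁]; ring
  have z₁' : polar Q' z f₁ = 0 := by
    simp only [hz, polar_sub_left, polar_smul_l', polar_self', hf₁, hef, hff, h11, polar_comm _ v f₁]; ring
  -- the complement is `P`-orthogonal to the four vectors
  have step : ∀ {a b x y : V}, Q' a = 0 → Q' b = 0 → Q' x = 0 → polar Q' a b = 1 → polar Q' a x = 0 →
      polar Q' b x = 0 → polar Q' z a = 0 → polar Q' z b = 0 → polar Q' z x = 0 → polar P a x = 0 →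
      polar P b x = 0 → polar P z x = 0 := by
    intro a b x _ ha hb hx hab hax hbx hza hzb hzx pa pb
    have hd : Q' (z + a + (-Q' z) • b) = 0 := by
      simp only [quad_add', quad_smul', polar_add_left, polar_smul_r', ha, hb, hza, hzb, hab]; ring
    have hdx : polar Q' (z + a + (-Q' z) • b) x = 0 := by
      simp only [polar_add_left, polar_smul_l', hzx, hax, hbx]; ring
    have h' := perp hd hx hdx
    simp only [polar_add_left, polar_smul_l', pa, pb] at h'
    linear_combination h'
  have pz₁ : polar P z e₁ = 0 :=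
    step (y := e₁) he₀ hf₀ he₁ h00 hee hfe z₀ z₀' z₁ (perp he₀ he₁ hee) (perp hf₀ he₁ hfe)
  have pz₁' : polar P z f₁ = 0 :=
    step (y := e₁) he₀ hf₀ hf₁ h00 hef hff z₀ z₀' z₁' (perp he₀ hf₁ hef) (perp hf₀ hf₁ hff)
  have pz₀ : polar P z e₀ = 0 :=
    step (y := e₁) he₁ hf₁ he₀ h11 cee cef z₁ z₁' z₀ (perp he₁ he₀ cee) (perp hf₁ he₀ cef)
  have pz₀' : polar P z f₀ = 0 :=
    step (y := e₁) he₁ hf₁ hf₀ h11 cfe cff z₁ z₁' z₀' (perp he₁ hf₀ cfe) (perp hf₁ hf₀ cff)
  have hd : Q' (z + e₀ + (-Q' z) • f₀) = 0 := by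
    simp only [quad_add', quad_smul', polar_add_left, polar_smul_r', he₀, hf₀, z₀, z₀', h00]; ring
  have hPz : P z = 0 := by
    have h' := hv _ hd
    simp only [quad_add', quad_smul', polar_add_left, polar_smul_r', hv _ he₀, hv _ hf₀, pz₀, pz₀', k00] at h'
    linear_combination h'
  have hvz : v = z + polar Q' f₀ v • e₀ + polar Q' e₀ v • f₀ + polar Q' f₁ v • e₁ + polar Q' e₁ v • f₁ := by
    rw [hz]; abel
  rw [hvz]
  simp only [quad_add', quad_smul', polar_add_left, polar_smul_l', polar_smul_r', hPz, hv _ he₀, hv _ hf₀, hv _ he₁,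
    hv _ hf₁, pz₀, pz₀', pz₁, pz₁', k00, k11, perp he₀ he₁ hee, perp he₀ hf₁ hef, perp hf₀ he₁ hfe, perp hf₀ hf₁ hff]
  ring

variable [Fintype F] (hQ : (QuadraticMap.polarBilin Q).Nondegenerate)
include hQ

theorem exists_commuting_nonsquare (h2 : (2 : F) ≠ 0) (hdim : 6 ≤ finrank F V) {g : V ≃ₗ[F] V} {μ : F}
    (hμ : μ ≠ 0) (hg : IsSimil Q g μ) {c : F} (hc : ∀ v, g (g v) = c • v) :
    ∃ a b : V, Q a ≠ 0 ∧ Q b ≠ 0 ∧ ¬ IsSquare (Q a * Q b) ∧
      conjSim hg (refl Q a * refl Q b) = refl Q a * refl Q b := by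
  classical
  obtain ⟨ν, hν⟩ := FiniteField.exists_nonsquare (F := F) (by
    intro hc2
    haveI : CharP F 2 := ringChar.eq_iff.1 hc2
    exact h2 CharTwo.two_eq_zero)
  have hν0 : ν ≠ 0 := fun h => hν (h ▸ IsSquare.zero)
  obtain ⟨k, A, T, hT, hTA, hdimA, hA2, -, -⟩ := exists_decomposition hQ
  obtain ⟨a₀, -, ha₀⟩ : ∃ a ∈ (⊤ : Submodule F V), Q a = 1 := exists_value (Q := Q) ⊤ (by
    rw [top_inf_eq, LinearMap.BilinForm.finrank_orthogonal hQ, finrank_top]; omega) 1
  have hμc : μ * μ = c * c := by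
    have := hg (g a₀)
    rw [hc, quad_smul', hg, ha₀] at this
    linear_combination -this
  have hc0 : c ≠ 0 := fun h => hμ (mul_self_eq_zero.1 (by rw [hμc, h, mul_zero]))
  have hadj : ∀ u v, c * polar Q (g u) v = μ * polar Q u (g v) := by
    intro u v
    have h := hg.polar u (g v)
    rw [hc, polar_smul_r'] at h
    exact h
  rcases mul_self_eq_mul_self_iff.1 hμc with hμeq | hμeq
  · by_cases hsq : IsSquare c
    · -- two eigenspaces
      obtain ⟨r, hr⟩ := hsq
      have hr0 : r ≠ 0 := fun h => hc0 (by rw [hr, h, mul_zero])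
      let W : F → Submodule F V := fun s => LinearMap.ker ((g : V →ₗ[F] V) - s • LinearMap.id)
      have hW : ∀ s v, v ∈ W s ↔ g v = s • v := fun s v => by simp [W, sub_eq_zero]
      have horth : ∀ u ∈ W r, ∀ w ∈ W (-r), polar Q u w = 0 := by
        intro u hu w hw
        have h := hadj u w
        rw [(hW r u).1 hu, (hW (-r) w).1 hw, hμeq, polar_smul_l', polar_smul_r'] at h
        have : 2 * (c * r) * polar Q u w = 0 := by linear_combination h
        exact (mul_eq_zero.1 this).resolve_left (mul_ne_zero h2 (mul_ne_zero hc0 hr0))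
      have htop : W r ⊔ W (-r) = ⊤ := by
        refine eq_top_iff.2 fun v _ => ?_
        refine Submodule.mem_sup.2 ⟨(2 : F)⁻¹ • (v + r⁻¹ • g v), (hW r _).2 ?_, (2 : F)⁻¹ • (v - r⁻¹ • g v),
          (hW (-r) _).2 ?_, ?_⟩
        · rw [map_smul, map_add, map_smul, hc, hr]
          match_scalars <;> field_simp
        · rw [map_smul, map_sub, map_smul, hc, hr]
          match_scalars <;> field_simp
        · match_scalars <;> field_simp <;> ring
      have hnd : ∀ s, (s = r ∨ s = -r) → ∀ u ∈ W s, (∀ w ∈ W s, polar Q w u = 0) → u = 0 := by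
        intro s hs u hu h
        refine hQ.1 u fun v => ?_
        obtain ⟨x, hx, y, hy, rfl⟩ := Submodule.mem_sup.1 (htop.ge (Submodule.mem_top : v ∈ ⊤))
        show polar Q u (x + y) = 0
        rw [polar_add_right]
        rcases hs with rfl | rfl
        · rw [polar_comm _ u x, h x hx, horth u hu y hy, add_zero]
        · rw [polar_comm _ u x, horth x hx u hu, polar_comm _ u y, h y hy, add_zero]
      have hdims : finrank F V ≤ finrank F (W r) + finrank F (W (-r)) := by
        have h := Submodule.finrank_sup_add_finrank_inf_eq (W r) (W (-r))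
        rw [htop, finrank_top] at h
        omega
      obtain ⟨s, hs, hsdim⟩ : ∃ s, (s = r ∨ s = -r) ∧ 2 ≤ finrank F (W s) := by
        by_cases h : 2 ≤ finrank F (W r)
        · exact ⟨r, Or.inl rfl, h⟩
        · exact ⟨-r, Or.inr rfl, by omega⟩
      have hval : ∀ x, ∃ a ∈ W s, Q a = x := fun x => exists_value (Q := Q) (W s) (by
        have : W s ⊓ LinearMap.BilinForm.orthogonal (QuadraticMap.polarBilin Q) (W s) = ⊥ :=
          (Submodule.eq_bot_iff _).2 fun u hu => hnd s hs u hu.1 hu.2
        rw [this, finrank_bot]; omega) x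
      obtain ⟨a, ha, hQa⟩ := hval 1
      obtain ⟨b, hb, hQb⟩ := hval ν
      have hs0 : s ≠ 0 := by rcases hs with rfl | rfl <;> simpa using hr0
      refine ⟨a, b, by rw [hQa]; exact one_ne_zero, by rw [hQb]; exact hν0, by rw [hQa, hQb, one_mul]; exact hν, ?_⟩
      rw [map_mul, conjSim_refl hg hμ, conjSim_refl hg hμ, (hW s a).1 ha, (hW s b).1 hb, refl_smul _ hs0,
        refl_smul _ hs0]
    · -- a vector orthogonal to its image
      let Q' : QuadraticForm F V := LinearMap.BilinMap.toQuadraticMap ((QuadraticMap.polarBilin Q).compl₂ (g : V →ₗ[F] V))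
      have hQ'v : ∀ v, Q' v = polar Q v (g v) := fun v => rfl
      have hsym : ∀ u v, polar Q (g u) v = polar Q u (g v) := fun u v => by
        have h := hadj u v
        rw [hμeq] at h
        exact mul_left_cancel₀ hc0 h
      have hpol : ∀ u v, polar Q' u v = 2 * polar Q u (g v) := fun u v => by
        rw [show Q' = LinearMap.BilinMap.toQuadraticMap ((QuadraticMap.polarBilin Q).compl₂ (g : V →ₗ[F] V)) from rfl,
          LinearMap.BilinMap.polar_toQuadraticMap]
        show polar Q u (g v) + polar Q v (g u) = _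
        rw [polar_comm _ v (g u), hsym]; ring
      have hQ' : (QuadraticMap.polarBilin Q').Nondegenerate := nondegenerate_of_left fun v hv => by
        refine hQ.1 v fun w => ?_
        obtain ⟨w', rfl⟩ := g.surjective w
        have := hv w'
        rw [hpol] at this
        exact (mul_eq_zero.1 this).resolve_left h2
      obtain ⟨k', A', T', hT', -, hdim', hA2', -, -⟩ := exists_decomposition hQ'
      obtain ⟨j, rfl⟩ : ∃ j, k' = j + 2 := ⟨k' - 2, by omega⟩
      have hpair : ∀ i l : Fin (j + 2), Q' (T' (Pi.single (Sum.inl i) 1)) = 0 ∧ Q' (T' (Pi.single (Sum.inr i) 1)) = 0 ∧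
          polar Q' (T' (Pi.single (Sum.inl i) 1)) (T' (Pi.single (Sum.inr l) 1)) = (if i = l then 1 else 0) ∧
          polar Q' (T' (Pi.single (Sum.inl i) 1)) (T' (Pi.single (Sum.inl l) 1)) = 0 ∧
          polar Q' (T' (Pi.single (Sum.inr i) 1)) (T' (Pi.single (Sum.inr l) 1)) = 0 := by
        intro i l
        rw [hT', hT', polar_of_preserving T' hT', polar_of_preserving T' hT', polar_of_preserving T' hT',
          ← plusForm_apply, ← plusForm_apply]
        simp [plusForm_polar, Cfsg.quadFormPlus, Pi.single_apply, eq_comm]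
      have h01 : (0 : Fin (j + 2)) ≠ 1 := Fin.zero_ne_one
      obtain ⟨a, haQ', haQ⟩ : ∃ a, Q' a = 0 ∧ Q a ≠ 0 := by
        by_contra hall
        push Not at hall
        obtain ⟨E0, F0, P00, EE, FF⟩ := hpair 0 1
        obtain ⟨E1, F1, P11, -, -⟩ := hpair 1 1
        obtain ⟨-, -, Q00, -, -⟩ := hpair 0 0
        obtain ⟨-, -, P10, -, -⟩ := hpair 1 0
        have hprop := proportional_of_singular (Q := Q) Q' h2 E0 F0 E1 F1 (Q00.trans (if_pos rfl))
          (P11.trans (if_pos rfl)) EE (P00.trans (if_neg h01))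
          (by rw [polar_comm]; exact P10.trans (if_neg h01.symm)) FF hall
        set t := polar Q (T' (Pi.single (Sum.inl 0) 1)) (T' (Pi.single (Sum.inr 0) 1))
        have hfix : ∀ v, v = (2 * t) • g v := fun v => by
          refine sub_eq_zero.1 (hQ.2 _ fun u => ?_)
          show polar Q u (v - (2 * t) • g v) = 0
          have : polar Q u v = t * polar Q' u v := by
            simp only [polar, hprop]; ring
          rw [polar_sub_right, polar_smul_r', this, hpol]; ring
        apply hsq
        have h0 := hfix a₀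
        have h1 := congrArg Q h0
        rw [quad_smul', hg, ha₀, hμeq] at h1
        have ht : 2 * t ≠ 0 := fun h => by rw [h] at h1; simp at h1
        exact ⟨(2 * t)⁻¹, by rw [← mul_inv]; exact (inv_eq_of_mul_eq_one_right (by linear_combination -h1)).symm⟩
      have hga : Q (g a) = c * Q a := by rw [hg, hμeq]
      have hga0 : Q (g a) ≠ 0 := by rw [hga]; exact mul_ne_zero hc0 haQ
      refine ⟨a, g a, haQ, hga0, fun h => hsq ?_, ?_⟩
      · rw [hga] at h
        obtain ⟨r, hr⟩ := h
        exact ⟨r / Q a, by field_simp; linear_combination hr⟩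
      · rw [map_mul, conjSim_refl hg hμ, conjSim_refl hg hμ, hc, refl_smul _ hc0]
        have hcomm : refl Q (g a) * refl Q a * (refl Q (g a))⁻¹ = refl Q a := by
          rw [conj_refl, refl_fix Q (a := g a) (v := a) (by rw [polar_comm, ← hQ'v]; exact haQ')]
        exact mul_inv_eq_iff_eq_mul.1 hcomm
  · -- skew case
    obtain ⟨x, z, hxz⟩ : ∃ x z : F, x ^ 2 - c * z ^ 2 = ν := by
      have hodd : Fintype.card F % 2 = 1 := FiniteField.odd_card_of_char_ne_two fun h' => h2 (by
        haveI : CharP F 2 := ringChar.eq_iff.1 h'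
        exact CharTwo.two_eq_zero)
      obtain ⟨x, z, h⟩ := FiniteField.exists_root_sum_quadratic
        (f := Polynomial.X ^ 2 - Polynomial.C ν) (g := Polynomial.C (-c) * Polynomial.X ^ 2)
        (Polynomial.degree_X_pow_sub_C (by norm_num) ν)
        (by rw [Polynomial.degree_C_mul_X_pow 2 (neg_ne_zero.2 hc0)]; rfl) hodd
      refine ⟨x, z, ?_⟩
      simp only [Polynomial.eval_sub, Polynomial.eval_pow, Polynomial.eval_X, Polynomial.eval_C,
        Polynomial.eval_mul] at h
      linear_combination h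
    have hy : polar Q a₀ (g a₀) = 0 := by
      have h := hadj a₀ a₀
      rw [hμeq, polar_comm _ (g a₀) a₀] at h
      have : 2 * c * polar Q a₀ (g a₀) = 0 := by linear_combination h
      exact (mul_eq_zero.1 this).resolve_left (mul_ne_zero h2 hc0)
    have hga : Q (g a₀) = -c := by rw [hg, ha₀, hμeq, mul_one]
    set b := x • a₀ + z • g a₀ with hb
    have hQb : Q b = ν := by
      rw [hb, quad_add', quad_smul', quad_smul', polar_smul_l', polar_smul_r', ha₀, hga, hy]
      linear_combination hxz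
    refine ⟨a₀, b, by rw [ha₀]; exact one_ne_zero, by rw [hQb]; exact hν0, by rw [ha₀, hQb, one_mul]; exact hν, ?_⟩
    rw [map_mul, conjSim_refl hg hμ, conjSim_refl hg hμ]
    have hgb : g b = x • g a₀ + (z * c) • a₀ := by rw [hb, map_add, map_smul, map_smul, hc, smul_smul]
    refine Subtype.ext (LinearEquiv.ext fun v => ?_)
    show (refl Q (g a₀)).1 ((refl Q (g b)).1 v) = (refl Q a₀).1 ((refl Q b).1 v)
    have hQgb : Q (g b) = -c * ν := by rw [hg, hμeq, hQb]
    simp only [refl_apply, hQgb, hga, hQb, ha₀]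
    rw [hgb, hb]
    simp only [polar_sub_right, polar_add_right, polar_add_left, polar_smul_r',
      polar_smul_l', polar_self', polar_comm _ (g a₀) a₀, hy, hga, ha₀]
    match_scalars <;> field_simp
    · linear_combination (-(polar Q (g a₀) v)) * hxz
    · linear_combination (-(polar Q a₀ v)) * hxz

end CfsgLib.Orth
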