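import Cfsg.Agent.Lib.Orth.Omega

set_option autoImplicit false
set_option linter.unusedSectionVars false

/-! Products of reflections in the commutator subgroup, and negation of hyperbolic pairs. -/

namespace CfsgLib.Orth

open QuadraticMap Module

variable {F V : Type*} [Field F] [AddCommGroup V] [Module F V] [FiniteDimensional F V]
variable {Q : QuadraticForm F V}

theorem det_prod_refl : ∀ L : List V, (∀ a ∈ L, Q a ≠ 0) →
    LinearMap.det ((L.map (refl Q)).prod.1 : V →ₗ[F] V) = (-1) ^ L.length
  | [], _ => by
    rw [List.length_nil, pow_zero]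
    exact LinearMap.det_id
  | a :: L, h => by
    rw [List.map_cons, List.prod_cons, List.length_cons, pow_succ']
    show LinearMap.det (((refl Q a).1 : V →ₗ[F] V) * ((L.map (refl Q)).prod.1 : V →ₗ[F] V)) = _
    rw [map_mul, det_refl Q (h a (by simp)), det_prod_refl L fun x hx => h x (by simp [hx])]

theorem levelSign_prod_refl [Fintype F] [DecidableEq F] [Finite V] (h2 : (2 : F) ≠ 0) : ∀ L : List V, (∀ a ∈ L, Q a ≠ 0) →
    ((levelSign Q 1 (L.map (refl Q)).prod : ℤˣ) : ℤ) = (-1) ^ L.length * quadraticChar F (L.map (fun a => Q a)).prod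
  | [], _ => by simp
  | a :: L, h => by
    have ha : Q a ≠ 0 := h a (by simp)
    have hθ := levelSign_refl Q h2 one_ne_zero ha
    rw [List.map_cons, List.prod_cons, List.map_cons, List.prod_cons, map_mul, Units.val_mul,
      levelSign_prod_refl h2 L fun x hx => h x (by simp [hx]), map_mul, List.length_cons, pow_succ, hθ]
    simp only [one_mul]
    by_cases has : IsSquare (Q a)
    · rw [if_pos has, (quadraticChar_one_iff_isSquare ha).2 has]; simp
    · rw [if_neg has, quadraticChar_neg_one_iff_not_isSquare.2 has]; simp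

/-- The spinor norm criterion. -/
theorem prod_refl_mem_commutator_iff [Fintype F] [Finite V] (hQ : (QuadraticMap.polarBilin Q).Nondegenerate)
    (h2 : (2 : F) ≠ 0) (L : List V) (hL : ∀ a ∈ L, Q a ≠ 0) :
    (L.map (refl Q)).prod ∈ commutator (orthGroup Q) ↔
      Even L.length ∧ IsSquare (L.map (fun a => Q a)).prod := by
  classical
  have hne : (L.map (fun a => Q a)).prod ≠ 0 := by
    refine List.prod_ne_zero ?_
    simpa using hL
  have hs := levelSign_prod_refl h2 L hL
  rw [mem_commutator_odd hQ h2, det_prod_refl L hL]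
  constructor
  · rintro ⟨h1, h1'⟩
    have he : Even L.length := by
      rcases Nat.even_or_odd L.length with h | h
      · exact h
      · rw [h.neg_one_pow] at h1
        exact absurd (by linear_combination -h1 : (2 : F) = 0) h2
    refine ⟨he, ?_⟩
    rw [h1', he.neg_one_pow, one_mul] at hs
    exact (quadraticChar_one_iff_isSquare hne).1 (by simpa using hs.symm)
  · rintro ⟨he, hsq⟩
    refine ⟨he.neg_one_pow, Units.ext ?_⟩
    rw [hs, he.neg_one_pow, (quadraticChar_one_iff_isSquare hne).2 hsq]
    rfl

/-- Negation of a family of mutually orthogonal hyperbolic pairs, as a product of reflections. -/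
theorem exists_negPairs : ∀ {i : ℕ} (e f : Fin i → V), (∀ j, Q (e j) = 0) → (∀ j, Q (f j) = 0) →
    (∀ j k, polar Q (e j) (f k) = if j = k then 1 else 0) → (∀ j k, j ≠ k → polar Q (e j) (e k) = 0) →
    (∀ j k, j ≠ k → polar Q (f j) (f k) = 0) →
    ∃ L : List V, (∀ a ∈ L, Q a ≠ 0) ∧ L.length = 2 * i ∧ (L.map (fun a => Q a)).prod = (-1) ^ i ∧
      (∀ j, ((L.map (refl Q)).prod).1 (e j) = -e j ∧ ((L.map (refl Q)).prod).1 (f j) = -f j) ∧
      ∀ v, (∀ j, polar Q (e j) v = 0 ∧ polar Q (f j) v = 0) → ((L.map (refl Q)).prod).1 v = v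
  | 0, e, f, _, _, _, _, _ => ⟨[], by simp, rfl, by simp, fun j => j.elim0, fun v _ => rfl⟩
  | i + 1, e, f, he, hf, hef, hee, hff => by
    obtain ⟨L, hL, hlen, hprod, hneg, hfix⟩ := exists_negPairs (e ∘ Fin.castSucc) (f ∘ Fin.castSucc)
      (fun j => he _) (fun j => hf _)
      (fun j k => by rw [Function.comp_apply, Function.comp_apply, hef]; simp)
      (fun j k h => hee _ _ (fun h' => h (Fin.castSucc_injective _ h')))
      (fun j k h => hff _ _ (fun h' => h (Fin.castSucc_injective _ h')))
    set a := e (Fin.last i) + f (Fin.last i)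
    set b := e (Fin.last i) - f (Fin.last i)
    have hef' : polar Q (e (Fin.last i)) (f (Fin.last i)) = 1 := by rw [hef, if_pos rfl]
    have hQa : Q a = 1 := by rw [quad_add', he, hf, hef']; ring
    have hQb : Q b = -1 := by
      simp only [b, sub_eq_add_neg, quad_add', QuadraticMap.map_neg, polar_neg_right, he, hf, hef']; ring
    have hae : (refl Q a).1 (e (Fin.last i)) = -f (Fin.last i) ∧ (refl Q a).1 (f (Fin.last i)) = -e (Fin.last i) := by
      constructor <;>
      · rw [refl_apply, hQa]
        simp only [a, polar_add_left, polar_self', he, hf, hef', polar_comm _ (f (Fin.last i)) (e (Fin.last i))]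
        match_scalars <;> ring
    have hbe : (refl Q b).1 (e (Fin.last i)) = f (Fin.last i) ∧ (refl Q b).1 (f (Fin.last i)) = e (Fin.last i) := by
      constructor <;>
      · rw [refl_apply, hQb]
        simp only [b, sub_eq_add_neg, polar_add_left, polar_neg_left, polar_self', he, hf, hef', polar_comm _ (f (Fin.last i)) (e (Fin.last i))]
        match_scalars <;> ring
    have hperp : ∀ v, polar Q (e (Fin.last i)) v = 0 → polar Q (f (Fin.last i)) v = 0 →
        (refl Q a).1 ((refl Q b).1 v) = v := by
      intro v h1 h2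
      rw [refl_fix Q (a := b) (v := v) (by simp only [b, polar_sub_left, h1, h2, sub_zero]),
        refl_fix Q (by simp only [a, polar_add_left, h1, h2, add_zero])]
    refine ⟨L ++ [a, b], ?_, ?_, ?_, ?_, ?_⟩
    · intro x hx
      rcases List.mem_append.1 hx with hx | hx
      · exact hL x hx
      · rcases List.mem_pair.1 hx with rfl | rfl
        · rw [hQa]; exact one_ne_zero
        · rw [hQb]; exact neg_ne_zero.2 one_ne_zero
    · rw [List.length_append, hlen]; simp; ring
    · simp [hprod, hQa, hQb, pow_succ]
    · intro j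
      rw [List.map_append, List.prod_append]
      simp only [List.map_cons, List.map_nil, List.prod_cons, List.prod_nil, mul_one]
      refine Fin.lastCases ?_ (fun k => ?_) j
      · have hfixL : ∀ k, polar Q ((e ∘ Fin.castSucc) k) (e (Fin.last i)) = 0 ∧
            polar Q ((f ∘ Fin.castSucc) k) (e (Fin.last i)) = 0 := fun k =>
          ⟨hee _ _ (Fin.castSucc_lt_last k).ne, by
            rw [polar_comm, Function.comp_apply, hef, if_neg (Fin.castSucc_lt_last k).ne']⟩
        have hfixL' : ∀ k, polar Q ((e ∘ Fin.castSucc) k) (f (Fin.last i)) = 0 ∧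
            polar Q ((f ∘ Fin.castSucc) k) (f (Fin.last i)) = 0 := fun k =>
          ⟨by rw [Function.comp_apply, hef, if_neg (Fin.castSucc_lt_last k).ne], hff _ _ (Fin.castSucc_lt_last k).ne⟩
        constructor
        · show ((L.map (refl Q)).prod).1 ((refl Q a).1 ((refl Q b).1 (e (Fin.last i)))) = _
          rw [hbe.1, hae.2, map_neg, hfix _ hfixL]
        · show ((L.map (refl Q)).prod).1 ((refl Q a).1 ((refl Q b).1 (f (Fin.last i)))) = _
          rw [hbe.2, hae.1, map_neg, hfix _ hfixL']
      · have hne := (Fin.castSucc_lt_last k).ne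
        constructor
        · show ((L.map (refl Q)).prod).1 ((refl Q a).1 ((refl Q b).1 (e k.castSucc))) = _
          rw [hperp _ (hee _ _ hne.symm) (by rw [polar_comm, hef, if_neg hne])]
          exact (hneg k).1
        · show ((L.map (refl Q)).prod).1 ((refl Q a).1 ((refl Q b).1 (f k.castSucc))) = _
          rw [hperp _ (by rw [hef, if_neg hne.symm]) (hff _ _ hne.symm)]
          exact (hneg k).2
    · intro v hv
      rw [List.map_append, List.prod_append]
      simp only [List.map_cons, List.map_nil, List.prod_cons, List.prod_nil, mul_one]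
      show ((L.map (refl Q)).prod).1 ((refl Q a).1 ((refl Q b).1 v)) = v
      rw [hperp v (hv _).1 (hv _).2, hfix v fun k => hv _]

end CfsgLib.Orth
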