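import Cfsg.Agent.Lib.Orth.Omega
import Cfsg.Agent.Lib.Orth.Bridge

set_option autoImplicit false
set_option linter.unusedSectionVars false

/-! Orthogonal direct sums. -/

namespace CfsgLib.Orth

open QuadraticMap Matrix

variable {F : Type*} [Field F] {α β : Type} [Fintype α] [DecidableEq α] [Fintype β] [DecidableEq β]

/-- The orthogonal sum of two forms. -/
noncomputable def sumForm (Q₁ : QuadraticForm F (α → F)) (Q₂ : QuadraticForm F (β → F)) :
    QuadraticForm F (α ⊕ β → F) :=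
  Q₁.comp (LinearMap.funLeft F F (Sum.inl : α → α ⊕ β)) + Q₂.comp (LinearMap.funLeft F F (Sum.inr : β → α ⊕ β))

theorem sumForm_apply (Q₁ : QuadraticForm F (α → F)) (Q₂ : QuadraticForm F (β → F)) (v : α ⊕ β → F) :
    Q₁ (v ∘ Sum.inl) + Q₂ (v ∘ Sum.inr) = sumForm Q₁ Q₂ v := rfl

theorem sumForm_polar (Q₁ : QuadraticForm F (α → F)) (Q₂ : QuadraticForm F (β → F)) (u v : α ⊕ β → F) :
    polar (sumForm Q₁ Q₂) u v = polar Q₁ (u ∘ Sum.inl) (v ∘ Sum.inl) + polar Q₂ (u ∘ Sum.inr) (v ∘ Sum.inr) := by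
  simp only [polar, ← sumForm_apply]
  have e1 : (u + v) ∘ (Sum.inl : α → α ⊕ β) = u ∘ Sum.inl + v ∘ Sum.inl := rfl
  have e2 : (u + v) ∘ (Sum.inr : β → α ⊕ β) = u ∘ Sum.inr + v ∘ Sum.inr := rfl
  rw [e1, e2]; ring

theorem sumForm_nondeg {Q₁ : QuadraticForm F (α → F)} {Q₂ : QuadraticForm F (β → F)}
    (h₁ : (QuadraticMap.polarBilin Q₁).Nondegenerate) (h₂ : (QuadraticMap.polarBilin Q₂).Nondegenerate) :
    (QuadraticMap.polarBilin (sumForm Q₁ Q₂)).Nondegenerate := by
  have key : ∀ v, (∀ w, polar (sumForm Q₁ Q₂) v w = 0) → v = 0 := by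
    intro v hv
    have hl : v ∘ Sum.inl = 0 := eq_zero_of_polar h₁ fun w => by
      have := hv (Sum.elim w 0)
      rwa [sumForm_polar, Sum.elim_comp_inl, Sum.elim_comp_inr, polar_zero_right, add_zero] at this
    have hr : v ∘ Sum.inr = 0 := eq_zero_of_polar h₂ fun w => by
      have := hv (Sum.elim 0 w)
      rwa [sumForm_polar, Sum.elim_comp_inl, Sum.elim_comp_inr, polar_zero_right, zero_add] at this
    funext k
    rcases k with i | i
    · exact congrFun hl i
    · exact congrFun hr i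
  exact ⟨key, fun v hv => key v fun w => by rw [polar_comm]; exact hv w⟩

variable {Q₁ : QuadraticForm F (α → F)} {Q₂ : QuadraticForm F (β → F)}

/-- `g ↦ g ⊕ 1`. -/
theorem exists_inlHom (h₁ : (QuadraticMap.polarBilin Q₁).Nondegenerate)
    (h₂ : (QuadraticMap.polarBilin Q₂).Nondegenerate) :
    ∃ J : orthGroup Q₁ →* orthGroup (sumForm Q₁ Q₂),
      (∀ g v, (J g).1 v = Sum.elim (g.1 (v ∘ Sum.inl)) (v ∘ Sum.inr)) ∧
      ∀ a, J (refl Q₁ a) = refl (sumForm Q₁ Q₂) (Sum.elim a 0) := by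
  have hex : ∀ g : orthGroup Q₁, ∃ g' : orthGroup (sumForm Q₁ Q₂),
      ∀ v, g'.1 v = Sum.elim (g.1 (v ∘ Sum.inl)) (v ∘ Sum.inr) := by
    intro g
    obtain ⟨g', hg'⟩ := exists_of_preserving (sumForm_nondeg h₁ h₂)
      { toFun := fun v : α ⊕ β → F => Sum.elim (g.1 (v ∘ Sum.inl)) (v ∘ Sum.inr)
        map_add' := fun u v => by
          funext k; rcases k with i | i
          · show g.1 ((u + v) ∘ Sum.inl) i = g.1 (u ∘ Sum.inl) i + g.1 (v ∘ Sum.inl) i
            rw [← Pi.add_apply, ← map_add]; rfl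
          · rfl
        map_smul' := fun c v => by
          funext k; rcases k with i | i
          · show g.1 ((c • v) ∘ Sum.inl) i = c • g.1 (v ∘ Sum.inl) i
            rw [← Pi.smul_apply, ← map_smul]; rfl
          · rfl }
      (fun v => by
        show sumForm Q₁ Q₂ (Sum.elim (g.1 (v ∘ Sum.inl)) (v ∘ Sum.inr)) = _
        rw [← sumForm_apply, ← sumForm_apply, Sum.elim_comp_inl, Sum.elim_comp_inr, apply_quad])
    exact ⟨g', fun v => hg' v⟩
  choose J hJ using hex
  refine ⟨MonoidHom.mk' J fun g h => Subtype.ext (LinearEquiv.ext fun v => ?_), hJ, fun a => ?_⟩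
  · show (J (g * h)).1 v = (J g).1 ((J h).1 v)
    rw [hJ, hJ, hJ, Sum.elim_comp_inl, Sum.elim_comp_inr]
    rfl
  · refine Subtype.ext (LinearEquiv.ext fun v => ?_)
    show (J (refl Q₁ a)).1 v = _
    rw [hJ, refl_apply, refl_apply, ← sumForm_apply, sumForm_polar, Sum.elim_comp_inl, Sum.elim_comp_inr,
      QuadraticMap.map_zero, add_zero, polar_zero_left, add_zero]
    funext k; rcases k with i | i <;> simp

/-- Two homomorphisms compatible on reflections agree. -/
theorem hom_comp_eq_of_refl {V W : Type*} [AddCommGroup V] [Module F V] [FiniteDimensional F V] [AddCommGroup W]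
    [Module F W] {P : QuadraticForm F V} {R : QuadraticForm F W} (hP : (QuadraticMap.polarBilin P).Nondegenerate)
    (h4 : Good F V) (J : orthGroup P →* orthGroup R) {M : Type*} [Group M] (χ₁ : orthGroup P →* M)
    (χ : orthGroup R →* M) (hχ : ∀ a, P a ≠ 0 → χ (J (refl P a)) = χ₁ (refl P a)) (g : orthGroup P) :
    χ (J g) = χ₁ g := by
  have hg' : g ∈ reflGroup P := by rw [reflGroup_eq_top hP h4]; trivial
  have heq : Set.EqOn (χ.comp J) χ₁ (reflGroup P : Set (orthGroup P)) := by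
    refine MonoidHom.eqOn_closure ?_
    rintro _ ⟨a, rfl⟩
    rw [MonoidHom.comp_apply]
    by_cases ha : P a = 0
    · have e1 : refl P a = 1 := Subtype.ext (LinearEquiv.ext fun v => by rw [refl_apply, ha]; simp)
      rw [e1, map_one, map_one, map_one]
    · exact hχ a ha
  exact heq hg'

variable [Fintype F]

/-- `g ⊕ 1` is in the commutator subgroup exactly when `g` is. -/
theorem inlHom_mem_commutator_iff (h₁ : (QuadraticMap.polarBilin Q₁).Nondegenerate)
    (h₂ : (QuadraticMap.polarBilin Q₂).Nondegenerate)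
    (hg₁ : Good F (α → F)) (hg : Good F (α ⊕ β → F))
    (J : orthGroup Q₁ →* orthGroup (sumForm Q₁ Q₂))
    (hJ : ∀ a, J (refl Q₁ a) = refl (sumForm Q₁ Q₂) (Sum.elim a 0)) (g : orthGroup Q₁) :
    J g ∈ commutator _ ↔ g ∈ commutator (orthGroup Q₁) := by
  classical
  have hQ := sumForm_nondeg h₁ h₂
  have hval : ∀ a : α → F, sumForm Q₁ Q₂ (Sum.elim a 0) = Q₁ a := fun a => by
    rw [← sumForm_apply, Sum.elim_comp_inl, Sum.elim_comp_inr, QuadraticMap.map_zero, add_zero]
  refine ⟨fun h => ?_, fun h => ?_⟩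
  swap
  · rw [mem_commutator_iff] at h ⊢
    have e := congrArg (Abelianization.map J) h
    rwa [Abelianization.map_of, map_one] at e
  by_cases h2 : (2 : F) = 0
  · haveI : CharP F 2 := CharTwo.of_one_ne_zero_of_two_eq_zero one_ne_zero h2
    obtain ⟨κ, hκ⟩ := exists_dickson _ hQ
    obtain ⟨κ₁, hκ₁⟩ := exists_dickson _ h₁
    rw [mem_commutator_two hQ hg κ hκ, hom_comp_eq_of_refl h₁ hg₁ J κ₁ κ (fun a ha => by
      rw [hJ, hκ _ (by rw [hval]; exact ha), hκ₁ a ha]) g] at h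
    exact (mem_commutator_two h₁ hg₁ κ₁ hκ₁ g).2 h
  · rw [mem_commutator_odd hQ h2] at h
    refine (mem_commutator_odd h₁ h2 g).2 ⟨?_, ?_⟩
    · let δ : ∀ {ι : Type} [Fintype ι] [DecidableEq ι] (Q : QuadraticForm F (ι → F)), orthGroup Q →* Fˣ :=
        fun Q => LinearEquiv.det.comp (orthGroup Q).subtype
      have hδ : ∀ {ι : Type} [Fintype ι] [DecidableEq ι] (Q : QuadraticForm F (ι → F)) (x : orthGroup Q),
          ((δ Q x : Fˣ) : F) = LinearMap.det (x.1 : (ι → F) →ₗ[F] (ι → F)) :=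
        fun Q x => LinearEquiv.coe_det _
      have := congrArg Units.val (hom_comp_eq_of_refl h₁ hg₁ J (δ Q₁) (δ _) (fun a ha => Units.ext (by
        rw [hJ, hδ, hδ, det_refl _ (by rw [hval]; exact ha), det_refl _ ha])) g)
      rw [hδ, hδ, h.1] at this
      exact this.symm
    · rw [← hom_comp_eq_of_refl h₁ hg₁ J (levelSign Q₁ 1) (levelSign (sumForm Q₁ Q₂) 1) (fun a ha => by
        rw [hJ, levelSign_refl _ h2 one_ne_zero (by rw [hval]; exact ha), levelSign_refl _ h2 one_ne_zero ha]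
        simp only [hval]) g]
      exact h.2

end CfsgLib.Orth
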