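import Cfsg.Agent.Lib.Orth.Omega
import Cfsg.Agent.Lib.Orth.SignHom

set_option autoImplicit false
set_option linter.unusedSectionVars false

/-!
A generator of the norm one torus of a quadratic algebra, acting on a nondegenerate summand, is a special
isometry outside the commutator subgroup: its permutation of every level set has odd sign.
-/

namespace CfsgLib.Orth

open QuadraticMap Module

/-- A permutation all of whose nontrivial orbits have length `N`. -/
theorem sign_of_uniform {α : Type*} [Fintype α] [DecidableEq α] (σ : Equiv.Perm α) {N : ℕ} (hN : Even N)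
    (h : ∀ x, σ x ≠ x → ∀ m : ℕ, (σ ^ m) x = x ↔ N ∣ m) :
    ∃ k, σ.support.card = N * k ∧ Equiv.Perm.sign σ = (-1 : ℤˣ) ^ k := by
  have hall : ∀ n ∈ σ.cycleType, n = N := by
    intro n hn
    obtain ⟨c, τ, rfl, hd, hc, rfl⟩ := Equiv.Perm.mem_cycleType_iff.1 hn
    obtain ⟨x, hx⟩ := Finset.card_pos.1 (lt_of_lt_of_le zero_lt_two hc.two_le_card_support)
    have hτ : τ x = x := by
      rcases hd x with h' | h'
      · exact absurd h' (Equiv.Perm.mem_support.1 hx)
      · exact h'
    have hpow : ∀ m : ℕ, ((c * τ) ^ m) x = (c ^ m) x := fun m => by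
      rw [hd.commute.mul_pow, Equiv.Perm.mul_apply, Equiv.Perm.pow_apply_eq_self_of_apply_eq_self hτ]
    have hne : (c * τ) x ≠ x := by
      rw [Equiv.Perm.mul_apply, hτ]; exact Equiv.Perm.mem_support.1 hx
    have key : ∀ m : ℕ, c ^ m = 1 ↔ N ∣ m := fun m => by
      rw [hc.pow_eq_one_iff' (Equiv.Perm.mem_support.1 hx), ← hpow, h x hne m]
    rw [← hc.orderOf]
    exact Nat.dvd_antisymm (orderOf_dvd_of_pow_eq_one ((key N).2 dvd_rfl)) ((key _).1 (pow_orderOf_eq_one c))
  have hr : σ.cycleType = Multiset.replicate (Multiset.card σ.cycleType) N := Multiset.eq_replicate.2 ⟨rfl, hall⟩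
  refine ⟨Multiset.card σ.cycleType, ?_, ?_⟩
  · rw [← Equiv.Perm.sum_cycleType, hr, Multiset.sum_replicate, Multiset.card_replicate, smul_eq_mul, mul_comm]
  · rw [Equiv.Perm.sign_of_cycleType, hr, Multiset.sum_replicate, Multiset.card_replicate, smul_eq_mul,
      pow_add, (hN.mul_left _).neg_one_pow, one_mul]

variable {K : Type*} [Field K]

/-- Multiplication in the quadratic algebra `K[t] / (t² - d)`. -/
def qmul (d : K) (p q : K × K) : K × K := (p.1 * q.1 + d * (p.2 * q.2), p.2 * q.1 + p.1 * q.2)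

/-- Its norm. -/
def qnorm (d : K) (p : K × K) : K := p.1 ^ 2 - d * p.2 ^ 2

theorem qnorm_qmul (d : K) (p q : K × K) : qnorm d (qmul d p q) = qnorm d p * qnorm d q := by
  simp only [qmul, qnorm]; ring

theorem qmul_assoc (d : K) (p q u : K × K) : qmul d (qmul d p q) u = qmul d p (qmul d q u) := by
  refine Prod.ext ?_ ?_ <;> simp only [qmul] <;> ring

theorem qmul_one' (d : K) (q : K × K) : qmul d (1, 0) q = q := by
  refine Prod.ext ?_ ?_ <;> simp [qmul]

/-- Powers. -/
def qpow (d : K) (p : K × K) : ℕ → K × K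
  | 0 => (1, 0)
  | m + 1 => qmul d p (qpow d p m)

theorem exists_qnorm [Fintype K] (h2 : (2 : K) ≠ 0) {d : K} (hd : d ≠ 0) (t : K) :
    ∃ p : K × K, qnorm d p = t := by
  classical
  open Polynomial in
  obtain ⟨a, b, hab⟩ := FiniteField.exists_root_sum_quadratic (R := K)
    (f := C (1 : K) * X ^ 2 + C 0 * X + C 0) (g := C (-d) * X ^ 2 + C 0 * X + C (-t))
    (degree_quadratic one_ne_zero) (degree_quadratic (neg_ne_zero.2 hd))
    (FiniteField.odd_card_of_char_ne_two fun h => h2 (by
      haveI : CharP K 2 := ringChar.of_eq h; exact CharTwo.two_eq_zero))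
  refine ⟨(a, b), ?_⟩
  simp at hab
  simp only [qnorm]
  linear_combination hab

/-- A point fixed by an element of norm one other than the identity is zero. -/
theorem qmul_fixed (h2 : (2 : K) ≠ 0) {d : K} (hd : d ≠ 0) {w p : K × K} (hw : qnorm d w = 1) (hp : p ≠ 0)
    (h : qmul d w p = p) : w = (1, 0) := by
  obtain ⟨y, z⟩ := w
  obtain ⟨a, b⟩ := p
  simp only [qmul, Prod.mk.injEq] at h
  simp only [qnorm] at hw
  obtain ⟨h1, h2'⟩ := h
  have hn : (a ^ 2 - d * b ^ 2) * z = 0 := by linear_combination a * h2' - b * h1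
  rcases mul_eq_zero.1 hn with hn | hn
  · have hb : b ≠ 0 := fun hb => hp (by
      have : a ^ 2 = 0 := by linear_combination hn + d * b * hb
      simp [hb, pow_eq_zero_iff] at this ⊢; exact this)
    have hy : (y - 1) * b = -(z * a) := by linear_combination h2'
    have : (y - 1) * b ^ 2 * (2 : K) = 0 := by
      linear_combination b ^ 2 * hw - ((y - 1) * b - z * a) * hy - z ^ 2 * hn
    have hy1 : y = 1 := sub_eq_zero.1
      ((mul_eq_zero.1 ((mul_eq_zero.1 this).resolve_right h2)).resolve_right (pow_ne_zero _ hb))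
    rw [hy1, sub_self, zero_mul, eq_comm, neg_eq_zero, mul_eq_zero] at hy
    rcases hy with hz | hz
    · simp [hy1, hz]
    · exfalso
      have : d * b ^ 2 = 0 := by linear_combination a * hz - hn
      exact mul_ne_zero hd (pow_ne_zero _ hb) this
  · have hy : y = 1 := by
      rcases eq_or_ne a 0 with ha | ha
      · have hb : b ≠ 0 := fun hb => hp (by simp [ha, hb])
        exact mul_right_cancel₀ hb (by linear_combination h2' - a * hn)
      · exact mul_right_cancel₀ ha (by linear_combination h1 - d * b * hn)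
    simp [hy, hn]

theorem qnorm_qpow (d : K) {w : K × K} (hw : qnorm d w = 1) : ∀ m, qnorm d (qpow d w m) = 1
  | 0 => by simp [qpow, qnorm]
  | m + 1 => by rw [qpow, qnorm_qmul, hw, qnorm_qpow d hw m, mul_one]

theorem qmul_cancel (h2 : (2 : K) ≠ 0) {d : K} (hd : d ≠ 0) {x y p : K × K} (hx : qnorm d x = 1)
    (hy : qnorm d y = 1) (hp : p ≠ 0) (h : qmul d x p = qmul d y p) : x = y := by
  have hy' : qnorm d (y.1, -y.2) = 1 := by simpa [qnorm] using hy
  have h1 : qmul d (y.1, -y.2) y = (1, 0) := by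
    simp only [qnorm] at hy
    refine Prod.ext ?_ ?_ <;> simp only [qmul]
    · linear_combination hy
    · ring
  have h2' : qmul d y (y.1, -y.2) = (1, 0) := by
    simp only [qnorm] at hy
    refine Prod.ext ?_ ?_ <;> simp only [qmul]
    · linear_combination hy
    · ring
  have he := qmul_fixed h2 hd (w := qmul d (y.1, -y.2) x) (p := p) (by rw [qnorm_qmul, hy', hx, mul_one]) hp
    (by rw [qmul_assoc, h, ← qmul_assoc, h1, qmul_one'])
  rw [← qmul_one' d x, ← h2', qmul_assoc, he]
  refine Prod.ext ?_ ?_ <;> simp [qmul]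

theorem qpow_add (d : K) (w : K × K) (m : ℕ) : ∀ l, qpow d w (l + m) = qmul d (qpow d w l) (qpow d w m)
  | 0 => by rw [Nat.zero_add, qpow, qmul_one']
  | l + 1 => by rw [Nat.succ_add, qpow, qpow, qpow_add d w m l, qmul_assoc]

theorem qpow_inj {d : K} {w : K × K} {N : ℕ} (hiff : ∀ m, qpow d w m = (1, 0) ↔ N ∣ m) (hw : qnorm d w = 1)
    {a b : ℕ} (ha : a < N) (hb : b < N) (h : qpow d w a = qpow d w b) : a = b := by
  have h1 : qpow d w ((N - a) + b) = (1, 0) := by
    rw [qpow_add, ← h, ← qpow_add, Nat.sub_add_cancel ha.le]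
    exact (hiff N).2 dvd_rfl
  have h2 := (hiff _).1 h1
  obtain ⟨k, hk⟩ := h2
  have : N * k < N * 2 := by omega
  have hk2 : k < 2 := Nat.lt_of_mul_lt_mul_left this
  interval_cases k <;> omega

/-- The norm one torus is cyclic of even order. -/
theorem exists_generator [Finite K] (h2 : (2 : K) ≠ 0) {d : K} (hd : d ≠ 0) :
    ∃ (w : K × K) (N : ℕ), qnorm d w = 1 ∧ 0 < N ∧ Even N ∧
      (∀ m, qpow d w m = (1, 0) ↔ N ∣ m) ∧ (∀ p, qnorm d p = 1 → ∃ m, m < N ∧ qpow d w m = p) := by
  classical
  obtain ⟨s, hs⟩ : ∃ s : AlgebraicClosure K, s ^ 2 = algebraMap K (AlgebraicClosure K) d :=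
    IsAlgClosed.exists_pow_nat_eq _ zero_lt_two
  let ι : K × K → AlgebraicClosure K := fun p => algebraMap K _ p.1 + s * algebraMap K _ p.2
  have hmul : ∀ p q, ι (qmul d p q) = ι p * ι q := fun p q => by
    simp only [ι, qmul, map_add, map_mul]
    linear_combination -(algebraMap K (AlgebraicClosure K) p.2 * algebraMap K (AlgebraicClosure K) q.2) * hs
  have hone : ι (1, 0) = 1 := by simp [ι]
  have hconj : ∀ p, qnorm d p = 1 → ι p * ι (p.1, -p.2) = 1 := fun p hp => by
    rw [← map_one (algebraMap K (AlgebraicClosure K)), ← hp]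
    simp only [ι, qnorm, map_sub, map_mul, map_pow, map_neg]
    linear_combination -(algebraMap K (AlgebraicClosure K) p.2) ^ 2 * hs
  have h2' : (2 : AlgebraicClosure K) ≠ 0 := by
    rw [← map_ofNat (algebraMap K (AlgebraicClosure K)) 2]
    exact (map_ne_zero _).2 h2
  have hinj : ∀ p q, qnorm d p = 1 → qnorm d q = 1 → ι p = ι q → p = q := by
    intro p q hp hq h
    have h' : ι (p.1, -p.2) = ι (q.1, -q.2) := by
      have h1 := hconj p hp
      have h2 := hconj q hq
      rw [h] at h1
      exact mul_left_cancel₀ (left_ne_zero_of_mul_eq_one h2) (h1.trans h2.symm)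
    simp only [ι, map_neg] at h h'
    have e1 : p.1 = q.1 := (algebraMap K (AlgebraicClosure K)).injective
      (mul_left_cancel₀ h2' (by linear_combination h + h'))
    have hs0 : s ≠ 0 := fun hs0 => hd ((map_eq_zero (algebraMap K (AlgebraicClosure K))).1 (by
      rw [← hs, hs0]; simp))
    have e2 : p.2 = q.2 := (algebraMap K (AlgebraicClosure K)).injective
      (mul_left_cancel₀ (mul_ne_zero h2' hs0) (by linear_combination h - h'))
    exact Prod.ext e1 e2
  let H : Subgroup (AlgebraicClosure K)ˣ :=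
    { carrier := {x | ∃ p, qnorm d p = 1 ∧ (x : AlgebraicClosure K) = ι p}
      one_mem' := ⟨(1, 0), by simp [qnorm], by simp [ι]⟩
      mul_mem' := fun ⟨p, hp, hx⟩ ⟨q, hq, hy⟩ =>
        ⟨qmul d p q, by rw [qnorm_qmul, hp, hq, mul_one], by rw [Units.val_mul, hx, hy, hmul]⟩
      inv_mem' := fun {x} ⟨p, hp, hx⟩ => ⟨(p.1, -p.2), by simpa [qnorm] using hp, by
        have := hconj p hp
        rw [← hx] at this
        exact (eq_comm.1 (inv_eq_of_mul_eq_one_right this) ▸ by simp)⟩ }
  let f : {p : K × K // qnorm d p = 1} → H := fun p =>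
    ⟨Units.mk (ι p.1) (ι (p.1.1, -p.1.2)) (hconj _ p.2) (by rw [mul_comm]; exact hconj _ p.2), p.1, p.2, rfl⟩
  have hf : Function.Surjective f := fun ⟨x, p, hp, hx⟩ => ⟨⟨p, hp⟩, Subtype.ext (Units.ext hx.symm)⟩
  haveI : Finite H := Finite.of_surjective f hf
  haveI : IsCyclic H := isCyclic_of_subgroup_isDomain
    ((Units.coeHom (AlgebraicClosure K)).comp H.subtype) (Units.val_injective.comp Subtype.val_injective)
  obtain ⟨x, hx⟩ := IsCyclic.exists_generator (α := H)
  obtain ⟨w, hw, hxw⟩ := x.2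
  have hpow : ∀ m, qnorm d (qpow d w m) = 1 ∧ ((x ^ m : H).1 : AlgebraicClosure K) = ι (qpow d w m) := by
    intro m
    induction m with
    | zero => exact ⟨by simp [qpow, qnorm], by simp [qpow, hone]⟩
    | succ m ih =>
      refine ⟨by rw [qpow, qnorm_qmul, hw, ih.1, mul_one], ?_⟩
      rw [qpow, hmul, ← hxw, ← ih.2, pow_succ', Subgroup.coe_mul, Units.val_mul]
  have hiff : ∀ m, qpow d w m = (1, 0) ↔ orderOf x ∣ m := fun m => by
    rw [orderOf_dvd_iff_pow_eq_one]
    constructor
    · intro h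
      refine Subtype.ext (Units.ext ?_)
      rw [(hpow m).2, h, hone]; rfl
    · intro h
      refine hinj _ _ (hpow m).1 (by simp [qnorm]) ?_
      rw [← (hpow m).2, h, hone]; rfl
  refine ⟨w, orderOf x, hw, orderOf_pos x, ?_, hiff, fun p hp => ?_⟩
  · have hneg : qnorm d (-1, 0) = 1 := by simp [qnorm]
    have hy : f ⟨(-1, 0), hneg⟩ * f ⟨(-1, 0), hneg⟩ = 1 :=
      Subtype.ext (Units.ext (by simp [f, ι]))
    have hy1 : f ⟨(-1, 0), hneg⟩ ≠ 1 := fun h => by
      have := congrArg (fun z : H => (z.1 : AlgebraicClosure K)) h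
      simp [f, ι] at this
      exact h2' (by linear_combination -this)
    have : orderOf (f ⟨(-1, 0), hneg⟩) = 2 := orderOf_eq_prime (by rw [pow_two]; exact hy) hy1
    rw [even_iff_two_dvd, orderOf_eq_card_of_forall_mem_zpowers hx, ← this]
    exact orderOf_dvd_natCard _
  · have := mem_powers_iff_mem_zpowers.2 (hx (f ⟨p, hp⟩))
    rw [Submonoid.mem_powers_iff] at this
    obtain ⟨m, hm⟩ := this
    refine ⟨m % orderOf x, Nat.mod_lt _ (orderOf_pos x), hinj _ _ (hpow _).1 hp ?_⟩
    rw [← (hpow _).2, pow_mod_orderOf, hm]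

variable {F V : Type*} [Field F] [AddCommGroup V] [Module F V] [Algebra F K] (Q : QuadraticForm F V)

theorem card_level_even [Finite V] (h2 : (2 : F) ≠ 0) (S : Submodule F V) {c : F} (hc : c ≠ 0) :
    Even (Nat.card {v : V // v ∈ S ∧ Q v = c}) := by
  classical
  letI : Fintype V := Fintype.ofFinite V
  rw [Nat.card_eq_fintype_card, Fintype.card_subtype]
  refine even_card_of_involution _ (fun v => -v) ?_ ?_ (fun v _ => neg_neg v)
  · intro v hv
    simp only [Finset.mem_filter, Finset.mem_univ, true_and, Submodule.neg_mem_iff, QuadraticMap.map_neg] at hv ⊢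
    exact hv
  · intro v hv h
    simp only [Finset.mem_filter, Finset.mem_univ, true_and] at hv
    rw [neg_eq_iff_add_eq_zero, ← two_smul F, smul_eq_zero] at h
    rcases h with h | h
    · exact h2 h
    · exact hc (by rw [← hv.2, h, QuadraticMap.map_zero])

theorem det_levelSign [Fintype F] [Finite V] [FiniteDimensional F V]
    (hQ : (QuadraticMap.polarBilin Q).Nondegenerate) (h2 : (2 : F) ≠ 0) {ν : F} (hν : ¬ IsSquare ν)
    (g : orthGroup Q) :
    (LinearMap.det (g.1 : V →ₗ[F] V) = 1 ∧ levelSign Q 1 g = levelSign Q ν g) ∨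
      (LinearMap.det (g.1 : V →ₗ[F] V) = -1 ∧ levelSign Q 1 g = -levelSign Q ν g) := by
  classical
  have hν0 : ν ≠ 0 := fun h => hν (h ▸ IsSquare.zero)
  let δ : orthGroup Q →* F :=
    { toFun := fun g => LinearMap.det (g.1 : V →ₗ[F] V)
      map_one' := LinearMap.det_id
      map_mul' := fun x y => map_mul LinearMap.det (x.1 : V →ₗ[F] V) (y.1 : V →ₗ[F] V) }
  show (δ g = 1 ∧ _) ∨ (δ g = -1 ∧ _)
  have hg : g ∈ reflGroup Q := by rw [reflGroup_eq_top hQ (good_of_two_ne h2)]; trivial
  induction hg using Subgroup.closure_induction with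
  | mem x hx =>
    obtain ⟨a, rfl⟩ := hx
    by_cases ha : Q a = 0
    · have : refl Q a = 1 := Subtype.ext (LinearEquiv.ext fun v => by rw [refl_apply, ha]; simp)
      rw [this, map_one, map_one, map_one]
      exact Or.inl ⟨rfl, rfl⟩
    refine Or.inr ⟨det_refl Q ha, ?_⟩
    rw [levelSign_refl Q h2 one_ne_zero ha, levelSign_refl Q h2 hν0 ha, one_mul]
    by_cases has : IsSquare (Q a)
    · rw [if_pos has, if_neg (fun h => hν (by
        obtain ⟨r, hr⟩ := has; obtain ⟨u, hu⟩ := h
        exact ⟨u / r, by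
          have hr0 : r ≠ 0 := fun h0 => ha (by rw [hr, h0, mul_zero])
          field_simp
          linear_combination hu - ν * hr⟩))]
    · rw [if_neg has, if_pos (by
        rw [← quadraticChar_one_iff_isSquare (mul_ne_zero hν0 ha), map_mul,
          quadraticChar_neg_one_iff_not_isSquare.2 has, quadraticChar_neg_one_iff_not_isSquare.2 hν]
        norm_num), neg_neg]
  | one => rw [map_one, map_one, map_one]; exact Or.inl ⟨rfl, rfl⟩
  | mul x y _ _ hx hy =>
    rw [map_mul, map_mul, map_mul]
    rcases hx with ⟨a1, a2⟩ | ⟨a1, a2⟩ <;> rcases hy with ⟨b1, b2⟩ | ⟨b1, b2⟩ <;> rw [a1, a2, b1, b2]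
    · exact Or.inl ⟨one_mul 1, rfl⟩
    · exact Or.inr ⟨one_mul _, mul_neg _ _⟩
    · exact Or.inr ⟨mul_one _, neg_mul _ _⟩
    · exact Or.inl ⟨by ring, neg_mul_neg _ _⟩
  | inv x _ hx =>
    have h1 : δ x⁻¹ * δ x = 1 := by rw [← map_mul, inv_mul_cancel, map_one]
    rw [map_inv (levelSign Q 1), map_inv (levelSign Q ν), Int.units_inv_eq_self, Int.units_inv_eq_self]
    rcases hx with ⟨a1, a2⟩ | ⟨a1, a2⟩ <;> rw [a1] at h1
    · exact Or.inl ⟨by simpa using h1, a2⟩
    · exact Or.inr ⟨by linear_combination -h1, a2⟩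

/-- The torus generator. -/
theorem exists_torus_twist [Fintype F] [Fintype K] [Finite V] [FiniteDimensional F V]
    (hQ : (QuadraticMap.polarBilin Q).Nondegenerate) (h2 : (2 : F) ≠ 0)
    {d : K} (hd : d ≠ 0) {φ : K →ₗ[F] F} (hφ : φ ≠ 0) (j : K × K →ₗ[F] V)
    (hj : ∀ p, Q (j p) = φ (qnorm d p)) :
    ∃ (v : orthGroup Q) (w : K × K), LinearMap.det (v.1 : V →ₗ[F] V) = 1 ∧ v ∉ commutator (orthGroup Q) ∧
      (∀ p, v.1 (j p) = j (qmul d w p)) ∧ (∀ x, (∀ p, polar Q x (j p) = 0) → v.1 x = x) ∧
      ∀ x, ∃ p, ∀ q, polar Q (x - j p) (j q) = 0 := by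
  classical
  have h2K : (2 : K) ≠ 0 := by
    rw [← map_ofNat (algebraMap F K) 2]; exact (map_ne_zero _).2 h2
  haveI : FiniteDimensional F K := Module.Finite.of_finite
  -- the form on the summand
  have hpol : ∀ p q : K × K, polar Q (j p) (j q) = φ (2 * (p.1 * q.1 - d * (p.2 * q.2))) := fun p q => by
    rw [polar, ← map_add, hj, hj, hj, ← map_sub, ← map_sub]
    congr 1
    simp only [qnorm, Prod.fst_add, Prod.snd_add]; ring_nf
  let T : K × K →ₗ[F] Module.Dual F (K × K) := ((QuadraticMap.polarBilin Q).compl₁₂ j j)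
  have hTinj : Function.Injective T := by
    rw [injective_iff_map_eq_zero]
    intro p hp
    obtain ⟨k, hk⟩ : ∃ k, φ k ≠ 0 := by
      by_contra h; push Not at h; exact hφ (LinearMap.ext h)
    have hall : ∀ q : K × K, φ (2 * (p.1 * q.1 - d * (p.2 * q.2))) = 0 := fun q => by
      rw [← hpol]; exact LinearMap.congr_fun hp q
    refine Prod.ext ?_ ?_
    · by_contra h
      exact hk (by
        have := hall (k / (2 * p.1), 0)
        rwa [show 2 * (p.1 * (k / (2 * p.1)) - d * (p.2 * 0)) = k by
          field_simp [h2K, show p.1 ≠ 0 from h]; ring] at this)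
    · by_contra h
      exact hk (by
        have := hall (0, k / (-2 * d * p.2))
        rwa [show 2 * (p.1 * 0 - d * (p.2 * (k / (-2 * d * p.2)))) = k by
          field_simp [h2K, hd, show p.2 ≠ 0 from h]; ring] at this)
  let Te := LinearEquiv.ofInjectiveOfFinrankEq T hTinj (Subspace.dual_finrank_eq (K := F) (V := K × K)).symm
  let π : V →ₗ[F] K × K := (Te.symm : Module.Dual F (K × K) →ₗ[F] K × K).comp
    ((LinearMap.lcomp F F j).comp (QuadraticMap.polarBilin Q))
  have hπ : ∀ x q, polar Q (j (π x)) (j q) = polar Q x (j q) := fun x q =>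
    LinearMap.congr_fun (Te.apply_symm_apply (((LinearMap.lcomp F F j).comp (QuadraticMap.polarBilin Q)) x)) q
  have hπj : ∀ p, π (j p) = p := fun p => hTinj (LinearMap.ext fun q => hπ (j p) q)
  have hperp : ∀ x q, polar Q (x - j (π x)) (j q) = 0 := fun x q => by rw [polar_sub_left, hπ, sub_self]
  have hπ0 : ∀ x, (∀ q, polar Q x (j q) = 0) → π x = 0 := fun x hx =>
    hTinj (LinearMap.ext fun q => by
      show polar Q (j (π x)) (j q) = T 0 q
      rw [hπ, hx, map_zero, LinearMap.zero_apply])
  obtain ⟨w, N, hw, hN0, hNe, hiff, hgen⟩ := exists_generator h2K hd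
  let M : K × K →ₗ[F] K × K :=
    { toFun := qmul d w
      map_add' := fun p q => by refine Prod.ext ?_ ?_ <;> simp only [qmul, Prod.fst_add, Prod.snd_add] <;> ring
      map_smul' := fun c p => by
        obtain ⟨a, b⟩ := p
        simp only [qmul, Prod.smul_mk, RingHom.id_apply, Algebra.smul_def]
        refine Prod.ext ?_ ?_ <;> simp <;> ring }
  let f : V →ₗ[F] V := LinearMap.id + j.comp ((M - LinearMap.id).comp π)
  have hfx : ∀ x, f x = (x - j (π x)) + j (qmul d w (π x)) := fun x => by
    show x + j (qmul d w (π x) - π x) = _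
    rw [map_sub]; abel
  have hsplit : ∀ x q, Q ((x - j (π x)) + j q) = Q (x - j (π x)) + φ (qnorm d q) := fun x q => by
    rw [quad_add', hperp, hj, add_zero]
  have hQf : ∀ x, Q (f x) = Q x := fun x => by
    rw [hfx, hsplit, qnorm_qmul, hw, one_mul, ← hsplit, sub_add_cancel]
  obtain ⟨v, hv⟩ := exists_of_preserving hQ f hQf
  have hvx : ∀ x, v.1 x = f x := hv
  have hvj : ∀ p, v.1 (j p) = j (qmul d w p) := fun p => by rw [hvx, hfx, hπj, sub_self, zero_add]
  have hvfix : ∀ x, (∀ p, polar Q x (j p) = 0) → v.1 x = x := fun x hx => by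
    rw [hvx, hfx, hπ0 x hx]
    simp [qmul, Prod.mk_zero_zero]
  have hiter : ∀ (m : ℕ) x, ((v ^ m : orthGroup Q).1) x = (x - j (π x)) + j (qmul d (qpow d w m) (π x)) := by
    intro m x
    induction m with
    | zero => rw [pow_zero, qpow, qmul_one', sub_add_cancel]; rfl
    | succ m ih =>
      rw [pow_succ', qpow, qmul_assoc]
      show v.1 ((v ^ m : orthGroup Q).1 x) = _
      rw [ih, map_add, hvj, hvfix _ (hperp x)]
  have hjinj : Function.Injective j := fun p q h => by rw [← hπj p, h, hπj]
  have hperiod : ∀ x, π x ≠ 0 → ∀ m : ℕ, (v ^ m : orthGroup Q).1 x = x ↔ N ∣ m := by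
    intro x hx m
    rw [← hiff, hiter]
    constructor
    · intro h
      have h' : qmul d (qpow d w m) (π x) = π x := hjinj (by
        have := eq_sub_of_add_eq' h
        rwa [sub_sub_cancel] at this)
      exact qmul_fixed h2K hd (qnorm_qpow d hw m) hx h'
    · intro h
      rw [h, qmul_one', sub_add_cancel]
  -- the sign on each level set
  let S : Submodule F V := LinearMap.ker π
  have hSmem : ∀ x, x ∈ S ↔ ∀ q, polar Q x (j q) = 0 := fun x => by
    refine ⟨fun hx q => ?_, hπ0 x⟩
    rw [← hπ, LinearMap.mem_ker.1 hx, map_zero, polar_zero_left]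
  let L : F → ℕ := fun c => Nat.card {x : V // x ∈ S ∧ Q x = c}
  have hsign : ∀ c : F, c ≠ 0 → levelSign Q c v = -1 := by
    intro c hc
    unfold levelSign
    rw [MonoidHom.comp_apply]
    generalize Classical.decEq {x : V // Q x = c} = dX
    generalize Fintype.ofFinite {x : V // Q x = c} = fX
    set σ := levelPerm Q c v with hσ
    have hσm : ∀ (m : ℕ) (x : {x : V // Q x = c}), (((σ ^ m) x : {x : V // Q x = c}) : V) = (v ^ m : orthGroup Q).1 x := by
      intro m x
      rw [hσ, ← map_pow, levelPerm_apply]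
    have hmoved : ∀ x : {x : V // Q x = c}, σ x ≠ x ↔ π x.1 ≠ 0 := by
      intro x
      constructor
      · intro h hp
        exact h (Subtype.ext (hvfix _ ((hSmem _).1 hp)))
      · intro hp h
        have h' : (v ^ 1 : orthGroup Q).1 x.1 = x.1 := by
          rw [pow_one]; exact congrArg Subtype.val h
        have := (hperiod x.1 hp 1).1 h'
        rw [Nat.dvd_one.1 this] at hNe
        exact absurd hNe (by decide)
    obtain ⟨k, hk, hs⟩ := sign_of_uniform σ hNe (fun x hx m => by
      rw [← hperiod x.1 ((hmoved x).1 hx) m, ← hσm, Subtype.val_inj])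
    rw [hs]
    suffices Odd k by exact this.neg_one_pow
    -- count the moved vectors
    have key : ∀ a b : Σ t : K, {p : K × K // p ≠ 0 ∧ qnorm d p = t} × {x : V // x ∈ S ∧ Q x = c - φ t},
        a.2.1.1 = b.2.1.1 → a.2.2.1 = b.2.2.1 → a = b := by
      rintro ⟨t, ⟨p, hp, rfl⟩, x⟩ ⟨t', ⟨p', hp', rfl⟩, x'⟩ (h1 : p = p') (h2 : x.1 = x'.1)
      subst h1
      rw [Subtype.ext h2]
    let e : {x : {x : V // Q x = c} // x ∈ σ.support} ≃
        Σ t : K, {p : K × K // p ≠ 0 ∧ qnorm d p = t} × {x : V // x ∈ S ∧ Q x = c - φ t} :=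
      { toFun := fun x => ⟨qnorm d (π x.1.1), ⟨π x.1.1, (hmoved _).1 (Equiv.Perm.mem_support.1 x.2), rfl⟩,
          x.1.1 - j (π x.1.1), (hSmem _).2 (hperp _), by
            have h := hsplit x.1.1 (π x.1.1)
            rw [sub_add_cancel] at h
            exact eq_sub_of_add_eq (h.symm.trans x.1.2)⟩
        invFun := fun y => ⟨⟨y.2.2.1 + j y.2.1.1, by
            rw [quad_add', (hSmem _).1 y.2.2.2.1, y.2.2.2.2, hj, y.2.1.2.2, add_zero, sub_add_cancel]⟩, by
            rw [Equiv.Perm.mem_support, hmoved]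
            rw [map_add, LinearMap.mem_ker.1 y.2.2.2.1, hπj, zero_add]
            exact y.2.1.2.1⟩
        left_inv := fun x => Subtype.ext (Subtype.ext (sub_add_cancel _ _))
        right_inv := fun ⟨t, ⟨p, hp, hpt⟩, ⟨x, hx, hxc⟩⟩ => by
          have hp' : π (x + j p) = p := by rw [map_add, LinearMap.mem_ker.1 hx, hπj, zero_add]
          subst hpt
          exact key _ _ hp' (by simp only [hp', add_sub_cancel_right]) }
    set A : K → ℕ := fun t => Nat.card {p : K × K // p ≠ 0 ∧ qnorm d p = t} with hA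
    have hcard : σ.support.card = ∑ t : K, A t * L (c - φ t) := by
      rw [← Nat.card_eq_finsetCard, Nat.card_congr e, Nat.card_sigma]
      exact Finset.sum_congr rfl fun t _ => Nat.card_prod _ _
    have hAt : ∀ t, t ≠ 0 → A t = N := by
      intro t ht
      obtain ⟨p, hp⟩ := exists_qnorm h2K hd t
      have hp0 : p ≠ 0 := fun h => ht (by rw [← hp, h]; simp [qnorm])
      have hb : Function.Bijective (fun m : Fin N =>
          (⟨qmul d (qpow d w m.1) p, fun h => ht (by
            have := congrArg (qnorm d) h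
            rw [qnorm_qmul, hp, qnorm_qpow d hw, one_mul] at this
            simpa [qnorm] using this), by
              rw [qnorm_qmul, hp, qnorm_qpow d hw, one_mul]⟩ : {p : K × K // p ≠ 0 ∧ qnorm d p = t})) := by
        constructor
        · intro a b h
          have h' := qmul_cancel h2K hd (qnorm_qpow d hw _) (qnorm_qpow d hw _) hp0 (congrArg Subtype.val h)
          exact Fin.ext (qpow_inj hiff hw a.2 b.2 h')
        · rintro ⟨q, hq, hqt⟩
          obtain ⟨m, hm, hmp⟩ := hgen (qmul d q (p.1 / t, -p.2 / t)) (by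
            rw [qnorm_qmul, hqt]
            simp only [qnorm] at hp ⊢
            field_simp
            linear_combination hp)
          refine ⟨⟨m, hm⟩, Subtype.ext ?_⟩
          show qmul d (qpow d w m) p = q
          rw [hmp, qmul_assoc]
          have : qmul d (p.1 / t, -p.2 / t) p = (1, 0) := by
            simp only [qnorm] at hp
            refine Prod.ext ?_ ?_ <;> simp only [qmul] <;> field_simp
            · linear_combination hp
            · ring
          rw [this]
          refine Prod.ext ?_ ?_ <;> simp [qmul]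
      show Nat.card _ = N
      rw [← Nat.card_eq_of_bijective _ hb, Nat.card_fin]
    have hA0 : N ∣ A 0 := by
      let τ : Equiv.Perm {p : K × K // p ≠ 0 ∧ qnorm d p = 0} := Equiv.ofBijective
        (fun p => ⟨qmul d w p.1, fun h => p.2.1 (by
            have h' := hperiod (j p.1) (by rw [hπj]; exact p.2.1) N
            have : j (qmul d w p.1) = 0 := by rw [h, map_zero]
            rw [← hvj] at this
            exact hjinj (by rw [map_zero]; exact (v.1.map_eq_zero_iff).1 this)),
          by rw [qnorm_qmul, p.2.2, mul_zero]⟩)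
        (Finite.injective_iff_bijective.1 (fun p q h => Subtype.ext (hjinj (v.1.injective (by
          rw [hvj, hvj]; exact congrArg j (congrArg Subtype.val h))))))
      have hτ : ∀ (m : ℕ) p, ((τ ^ m) p).1 = qmul d (qpow d w m) p.1 := by
        intro m p
        induction m with
        | zero => rw [pow_zero, qpow, qmul_one']; rfl
        | succ m ih =>
          rw [pow_succ', Equiv.Perm.mul_apply, qpow, qmul_assoc, ← ih]; rfl
      have hper : ∀ p (m : ℕ), (τ ^ m) p = p ↔ N ∣ m := fun p m => by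
        rw [← Subtype.val_inj, hτ, ← hperiod (j p.1) (by rw [hπj]; exact p.2.1) m, hiter, hπj, sub_self, zero_add]
        exact ⟨fun h => congrArg j h, fun h => hjinj h⟩
      obtain ⟨k', hk', -⟩ := sign_of_uniform τ hNe (fun p _ => hper p)
      have : τ.support = Finset.univ := Finset.eq_univ_of_forall fun p => by
        rw [Equiv.Perm.mem_support]
        intro h
        have := (hper p 1).1 (by rwa [pow_one])
        rw [Nat.dvd_one.1 this] at hNe
        exact absurd hNe (by decide)
      rw [this, Finset.card_univ, ← Nat.card_eq_fintype_card] at hk'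
      exact ⟨k', hk'⟩
    have hodd : Odd (∑ t : K, L (c - φ t)) := by
      have hφs : Function.Surjective φ := by
        refine LinearMap.range_eq_top.1 ?_
        rcases eq_bot_or_eq_top (LinearMap.range φ) with h | h
        · exact absurd (LinearMap.range_eq_bot.1 h) hφ
        · exact h
      let e' : (Σ t : K, {x : V // x ∈ S ∧ Q x = c - φ t}) ≃ S × LinearMap.ker φ :=
        { toFun := fun y => (⟨y.2.1, y.2.2.1⟩, ⟨y.1 - (hφs (c - Q y.2.1)).choose, by
            rw [LinearMap.mem_ker, map_sub, (hφs (c - Q y.2.1)).choose_spec, y.2.2.2]; ring⟩)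
          invFun := fun z => ⟨z.2.1 + (hφs (c - Q z.1.1)).choose, z.1.1, z.1.2, by
            rw [map_add, LinearMap.mem_ker.1 z.2.2, (hφs (c - Q z.1.1)).choose_spec, zero_add, sub_sub_cancel]⟩
          left_inv := fun ⟨t, x, hx, hxc⟩ => Sigma.subtype_ext (sub_add_cancel _ _) rfl
          right_inv := fun ⟨⟨x, hx⟩, ⟨u, hu⟩⟩ => Prod.ext rfl (Subtype.ext (add_sub_cancel_right _ _)) }
      have hq : Odd (Nat.card F) := by
        rw [Nat.card_eq_fintype_card, Nat.odd_iff]
        exact FiniteField.odd_card_of_char_ne_two fun h => h2 (by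
          haveI : CharP F 2 := ringChar.of_eq h; exact CharTwo.two_eq_zero)
      have := Nat.card_congr e'
      rw [Nat.card_sigma, Nat.card_prod, Module.natCard_eq_pow_finrank (K := F) (V := S),
        Module.natCard_eq_pow_finrank (K := F) (V := LinearMap.ker φ)] at this
      rw [show (∑ t : K, L (c - φ t)) = _ from this]
      exact hq.pow.mul hq.pow
    obtain ⟨a, ha⟩ := hA0
    obtain ⟨l, hl⟩ := card_level_even Q h2 S hc
    have hsum : ∑ t : K, A t * L (c - φ t) = N * (a * L c + ∑ t ∈ Finset.univ.erase (0 : K), L (c - φ t)) := by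
      rw [← Finset.add_sum_erase _ _ (Finset.mem_univ (0 : K)), map_zero, sub_zero, ha, mul_assoc, mul_add,
        Finset.mul_sum]
      congr 1
      exact Finset.sum_congr rfl fun t ht => by rw [hAt t (Finset.ne_of_mem_erase ht)]
    rw [hcard, hsum] at hk
    have hkk : k = a * L c + ∑ t ∈ Finset.univ.erase (0 : K), L (c - φ t) :=
      (Nat.eq_of_mul_eq_mul_left hN0 hk).symm
    have hL : L c = l + l := hl
    have htot := Finset.add_sum_erase _ (fun t => L (c - φ t)) (Finset.mem_univ (0 : K))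
    simp only [map_zero, sub_zero] at htot
    rw [← htot, hL, Nat.odd_add] at hodd
    rw [hkk, hL, Nat.odd_add']
    refine ⟨fun _ => ⟨a * l, by ring⟩, fun _ => ?_⟩
    exact Nat.not_even_iff_odd.1 fun he => (Nat.not_odd_iff_even.2 ⟨l, rfl⟩) (hodd.2 he)
  refine ⟨v, w, ?_, fun hc => ?_, hvj, hvfix, fun x => ⟨π x, hperp x⟩⟩
  · obtain ⟨ν, hν⟩ := FiniteField.exists_nonsquare (F := F) fun h => h2 (by
      haveI : CharP F 2 := ringChar.of_eq h; exact CharTwo.two_eq_zero)
    have hν0 : ν ≠ 0 := fun h => hν (h ▸ IsSquare.zero)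
    rcases det_levelSign Q hQ h2 hν v with ⟨h, -⟩ | ⟨-, h⟩
    · exact h
    · rw [hsign 1 one_ne_zero, hsign ν hν0] at h
      exact absurd h (by decide)
  · have := ((mem_commutator_odd hQ h2 v).1 hc).2
    rw [hsign 1 one_ne_zero] at this
    exact absurd this (by decide)

end CfsgLib.Orth
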