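import Cfsg.Agent.Lib.Orth.Basic

set_option autoImplicit false
set_option linter.unusedSectionVars false

/-!
Witt's extension theorem and generation of the orthogonal group by reflections
(except for the orthogonal groups of dimension four over the field of two elements).
-/

namespace CfsgLib.Orth

open QuadraticMap Module

variable {F V : Type*} [Field F] [AddCommGroup V] [Module F V] [FiniteDimensional F V]
variable {Q : QuadraticForm F V} (hQ : (QuadraticMap.polarBilin Q).Nondegenerate)
include hQ

/-- A Siegel map by a non-singular vector is a product of two reflections. -/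
theorem siegel_eq_refl {d w : V} (hd : Q d = 0) (hdw : polar Q d w = 0) (hw : Q w ≠ 0) (v : V) :
    (refl Q w * refl Q (w + Q w • d)).1 v =
      v + polar Q d v • w + (-(polar Q w v) - Q w * polar Q d v) • d := by
  show (refl Q w).1 ((refl Q (w + Q w • d)).1 v) = _
  have hq : Q (w + Q w • d) = Q w := by
    rw [quad_add', quad_smul', polar_smul_r', hd, polar_comm _ w d, hdw]; ring
  simp only [refl_apply, hq, polar_add_left, polar_smul_l', sub_eq_add_neg, ← neg_smul, polar_add_right,
    polar_smul_r', polar_self', polar_comm _ w d, hdw, smul_add, smul_smul, neg_add]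
  match_scalars <;> field_simp <;> ring

theorem siegel_mem (h4 : (∃ a : F, a ≠ 0 ∧ a ≠ 1) ∨ finrank F V ≠ 4) {d u : V} (hd : Q d = 0)
    (hdu : polar Q d u = 0) :
    ∃ g ∈ reflGroup Q, ∀ v, g.1 v = v + polar Q d v • u + (-(polar Q u v) - Q u * polar Q d v) • d := by
  by_cases hu : Q u ≠ 0
  · exact ⟨_, mul_mem (refl_mem_reflGroup Q _) (refl_mem_reflGroup Q _), siegel_eq_refl hQ hd hdu hu⟩
  push Not at hu
  by_cases hd0 : d = 0
  · refine ⟨1, one_mem _, fun v => ?_⟩
    show v = _
    simp [hd0]
  by_cases hud : u ∈ (F ∙ d)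
  · obtain ⟨t, rfl⟩ := Submodule.mem_span_singleton.1 hud
    refine ⟨1, one_mem _, fun v => ?_⟩
    show v = _
    rw [hu, polar_smul_l', smul_smul]
    match_scalars <;> ring
  obtain ⟨z', hz'd, hz'u⟩ := exists_polar_one hQ hud
  set z := z' - Q z' • u with hz
  have hzu : polar Q z u = 1 := by
    rw [hz, polar_sub_left, polar_smul_l', polar_self', hu, hz'u]; ring
  have hzd : polar Q z d = 0 := by
    rw [hz, polar_sub_left, polar_smul_l', hz'd d (Submodule.mem_span_singleton_self d), polar_comm _ u d, hdu]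
    ring
  have hQz : Q z = 0 := by
    rw [hz, sub_eq_add_neg, ← neg_smul, quad_add', quad_smul', polar_smul_r', hu, hz'u]; ring
  obtain ⟨w, hdw, hw, huw⟩ : ∃ w, polar Q d w = 0 ∧ Q w ≠ 0 ∧ Q (u - w) ≠ 0 := by
    rcases h4 with ⟨a, ha0, ha1⟩ | h4
    · refine ⟨a • u + z, ?_, ?_, ?_⟩
      · rw [polar_add_right, polar_smul_r', hdu, polar_comm _ d z, hzd]; ring
      · rw [quad_add', quad_smul', polar_smul_l', hu, hQz, polar_comm _ u z, hzu]; simpa using ha0
      · rw [show u - (a • u + z) = (1 - a) • u + (-z) by module, quad_add', quad_smul', hu, QuadraticMap.map_neg,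
          hQz, polar_smul_l', polar_neg_right, polar_comm _ u z, hzu]
        intro h; apply ha1; linear_combination h
    · -- a non-singular vector perpendicular to `d`, `u`, `z`
      set B : LinearMap.BilinForm F V := QuadraticMap.polarBilin Q
      have hrefl : B.IsRefl := fun x y h => by
        rw [QuadraticMap.polarBilin_apply_apply] at h ⊢; rwa [polar_comm]
      set S := Submodule.span F (Set.range ![d, u, z]) with hS
      have hmem : ∀ i, ![d, u, z] i ∈ S := fun i => Submodule.subset_span ⟨i, rfl⟩
      set T := Submodule.span F (Set.range ![d, u]) with hT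
      have hT2 : finrank F T = 2 := by
        rw [hT, finrank_span_eq_card, Fintype.card_fin]
        rw [LinearIndependent.pair_iff' hd0]
        exact fun a h => hud (Submodule.mem_span_singleton.2 ⟨a, h⟩)
      have hTT : T ≤ B.orthogonal T := by
        rw [hT, Submodule.span_le]
        rintro _ ⟨i, rfl⟩ x hx
        show polar Q x (![d, u] i) = 0
        induction hx using Submodule.span_induction with
        | mem y hy =>
          obtain ⟨j, rfl⟩ := hy
          fin_cases i <;> fin_cases j <;>
            simp [hdu, polar_comm _ u d, polar_self', hd, hu]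
        | zero => exact polar_zero_left (Q := Q) _
        | add a b _ _ ha hb => rw [polar_add_left, ha, hb, add_zero]
        | smul a y _ hy => rw [polar_smul_l', hy, mul_zero]
      have hn : 4 ≤ finrank F V := by
        have h1 := Submodule.finrank_mono hTT
        rw [LinearMap.BilinForm.finrank_orthogonal hQ, hT2] at h1
        omega
      have hN : 2 ≤ finrank F (B.orthogonal S) := by
        rw [LinearMap.BilinForm.finrank_orthogonal hQ]
        have : finrank F S ≤ 3 := le_trans (finrank_range_le_card ![d, u, z]) (by simp)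
        omega
      obtain ⟨e, heN, he⟩ : ∃ e ∈ B.orthogonal S, Q e ≠ 0 := by
        by_contra hall
        push Not at hall
        have hle : B.orthogonal S ≤ F ∙ d := by
          intro x hx
          have hx' : x ∈ B.orthogonal (B.orthogonal S) := by
            intro y hy
            show polar Q y x = 0
            simp only [polar, hall _ (Submodule.add_mem _ hy hx), hall _ hy, hall _ hx, sub_zero]
          rw [LinearMap.BilinForm.orthogonal_orthogonal hQ hrefl] at hx'
          obtain ⟨c, rfl⟩ := (Submodule.mem_span_range_iff_exists_fun F).1 hx'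
          have h1 : polar Q u _ = 0 := hx _ (hmem 1)
          have h2 : polar Q z _ = 0 := hx _ (hmem 2)
          simp [Fin.sum_univ_three, polar_add_right, polar_smul_r', polar_self', hu, hQz, hzd, hzu,
            polar_comm _ u d, hdu, polar_comm _ u z] at h1 h2
          exact Submodule.mem_span_singleton.2 ⟨c 0, by simp [Fin.sum_univ_three, h1, h2]⟩
        have := Submodule.finrank_mono hle
        rw [finrank_span_singleton hd0] at this
        omega
      have hde : polar Q d e = 0 := heN _ (hmem 0)
      have hue : polar Q u e = 0 := heN _ (hmem 1)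
      refine ⟨e, hde, he, ?_⟩
      rw [sub_eq_add_neg, quad_add', QuadraticMap.map_neg, hu, polar_neg_right, hue]
      simpa using he
  obtain hdw' : polar Q d (u - w) = 0 := by rw [polar_sub_right, hdu, hdw, sub_zero]
  refine ⟨refl Q w * refl Q (w + Q w • d) * (refl Q (u - w) * refl Q ((u - w) + Q (u - w) • d)),
    mul_mem (mul_mem (refl_mem_reflGroup Q _) (refl_mem_reflGroup Q _))
      (mul_mem (refl_mem_reflGroup Q _) (refl_mem_reflGroup Q _)), fun v => ?_⟩
  show (refl Q w * refl Q (w + Q w • d)).1 ((refl Q (u - w) * refl Q ((u - w) + Q (u - w) • d)).1 v) = _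
  rw [siegel_eq_refl hQ hd hdw' huw, siegel_eq_refl hQ hd hdw hw]
  simp only [polar_add_right, polar_smul_r', polar_self', hd, hdw', polar_comm _ w d, hdw]
  have e : Q u = Q w + Q (u - w) + polar Q w (u - w) := by
    conv_lhs => rw [← add_sub_cancel w u]
    exact quad_add' Q w (u - w)
  have e2 : polar Q u v = polar Q w v + polar Q (u - w) v := by
    rw [← polar_add_left, add_sub_cancel]
  rw [e, e2, smul_sub (polar Q d v)]
  match_scalars <;> ring

/-- The key step of Witt's theorem. -/
theorem witt_step_in {S : Subgroup (orthGroup Q)} (hS : reflGroup Q ≤ S)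
    (hsieg : ∀ d u : V, Q d = 0 → polar Q d u = 0 → ∃ g ∈ S, ∀ v, g.1 v = v + polar Q d v • u + (-(polar Q u v) - Q u * polar Q d v) • d) {H : Submodule F V} {x y : V}
    (hQxy : Q x = Q y) (hH : ∀ h ∈ H, polar Q (y - x) h = 0) (hxH : x ∉ H) (hyH : y ∉ H) :
    ∃ g ∈ S, (∀ h ∈ H, g.1 h = h) ∧ g.1 x = y := by
  set d := y - x with hd
  by_cases hQd : Q d ≠ 0
  · refine ⟨refl Q d, hS (refl_mem_reflGroup Q d), fun h hh => refl_fix Q (hH h hh), ?_⟩
    rw [hd, ← refl_smul Q (neg_ne_zero.2 one_ne_zero) (y - x), neg_one_smul, neg_sub]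
    apply refl_sub_apply Q hQxy
    rwa [← QuadraticMap.map_neg, neg_sub]
  push Not at hQd
  have hy : y = x + d := by rw [hd]; abel
  have hdx : polar Q d x = 0 := by
    have h1 := hQxy
    rw [hy, quad_add', hQd, polar_comm _ x d] at h1
    linear_combination -h1
  by_cases hx : x ∈ H ⊔ (F ∙ d)
  · obtain ⟨h₀, hh₀, e, he, hxe⟩ := Submodule.mem_sup.1 hx
    obtain ⟨c, rfl⟩ := Submodule.mem_span_singleton.1 he
    have hc0 : c ≠ 0 := fun h => hxH (by rw [← hxe, h, zero_smul, add_zero]; exact hh₀)
    have hdH : d ∉ H := fun h => hxH (hxe ▸ H.add_mem hh₀ (H.smul_mem c h))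
    obtain ⟨z', hz'H, hz'd⟩ := exists_polar_one hQ hdH
    set z := z' - Q z' • d with hz
    have hzd : polar Q d z = 1 := by
      rw [hz, polar_sub_right, polar_smul_r', polar_self', hQd, polar_comm _ d z', hz'd]; ring
    have hQz : Q z = 0 := by
      rw [hz, sub_eq_add_neg, ← neg_smul, quad_add', quad_smul', polar_smul_r', hQd, hz'd]; ring
    have hc1 : c + 1 ≠ 0 := by
      intro h
      apply hyH
      rw [hy, ← hxe, add_assoc]
      nth_rewrite 2 [← one_smul F d]
      rw [← add_smul, h, zero_smul, add_zero]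
      exact hh₀
    have hl : (c + 1) / c ≠ 0 := div_ne_zero hc1 hc0
    have hfix : ∀ h ∈ H, (torus Q d z ((c + 1) / c)).1 h = h := fun h hh => by
      refine torus_fix Q _ (hH h hh) ?_
      rw [hz, polar_sub_left, polar_smul_l', hz'H h hh, hH h hh]; ring
    refine ⟨torus Q d z ((c + 1) / c), hS (mul_mem (refl_mem_reflGroup Q _) (refl_mem_reflGroup Q _)), hfix, ?_⟩
    rw [hy, ← hxe, map_add, map_smul, hfix h₀ hh₀, (torus_pair Q hQd hQz hzd hl).1, smul_smul,
      mul_div_cancel₀ _ hc0, add_smul, one_smul, add_assoc]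
  · obtain ⟨u', hu'W, hu'x⟩ := exists_polar_one hQ hx
    set u := -u' with hu
    have hud : polar Q d u = 0 := by
      rw [hu, polar_neg_right, polar_comm _ d u', hu'W d (Submodule.mem_sup_right (Submodule.mem_span_singleton_self d)), neg_zero]
    obtain ⟨g, hg, hgv⟩ := hsieg d u hQd hud
    refine ⟨g, hg, fun h hh => ?_, ?_⟩
    · rw [hgv, hH h hh, hu, polar_neg_left, hu'W h (Submodule.mem_sup_left hh)]
      simp
    · rw [hgv, hdx, hu, polar_neg_left, hu'x, hy]
      simp

/-- Witt's theorem for families of vectors. -/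
theorem witt_family_in {S : Subgroup (orthGroup Q)} (hS : reflGroup Q ≤ S)
    (hsieg : ∀ d u : V, Q d = 0 → polar Q d u = 0 → ∃ g ∈ S, ∀ v, g.1 v = v + polar Q d v • u + (-(polar Q u v) - Q u * polar Q d v) • d) : ∀ {k : ℕ} (u w : Fin k → V),
    LinearIndependent F u → LinearIndependent F w → (∀ i, Q (u i) = Q (w i)) →
    (∀ i j, polar Q (u i) (u j) = polar Q (w i) (w j)) →
    ∃ g ∈ S, ∀ i, g.1 (u i) = w i
  | 0, _, _, _, _, _, _ => ⟨1, one_mem _, fun i => i.elim0⟩
  | k + 1, u, w, hu, hw, hq, hp => by
    obtain ⟨g₀, hg₀, he⟩ := witt_family_in hS hsieg (u ∘ Fin.castSucc) (w ∘ Fin.castSucc)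
      (hu.comp _ (Fin.castSucc_injective _)) (hw.comp _ (Fin.castSucc_injective _))
      (fun i => hq _) (fun i j => hp _ _)
    simp only [Function.comp_apply] at he
    set H := Submodule.span F (Set.range (w ∘ Fin.castSucc)) with hH
    have hl1 : g₀.1 (u (Fin.last k)) ∉ H := by
      have hgu : LinearIndependent F (g₀.1 ∘ u) := hu.map' (g₀.1 : V →ₗ[F] V) (LinearEquiv.ker g₀.1)
      have hrange : Set.range (w ∘ Fin.castSucc) = (g₀.1 ∘ u) '' Set.range (Fin.castSucc : Fin k → Fin (k + 1)) := by
        rw [← Set.range_comp]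
        exact congrArg Set.range (funext fun i => (he i).symm)
      rw [hH, hrange]
      exact hgu.notMem_span_image (by simp)
    have hl2 : w (Fin.last k) ∉ H := by
      rw [hH, Set.range_comp]
      exact hw.notMem_span_image (by simp)
    have hperp : ∀ h ∈ H, polar Q (w (Fin.last k) - g₀.1 (u (Fin.last k))) h = 0 := by
      intro h hh
      induction hh using Submodule.span_induction with
      | mem x hx =>
        obtain ⟨i, rfl⟩ := hx
        rw [polar_sub_left, Function.comp_apply, ← hp]
        rw [← he, polar_isom g₀, sub_self]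
      | zero => exact polar_zero_right (Q := Q) _
      | add a b _ _ ha hb => rw [polar_add_right, ha, hb, add_zero]
      | smul a y _ hy => rw [polar_smul_r', hy, mul_zero]
    obtain ⟨g₁, hg₁, hfix, hx⟩ := witt_step_in hQ hS hsieg (by rw [apply_quad, hq]) hperp hl1 hl2
    refine ⟨g₁ * g₀, mul_mem hg₁ hg₀, fun i => ?_⟩
    show g₁.1 (g₀.1 (u i)) = w i
    refine Fin.lastCases ?_ (fun j => ?_) i
    · exact hx
    · rw [he]; exact hfix _ (Submodule.subset_span ⟨j, rfl⟩)

/-- Witt's theorem inside the reflection group. -/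
theorem witt_family (h4 : (∃ a : F, a ≠ 0 ∧ a ≠ 1) ∨ finrank F V ≠ 4) {k : ℕ} (u w : Fin k → V)
    (hu : LinearIndependent F u) (hw : LinearIndependent F w) (hq : ∀ i, Q (u i) = Q (w i))
    (hp : ∀ i j, polar Q (u i) (u j) = polar Q (w i) (w j)) : ∃ g ∈ reflGroup Q, ∀ i, g.1 (u i) = w i :=
  witt_family_in hQ le_rfl (fun d u hd hdu => siegel_mem hQ h4 hd hdu) u w hu hw hq hp

/-- Witt's theorem without exceptions. -/
theorem witt_family' {k : ℕ} (u w : Fin k → V) (hu : LinearIndependent F u) (hw : LinearIndependent F w)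
    (hq : ∀ i, Q (u i) = Q (w i)) (hp : ∀ i j, polar Q (u i) (u j) = polar Q (w i) (w j)) :
    ∃ g : orthGroup Q, ∀ i, g.1 (u i) = w i := by
  obtain ⟨g, -, hg⟩ := witt_family_in hQ (S := ⊤) le_top (fun d u hd hdu => by
    obtain ⟨g, hg⟩ := exists_siegel hQ hd hdu
    exact ⟨g, trivial, hg⟩) u w hu hw hq hp
  exact ⟨g, hg⟩

/-- The orthogonal group is generated by reflections. -/
theorem reflGroup_eq_top (h4 : (∃ a : F, a ≠ 0 ∧ a ≠ 1) ∨ finrank F V ≠ 4) : reflGroup Q = ⊤ := by
  refine eq_top_iff.2 fun g _ => ?_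
  let b := Module.finBasis F V
  obtain ⟨g', hg', he⟩ := witt_family hQ h4 b (g.1 ∘ b) b.linearIndependent
    (b.linearIndependent.map' (g.1 : V →ₗ[F] V) (LinearEquiv.ker g.1))
    (fun i => (apply_quad g _).symm) (fun i j => (polar_isom g _ _).symm)
  have : g' = g := Subtype.ext (b.ext' fun i => he i)
  exact this ▸ hg'

end CfsgLib.Orth
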