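import Cfsg.Agent.Lib.Orth.TorusSign
import Cfsg.Agent.Lib.Orth.Similitude
import Cfsg.Agent.Lib.Classical.SympBasic

set_option autoImplicit false
set_option linter.unusedSectionVars false

/-!
The centraliser of an isometry of odd order prime to the characteristic: it holds a similitude of every
multiplier with `det = μ ^ n`, and a special isometry outside the commutator subgroup.
-/

namespace CfsgLib.Orth

open QuadraticMap Module

variable {F : Type*} [Field F]

/-- A similitude of an alternating form has determinant a power of the multiplier. -/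
theorem det_of_alt_similitude {V : Type*} [AddCommGroup V] [Module F V] [FiniteDimensional F V]
    {B : V →ₗ[F] V →ₗ[F] F} (hA : B.IsAlt) (hN : B.Nondegenerate) {u : V →ₗ[F] V} {ν : F} (hν : ν ≠ 0)
    (hu : ∀ x y, B (u x) (u y) = ν * B x y) {n : ℕ} (hn : finrank F V = 2 * n) :
    LinearMap.det u = ν ^ n := by
  classical
  obtain ⟨m, b, hb1, hb2, hb3⟩ := CfsgLib.Classical.exists_sympBasis hA hN
  have hmn : m = n := by
    have := Module.finrank_eq_card_basis b
    simp [hn] at this
    omega
  subst hmn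
  set M := LinearMap.toMatrix b b u
  have hJ : LinearMap.toMatrix₂ b b B = -Matrix.J (Fin m) F := by
    ext i j
    rw [LinearMap.toMatrix₂_apply]
    rcases i with i | i <;> rcases j with j | j
    · simp [hb2, Matrix.J]
    · simp [hb1, Matrix.J, Matrix.one_apply]
    · rw [← (LinearMap.IsAlt.neg hA (b (Sum.inl j)) (b (Sum.inr i)))]
      simp [hb1, Matrix.J, Matrix.one_apply, eq_comm]
    · simp [hb3, Matrix.J]
  have hM : M.transpose * Matrix.J (Fin m) F * M = ν • Matrix.J (Fin m) F := by
    have h : B.compl₁₂ u u = ν • B := LinearMap.ext fun x => LinearMap.ext fun y => hu x y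
    have h' := congrArg (LinearMap.toMatrix₂ b b) h
    rw [LinearMap.toMatrix₂_compl₁₂ b b b b, map_smul, hJ, Matrix.mul_neg, Matrix.neg_mul, smul_neg, neg_inj] at h'
    exact h'
  let D : Matrix (Fin m ⊕ Fin m) (Fin m ⊕ Fin m) F := Matrix.fromBlocks (ν⁻¹ • 1) 0 0 1
  have hmem : M * D ∈ Matrix.symplecticGroup (Fin m) F := by
    rw [SymplecticGroup.mem_iff', Matrix.transpose_mul,
      show D.transpose * M.transpose * Matrix.J (Fin m) F * (M * D) =
        D.transpose * (M.transpose * Matrix.J (Fin m) F * M) * D by simp only [Matrix.mul_assoc], hM]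
    simp [D, Matrix.J, Matrix.fromBlocks_transpose, Matrix.fromBlocks_multiply, Matrix.fromBlocks_smul,
      smul_smul, hν]
  have hd := SymplecticGroup.det_eq_one hmem
  rw [Matrix.det_mul, LinearMap.det_toMatrix] at hd
  simp only [D, Matrix.det_fromBlocks_zero₂₁, Matrix.det_smul, Matrix.det_one, Fintype.card_fin, mul_one, inv_pow] at hd
  exact (mul_inv_eq_one₀ (pow_ne_zero _ hν)).1 hd

section FixFree

variable {W : Type*} [AddCommGroup W] [Module F W] [FiniteDimensional F W] {QW : QuadraticForm F W}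
  (hQW : (QuadraticMap.polarBilin QW).Nondegenerate) (h2 : (2 : F) ≠ 0) (g : orthGroup QW) {r : ℕ}
  (hr : Odd r) (hrF : (r : F) ≠ 0) (hgr : g ^ r = 1) (hfix : ∀ x, g.1 x = x → x = 0)

/-- `g + g⁻¹`. -/
noncomputable def traceEnd : Module.End F W := (g.1 : W →ₗ[F] W) + ((g⁻¹).1 : W →ₗ[F] W)

/-- `g - g⁻¹`. -/
noncomputable def skewEnd : Module.End F W := (g.1 : W →ₗ[F] W) - ((g⁻¹).1 : W →ₗ[F] W)

/-- The algebra generated by `g + g⁻¹`. -/
abbrev traceAlg : Subalgebra F (Module.End F W) := Algebra.adjoin F {traceEnd g}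

theorem skew_adj (x y : W) : polar QW (skewEnd g x) y = -polar QW x (skewEnd g y) := by
  have h : ∀ (k : orthGroup QW) a b, polar QW (k.1 a) b = polar QW a ((k⁻¹).1 b) := fun k a b => by
    have := polar_isom k a ((k⁻¹).1 b)
    rwa [inv_apply] at this
  simp only [skewEnd, LinearMap.sub_apply, LinearEquiv.coe_coe, polar_sub_left, polar_sub_right, h, inv_inv]
  ring

theorem mem_adj {a : Module.End F W} (ha : a ∈ traceAlg g) (x y : W) : polar QW (a x) y = polar QW x (a y) := by
  have h : ∀ (k : orthGroup QW) a b, polar QW (k.1 a) b = polar QW a ((k⁻¹).1 b) := fun k a b => by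
    have := polar_isom k a ((k⁻¹).1 b)
    rwa [inv_apply] at this
  induction ha using Algebra.adjoin_induction generalizing x y with
  | mem a ha =>
    rw [Set.mem_singleton_iff.1 ha]
    simp only [traceEnd, LinearMap.add_apply, LinearEquiv.coe_coe, polar_add_left, polar_add_right, h, inv_inv]
    ring
  | algebraMap c => simp [Algebra.algebraMap_eq_smul_one, polar_smul_l', polar_smul_r']
  | add a b _ _ h1 h2 => simp [polar_add_left, polar_add_right, h1, h2]
  | mul a b ha' hb' h1 h2 =>
    have hc : a * b = b * a := (Algebra.commute_of_mem_adjoin_singleton_of_commute hb'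
      (Algebra.commute_of_mem_adjoin_self ha').symm).eq
    show polar QW (a (b x)) y = polar QW x ((a * b) y)
    rw [h1, h2, hc]; rfl

theorem g_commute_trace : Commute (g.1 : W →ₗ[F] W) (traceEnd g) := by
  refine LinearMap.ext fun x => ?_
  show g.1 (g.1 x + (g⁻¹).1 x) = g.1 (g.1 x) + (g⁻¹).1 (g.1 x)
  rw [map_add]
  congr 1
  exact (g.1.apply_symm_apply x).trans (g.1.symm_apply_apply x).symm

theorem mem_commute {a : Module.End F W} (ha : a ∈ traceAlg g) : Commute (g.1 : W →ₗ[F] W) a :=
  (Algebra.commute_of_mem_adjoin_singleton_of_commute ha (g_commute_trace g))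

theorem mem_commute_skew {a : Module.End F W} (ha : a ∈ traceAlg g) : Commute (skewEnd g) a := by
  refine Algebra.commute_of_mem_adjoin_singleton_of_commute ha ?_
  refine LinearMap.ext fun x => ?_
  show g.1 (g.1 x + (g⁻¹).1 x) - (g⁻¹).1 (g.1 x + (g⁻¹).1 x) =
    g.1 (g.1 x - (g⁻¹).1 x) + (g⁻¹).1 (g.1 x - (g⁻¹).1 x)
  rw [map_add, map_add, map_sub, map_sub]
  have e1 : g.1 ((g⁻¹).1 x) = x := g.1.apply_symm_apply x
  have e2 : (g⁻¹).1 (g.1 x) = x := g.1.symm_apply_apply x
  rw [e1, e2]; abel

theorem skew_sq : skewEnd g * skewEnd g = traceEnd g * traceEnd g - algebraMap F (Module.End F W) 4 := by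
  refine LinearMap.ext fun x => ?_
  have e1 : g.1 ((g⁻¹).1 x) = x := g.1.apply_symm_apply x
  have e2 : (g⁻¹).1 (g.1 x) = x := g.1.symm_apply_apply x
  show g.1 (g.1 x - (g⁻¹).1 x) - (g⁻¹).1 (g.1 x - (g⁻¹).1 x) =
    (g.1 (g.1 x + (g⁻¹).1 x) + (g⁻¹).1 (g.1 x + (g⁻¹).1 x)) - (4 : F) • x
  rw [map_add, map_add, map_sub, map_sub, e1, e2]
  match_scalars <;> ring

include hr hgr hfix in
theorem skew_injective : Function.Injective (skewEnd g) := by
  rw [injective_iff_map_eq_zero]
  intro x hx
  apply hfix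
  have h1 : g.1 x = (g⁻¹).1 x := sub_eq_zero.1 hx
  have h2 : (g ^ 2).1 x = x := by
    rw [pow_two]
    show g.1 (g.1 x) = x
    rw [h1]; exact g.1.apply_symm_apply x
  have hk : ∀ k : ℕ, ((g ^ 2) ^ k).1 x = x := fun k => by
    induction k with
    | zero => rfl
    | succ k ih =>
      rw [pow_succ']
      show (g ^ 2).1 (((g ^ 2) ^ k).1 x) = x
      rw [ih, h2]
  obtain ⟨k, rfl⟩ := hr
  have h3 : (g ^ (2 * k + 1)).1 x = x := by rw [hgr]; rfl
  rw [pow_succ', pow_mul] at h3
  calc g.1 x = g.1 (((g ^ 2) ^ k).1 x) := by rw [hk]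
    _ = x := h3

variable [Fintype F]

include hrF hgr in
theorem mem_frobenius [Nontrivial W] : ∃ Qp : ℕ, 1 < Qp ∧ ∀ a ∈ traceAlg g, a ^ Qp = a := by
  classical
  obtain ⟨p, _⟩ := CharP.exists F
  haveI hp : Fact p.Prime := ⟨CharP.char_is_prime F p⟩
  haveI : CharP (Module.End F W) p := charP_of_injective_algebraMap (algebraMap F (Module.End F W)).injective p
  haveI : ExpChar (Module.End F W) p := ExpChar.prime hp.out
  obtain ⟨f, -, hf⟩ := FiniteField.card F p
  have hr0 : r ≠ 0 := fun h => hrF (by simp [h])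
  have hcop : (Fintype.card F).Coprime r := by
    rw [hf]
    refine Nat.Coprime.pow_left _ ((hp.out.coprime_iff_not_dvd).2 fun h => hrF ?_)
    exact (CharP.cast_eq_zero_iff F p r).2 h
  set k := Nat.totient r
  have hk : 0 < k := Nat.totient_pos.2 (Nat.pos_of_ne_zero hr0)
  refine ⟨Fintype.card F ^ k, Nat.one_lt_pow hk.ne' Fintype.one_lt_card, fun a ha => ?_⟩
  have hmod : Fintype.card F ^ k % r = 1 % r := Nat.ModEq.pow_totient hcop
  induction ha using Algebra.adjoin_induction with
  | mem a ha =>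
    rw [Set.mem_singleton_iff.1 ha, traceEnd, hf, ← pow_mul]
    rw [add_pow_expChar_pow_of_commute]
    · have key : ∀ z : orthGroup QW, z ^ r = 1 →
          ((z.1 : W →ₗ[F] W) : Module.End F W) ^ (p ^ ((f : ℕ) * k)) = (z.1 : W →ₗ[F] W) := by
        intro z hz
        have e : ∀ m : ℕ, ((z.1 : W →ₗ[F] W) : Module.End F W) ^ m = ((z ^ m).1 : W →ₗ[F] W) := by
          intro m
          induction m with
          | zero => rfl
          | succ m ih => rw [pow_succ', pow_succ', ih]; rfl
        rw [e, pow_mul, ← hf, ← Nat.mod_add_div (Fintype.card F ^ k) r, hmod, pow_add, pow_mul z r, hz, one_pow,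
          mul_one]
        rcases eq_or_ne r 1 with rfl | h1
        · rw [pow_one] at hz; simp [hz]
        · rw [Nat.mod_eq_of_lt (show 1 < r by omega), pow_one]
      rw [key g hgr, key g⁻¹ (by rw [inv_pow, hgr, inv_one])]
    · refine LinearMap.ext fun x => ?_
      exact (g.1.apply_symm_apply x).trans (g.1.symm_apply_apply x).symm
  | algebraMap c => rw [← map_pow, FiniteField.pow_card_pow]
  | add a b ha' hb' h1 h2 =>
    rw [hf, ← pow_mul, add_pow_expChar_pow_of_commute, pow_mul, ← hf, h1, h2]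
    exact Algebra.commute_of_mem_adjoin_singleton_of_commute hb' (Algebra.commute_of_mem_adjoin_self ha').symm
  | mul a b ha' hb' h1 h2 =>
    rw [Commute.mul_pow (Algebra.commute_of_mem_adjoin_singleton_of_commute hb'
      (Algebra.commute_of_mem_adjoin_self ha').symm), h1, h2]

noncomputable instance traceAlgCommRing : CommRing (traceAlg g) :=
  { (inferInstance : Ring (traceAlg g)) with
    mul_comm := fun a b => Subtype.ext
      (Algebra.commute_of_mem_adjoin_singleton_of_commute b.2 (Algebra.commute_of_mem_adjoin_self a.2).symm).eq }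

/-- Common data: reducedness and the discriminant. -/
theorem traceAlg_facts [Nontrivial W] (hr : Odd r) (hrF : (r : F) ≠ 0) (hgr : g ^ r = 1)
    (hfix : ∀ x, g.1 x = x → x = 0) :
    IsReduced (traceAlg g) ∧ Finite (traceAlg g) ∧ ∃ d : traceAlg g, IsUnit d ∧
      (d : Module.End F W) = skewEnd g * skewEnd g := by
  haveI : Finite W := Module.finite_of_finite F
  haveI : Finite (Module.End F W) := Module.finite_of_finite F
  obtain ⟨Qp, hQp, hfr⟩ := mem_frobenius g hrF hgr
  refine ⟨⟨fun a ⟨m, hm⟩ => ?_⟩, inferInstance, ?_⟩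
  · have hit : ∀ i : ℕ, a ^ (Qp ^ i) = a := fun i => by
      induction i with
      | zero => simp
      | succ i ih => rw [pow_succ, pow_mul, ih]; exact Subtype.ext (hfr _ a.2)
    rw [← hit m]
    exact pow_eq_zero_of_le (Nat.lt_pow_self hQp).le hm
  · have hmem : skewEnd g * skewEnd g ∈ traceAlg g := by
      rw [skew_sq]
      exact sub_mem (mul_mem (Algebra.self_mem_adjoin_singleton _ _) (Algebra.self_mem_adjoin_singleton _ _))
        (Subalgebra.algebraMap_mem _ _)
    refine ⟨⟨_, hmem⟩, ?_, rfl⟩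
    have hinj : Function.Injective fun a : traceAlg g => (⟨_, hmem⟩ : traceAlg g) * a := fun a b h => by
      refine Subtype.ext (LinearMap.ext fun x => ?_)
      have h' := LinearMap.congr_fun (congrArg Subtype.val h) x
      exact skew_injective g hr hgr hfix (skew_injective g hr hgr hfix h')
    obtain ⟨b, hb⟩ := Finite.surjective_of_injective hinj 1
    exact IsUnit.of_mul_eq_one b hb

theorem polar_ext_sq {x y : W} {ν : F} (h2 : (2 : F) ≠ 0) (h : polar QW x x = ν * polar QW y y) :
    QW x = ν * QW y := by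
  rw [polar_self', polar_self'] at h
  exact mul_left_cancel₀ h2 (by linear_combination h)

include hQW h2 hr hrF hgr hfix in
/-- A similitude of every multiplier commuting with `g`, with determinant a power of it. -/
theorem fixFree_similitude {ν : F} (hν : ν ≠ 0) :
    ∃ u : W ≃ₗ[F] W, IsSimil QW u ν ∧ (∀ x, u (g.1 x) = g.1 (u x)) ∧
      ∀ n, finrank F W = 2 * n → LinearMap.det (u : W →ₗ[F] W) = ν ^ n := by
  classical
  rcases subsingleton_or_nontrivial W with hW | hW
  · refine ⟨LinearEquiv.refl F W, fun x => by rw [Subsingleton.elim x 0]; simp, fun x => rfl, fun n hn => ?_⟩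
    rw [Module.finrank_zero_of_subsingleton] at hn
    rw [show n = 0 by omega, pow_zero]
    exact LinearMap.det_id
  obtain ⟨hred, hfin, d, hd, hdv⟩ := traceAlg_facts g hr hrF hgr hfix
  haveI : IsArtinianRing (traceAlg g) := inferInstance
  -- the norm equation
  have hsol : ∀ I : MaximalSpectrum (traceAlg g), ∃ p : (traceAlg g ⧸ I.asIdeal) × (traceAlg g ⧸ I.asIdeal),
      p.1 ^ 2 - Ideal.Quotient.mk I.asIdeal d * p.2 ^ 2 = Ideal.Quotient.mk I.asIdeal (algebraMap F _ ν) := by
    intro I
    haveI := I.isMaximal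
    letI := Ideal.Quotient.field I.asIdeal
    haveI : Finite (traceAlg g ⧸ I.asIdeal) := Finite.of_surjective _ Ideal.Quotient.mk_surjective
    letI := Fintype.ofFinite (traceAlg g ⧸ I.asIdeal)
    refine exists_qnorm ?_ ((hd.map (Ideal.Quotient.mk I.asIdeal)).ne_zero) _
    rw [← map_ofNat (algebraMap F (traceAlg g ⧸ I.asIdeal)) 2]
    exact (map_ne_zero _).2 h2
  choose p hp using hsol
  let E := IsArtinianRing.equivPi (traceAlg g)
  set x : traceAlg g := E.symm fun I => (p I).1
  set y : traceAlg g := E.symm fun I => (p I).2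
  have hxy : x ^ 2 - d * y ^ 2 = algebraMap F _ ν := by
    refine E.injective (funext fun I => ?_)
    have hx : Ideal.Quotient.mk I.asIdeal x = (p I).1 :=
      (IsArtinianRing.equivPi_apply _ x I).symm.trans (congrFun (E.apply_symm_apply fun J => (p J).1) I)
    have hy : Ideal.Quotient.mk I.asIdeal y = (p I).2 :=
      (IsArtinianRing.equivPi_apply _ y I).symm.trans (congrFun (E.apply_symm_apply fun J => (p J).2) I)
    rw [IsArtinianRing.equivPi_apply, IsArtinianRing.equivPi_apply, map_sub, map_mul, map_pow, map_pow, hx, hy]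
    exact hp I
  set θ := skewEnd g
  set u₀ : Module.End F W := x.1 + θ * y.1
  have hxθ : θ * x.1 = x.1 * θ := (mem_commute_skew g x.2).eq
  have hyθ : θ * y.1 = y.1 * θ := (mem_commute_skew g y.2).eq
  have hxy' : x.1 * y.1 = y.1 * x.1 := congrArg Subtype.val (mul_comm x y)
  have hnorm : (x.1 - θ * y.1) * u₀ = algebraMap F _ ν := by
    have h := congrArg Subtype.val hxy
    simp only [Subalgebra.coe_sub, Subalgebra.coe_mul, SubmonoidClass.coe_pow, Subalgebra.coe_algebraMap, hdv] at h
    rw [← h, pow_two, pow_two]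
    simp only [u₀, sub_mul, mul_add, mul_assoc]
    rw [← mul_assoc x.1 θ y.1, ← hxθ, mul_assoc θ x.1 y.1, hxy', ← mul_assoc y.1 θ y.1, ← hyθ, mul_assoc θ y.1 y.1]
    abel
  have hadj : ∀ a b, polar QW (u₀ a) b = polar QW a ((x.1 - θ * y.1) b) := fun a b => by
    simp only [u₀, LinearMap.add_apply, LinearMap.sub_apply, Module.End.mul_apply, polar_add_left, polar_sub_right]
    rw [mem_adj g x.2, skew_adj, mem_adj g y.2]
    have := LinearMap.congr_fun hyθ b
    rw [Module.End.mul_apply, Module.End.mul_apply] at this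
    rw [← this]; ring
  have hpol : ∀ a b, polar QW (u₀ a) (u₀ b) = ν * polar QW a b := fun a b => by
    rw [hadj, ← Module.End.mul_apply, hnorm, Module.algebraMap_end_apply, polar_smul_r']
  have hinj : Function.Injective u₀ := fun a b h => by
    have := congrArg (x.1 - θ * y.1) h
    rw [← Module.End.mul_apply, ← Module.End.mul_apply, hnorm, Module.algebraMap_end_apply,
      Module.algebraMap_end_apply] at this
    exact smul_right_injective W hν this
  let u := LinearEquiv.ofInjectiveEndo u₀ hinj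
  have huv : ∀ a, u a = u₀ a := fun a => rfl
  have huθ : θ * u₀ = u₀ * θ := by
    simp only [u₀, mul_add, add_mul, hxθ, mul_assoc]
    rw [← hyθ]
  refine ⟨u, fun a => ?_, fun a => ?_, fun n hn => ?_⟩
  · exact polar_ext_sq h2 (hpol a a)
  · rw [huv, huv]
    have hc : Commute (g.1 : W →ₗ[F] W) u₀ := by
      refine (mem_commute g x.2).add_right ((Commute.sub_right (Commute.refl _) ?_).mul_right (mem_commute g y.2))
      refine LinearMap.ext fun z => ?_
      exact (g.1.apply_symm_apply z).trans (g.1.symm_apply_apply z).symm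
    exact (LinearMap.congr_fun hc.eq a).symm
  · let B : W →ₗ[F] W →ₗ[F] F := (QuadraticMap.polarBilin QW).comp θ
    have hA : B.IsAlt := fun a => by
      show polar QW (θ a) a = 0
      have h := skew_adj g a a
      rw [polar_comm QW a (skewEnd g a)] at h
      exact (mul_eq_zero.1 (show (2 : F) * polar QW (θ a) a = 0 by linear_combination h)).resolve_left h2
    have hB : B.Nondegenerate := by
      refine ⟨fun a ha => skew_injective g hr hgr hfix ?_, fun b hb => ?_⟩
      · rw [map_zero]
        exact eq_zero_of_polar hQW fun b => ha b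
      · refine eq_zero_of_polar hQW fun a => ?_
        obtain ⟨c, rfl⟩ := (LinearMap.injective_iff_surjective.1 (skew_injective g hr hgr hfix)) a
        rw [polar_comm]; exact hb c
    refine det_of_alt_similitude hA hB hν (fun a b => ?_) hn
    show polar QW (θ (u₀ a)) (u₀ b) = ν * polar QW (θ a) b
    rw [← Module.End.mul_apply, huθ, Module.End.mul_apply, hpol]

include hQW h2 hr hrF hgr hfix in
/-- A special isometry outside the commutator subgroup of an overspace, commuting with `g`. -/
theorem fixFree_twist [Nontrivial W] {V : Type*} [AddCommGroup V] [Module F V] [FiniteDimensional F V]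
    {Q : QuadraticForm F V} (hQ : (QuadraticMap.polarBilin Q).Nondegenerate) (i : W →ₗ[F] V)
    (hi : ∀ a, Q (i a) = QW a) (G : orthGroup Q) (hG : ∀ a, G.1 (i a) = i (g.1 a)) :
    ∃ v : orthGroup Q, LinearMap.det (v.1 : V →ₗ[F] V) = 1 ∧ v ∉ commutator (orthGroup Q) ∧ v * G = G * v := by
  classical
  haveI : Finite V := Module.finite_of_finite F
  obtain ⟨hred, hfin, d, hd, hdv⟩ := traceAlg_facts g hr hrF hgr hfix
  haveI : IsArtinianRing (traceAlg g) := inferInstance
  haveI : Nontrivial (traceAlg g) := inferInstance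
  obtain ⟨I, hI⟩ := Ideal.exists_maximal (traceAlg g)
  let J : MaximalSpectrum (traceAlg g) := ⟨I, hI⟩
  letI := Ideal.Quotient.field I
  haveI : Finite (traceAlg g ⧸ I) := Finite.of_surjective _ Ideal.Quotient.mk_surjective
  letI : Fintype (traceAlg g ⧸ I) := Fintype.ofFinite _
  let E := IsArtinianRing.equivPi (traceAlg g)
  set e : traceAlg g := E.symm (Pi.single J 1)
  have hEe : E e = Pi.single J 1 := E.apply_symm_apply _
  have hee : e * e = e := E.injective (by rw [map_mul, hEe, ← Pi.single_mul, mul_one])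
  have hIe : ∀ a ∈ I, a * e = 0 := fun a ha => E.injective (by
    rw [map_mul, hEe, map_zero]
    refine funext fun L => ?_
    rw [Pi.mul_apply, IsArtinianRing.equivPi_apply]
    rcases eq_or_ne L J with rfl | hL
    · rw [show (Ideal.Quotient.mk J.asIdeal a) = 0 from Ideal.Quotient.eq_zero_iff_mem.2 ha, zero_mul]; rfl
    · rw [Pi.single_eq_of_ne hL, mul_zero]; rfl)
  have he0 : e ≠ 0 := fun h => by
    have := congrFun hEe J
    rw [h, map_zero, Pi.single_eq_same] at this
    exact zero_ne_one this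
  -- a vector with nonzero functional
  obtain ⟨w₀, c₀, hw₀⟩ : ∃ (w : W) (c : traceAlg g), polar QW (c.1 (e.1 w)) (e.1 w) ≠ 0 := by
    by_contra h
    push Not at h
    refine he0 (Subtype.ext (LinearMap.ext fun a => eq_zero_of_polar hQW fun b => ?_))
    have h1 := h (a + b) 1
    have ha := h a 1
    have hb := h b 1
    simp only [OneMemClass.coe_one, Module.End.one_apply, map_add, polar_add_left, polar_add_right] at h1 ha hb
    rw [ha, hb, polar_comm QW (e.1 b) (e.1 a)] at h1
    have h3 : polar QW (e.1 a) (e.1 b) = 0 :=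
      (mul_eq_zero.1 (show (2 : F) * polar QW (e.1 a) (e.1 b) = 0 by linear_combination h1)).resolve_left h2
    rwa [← mem_adj g e.2, ← Module.End.mul_apply, show e.1 * e.1 = e.1 from congrArg Subtype.val hee] at h3
  set w' : W := e.1 w₀
  have hkill : ∀ a ∈ I, a.1 w' = 0 := fun a ha => by
    show (a.1 * e.1) w₀ = 0
    rw [show a.1 * e.1 = 0 from congrArg Subtype.val (hIe a ha)]; rfl
  let L₀ : traceAlg g →ₗ[F] W :=
    { toFun := fun a => a.1 w'
      map_add' := fun a b => rfl
      map_smul' := fun c a => rfl }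
  let L : (traceAlg g ⧸ I) →ₗ[F] W :=
    { toFun := Quotient.lift (fun a => L₀ a) (fun a b hab => by
        have hab' : a - b ∈ I := (Submodule.quotientRel_def I).1 hab
        have := hkill _ hab'
        exact sub_eq_zero.1 this)
      map_add' := fun a b => by
        obtain ⟨a, rfl⟩ := Ideal.Quotient.mk_surjective a
        obtain ⟨b, rfl⟩ := Ideal.Quotient.mk_surjective b
        rfl
      map_smul' := fun c a => by
        obtain ⟨a, rfl⟩ := Ideal.Quotient.mk_surjective a
        rfl }
  have hL : ∀ a : traceAlg g, L (Ideal.Quotient.mk I a) = a.1 w' := fun a => rfl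
  let φ : (traceAlg g ⧸ I) →ₗ[F] F := ((2 : F)⁻¹ • ((QuadraticMap.polarBilin QW).flip w')).comp L
  have hφ : ∀ a : traceAlg g, φ (Ideal.Quotient.mk I a) = 2⁻¹ * polar QW (a.1 w') w' := fun a => rfl
  have hφ0 : φ ≠ 0 := fun h => hw₀ (by
    have := hφ c₀
    rw [h, LinearMap.zero_apply, eq_comm, mul_eq_zero] at this
    exact this.resolve_left (inv_ne_zero h2))
  set θ := skewEnd g
  let j : (traceAlg g ⧸ I) × (traceAlg g ⧸ I) →ₗ[F] V := i.comp (L.coprod ((θ : W →ₗ[F] W).comp L))
  have hjv : ∀ a b : traceAlg g, j (Ideal.Quotient.mk I a, Ideal.Quotient.mk I b) = i (a.1 w' + θ (b.1 w')) :=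
    fun a b => by simp only [j, LinearMap.comp_apply, LinearMap.coprod_apply, hL]
  have hθc : ∀ (a : traceAlg g) (z : W), θ (a.1 z) = a.1 (θ z) := fun a z =>
    LinearMap.congr_fun (mem_commute_skew g a.2).eq z
  have hcross : ∀ c : traceAlg g, polar QW (c.1 w') (θ w') = 0 := fun c => by
    have h1 := skew_adj g (c.1 w') w'
    rw [hθc, mem_adj g c.2, polar_comm QW (θ w') (c.1 w')] at h1
    exact (mul_eq_zero.1 (show (2 : F) * polar QW (c.1 w') (θ w') = 0 by linear_combination h1)).resolve_left h2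
  have hjQ : ∀ p, Q (j p) = φ (qnorm (Ideal.Quotient.mk I d) p) := by
    intro p
    obtain ⟨a', b'⟩ := p
    obtain ⟨a, rfl⟩ := Ideal.Quotient.mk_surjective a'
    obtain ⟨b, rfl⟩ := Ideal.Quotient.mk_surjective b'
    rw [hjv, hi]
    have hq : qnorm (Ideal.Quotient.mk I d) (Ideal.Quotient.mk I a, Ideal.Quotient.mk I b) =
        Ideal.Quotient.mk I (a * a - d * (b * b)) := by
      simp only [qnorm, map_sub, map_mul, pow_two]
    rw [hq, hφ]
    have h1 : polar QW (a.1 w') (θ (b.1 w')) = 0 := by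
      rw [hθc, ← mem_adj g b.2, ← Module.End.mul_apply, ← Subalgebra.coe_mul]
      exact hcross (b * a)
    have h2' : polar QW ((a * a - d * (b * b)).1 w') w' =
        polar QW (a.1 w') (a.1 w') + polar QW (θ (b.1 w')) (θ (b.1 w')) := by
      have hba : d * (b * b) = b * (d * b) := by ring
      have hdθ : θ (θ (b.1 w')) = d.1 (b.1 w') := (LinearMap.congr_fun hdv _).symm
      rw [hba, Subalgebra.coe_sub, LinearMap.sub_apply, polar_sub_left, Subalgebra.coe_mul, Subalgebra.coe_mul,
        Subalgebra.coe_mul, Module.End.mul_apply, Module.End.mul_apply, Module.End.mul_apply,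
        mem_adj g a.2 (a.1 w') w', mem_adj g b.2 (d.1 (b.1 w')) w', skew_adj g (b.1 w') (θ (b.1 w')), hdθ,
        polar_comm QW (d.1 (b.1 w')) (b.1 w')]
      ring
    rw [h2', quad_add', h1, polar_self', polar_self']
    field_simp
    ring
  have h2K : (2 : F) ≠ 0 := h2
  obtain ⟨v, w, hdet, hnc, hvj, hvfix, hdec⟩ := exists_torus_twist Q hQ h2K
    (hd.map (Ideal.Quotient.mk I)).ne_zero hφ0 j hjQ
  refine ⟨v, hdet, hnc, ?_⟩
  set μ : (traceAlg g ⧸ I) × (traceAlg g ⧸ I) :=
    (Ideal.Quotient.mk I ((2 : F)⁻¹ • (⟨traceEnd g, Algebra.self_mem_adjoin_singleton _ _⟩ : traceAlg g)),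
      Ideal.Quotient.mk I ((2 : F)⁻¹ • 1))
  have hGj : ∀ p, G.1 (j p) = j (qmul (Ideal.Quotient.mk I d) μ p) := by
    intro p
    obtain ⟨a', b'⟩ := p
    obtain ⟨a, rfl⟩ := Ideal.Quotient.mk_surjective a'
    obtain ⟨b, rfl⟩ := Ideal.Quotient.mk_surjective b'
    rw [hjv, hG]
    simp only [μ, qmul, ← map_mul, ← map_add]
    rw [hjv]
    congr 1
    have hg : ∀ z, g.1 z = (2 : F)⁻¹ • (traceEnd g z + θ z) := fun z => by
      simp only [θ, traceEnd, skewEnd, LinearMap.add_apply, LinearMap.sub_apply, LinearEquiv.coe_coe]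
      rw [add_add_sub_cancel, ← two_smul F, inv_smul_smul₀ h2]
    have hdθ : ∀ z, θ (θ z) = d.1 z := fun z => (LinearMap.congr_fun hdv z).symm
    have hts : ∀ z, θ (traceEnd g z) = traceEnd g (θ z) := fun z => hθc ⟨_, Algebra.self_mem_adjoin_singleton _ _⟩ z
    simp only [hg, map_add, Subalgebra.coe_add, Subalgebra.coe_mul, Subalgebra.coe_smul, OneMemClass.coe_one,
      LinearMap.add_apply, LinearMap.smul_apply, Module.End.mul_apply, Module.End.one_apply, map_smul, smul_add,
      hdθ, hts]
    abel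
  have hμ : qnorm (Ideal.Quotient.mk I d) μ = 1 := by
    have h4 : ((2 : F)⁻¹ • (⟨traceEnd g, Algebra.self_mem_adjoin_singleton _ _⟩ : traceAlg g)) ^ 2 -
        d * ((2 : F)⁻¹ • 1) ^ 2 = 1 := by
      refine Subtype.ext ?_
      simp only [pow_two, Subalgebra.coe_sub, Subalgebra.coe_mul, Subalgebra.coe_smul, OneMemClass.coe_one, hdv, θ,
        skew_sq, smul_mul_assoc, mul_smul_comm, mul_one, smul_smul, ← smul_sub, sub_sub_cancel]
      rw [Algebra.algebraMap_eq_smul_one, smul_smul, show (2 : F)⁻¹ * 2⁻¹ * 4 = 1 by field_simp; ring, one_smul]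
    simp only [μ, qnorm, ← map_pow, ← map_mul, ← map_sub, h4, map_one]
  refine Subtype.ext (LinearEquiv.ext fun z => ?_)
  show v.1 (G.1 z) = G.1 (v.1 z)
  obtain ⟨p, hp⟩ := hdec z
  have hperp : ∀ q, polar Q (G.1 (z - j p)) (j q) = 0 := by
    intro q
    have hq : qmul (Ideal.Quotient.mk I d) μ (qmul (Ideal.Quotient.mk I d) (μ.1, -μ.2) q) = q := by
      rw [← qmul_assoc]
      simp only [qnorm] at hμ
      refine Prod.ext ?_ ?_ <;> simp only [qmul]
      · linear_combination q.1 * hμ
      · linear_combination q.2 * hμ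
    rw [← hq, ← hGj, polar_isom]
    exact hp _
  rw [← sub_add_cancel z (j p), map_add G.1, map_add v.1, map_add v.1, hvfix _ hp, hvfix _ hperp, map_add G.1]
  congr 1
  rw [hGj, hvj, hvj, hGj, ← qmul_assoc, ← qmul_assoc]
  congr 2
  refine Prod.ext ?_ ?_ <;> simp only [qmul] <;> ring

end FixFree

/-- An orthogonal basis gives a similitude of every multiplier on a nondegenerate space of even dimension. -/
theorem exists_similitude_even [Fintype F] {U : Type*} [AddCommGroup U] [Module F U] [FiniteDimensional F U]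
    {QU : QuadraticForm F U} (hQU : (QuadraticMap.polarBilin QU).Nondegenerate) (h2 : (2 : F) ≠ 0) {k : ℕ}
    (hk : finrank F U = 2 * k) {ν : F} (hν : ν ≠ 0) : ∃ u : U ≃ₗ[F] U, IsSimil QU u ν := by
  classical
  haveI : Invertible (2 : F) := invertibleOfNonzero h2
  obtain ⟨b₀, hb₀⟩ := LinearMap.BilinForm.exists_orthogonal_basis
    (B := QuadraticMap.polarBilin QU) ⟨fun x y => (polar_comm QU x y)⟩
  let b : Basis (Fin k ⊕ Fin k) F U := b₀.reindex ((finCongr (by rw [hk, two_mul])).trans finSumFinEquiv.symm)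
  have hb : ∀ i j, i ≠ j → polar QU (b i) (b j) = 0 := fun i j hij => by
    simp only [b, Basis.reindex_apply]
    exact hb₀ fun h => hij (by simpa using h)
  have hne : ∀ i, QU (b i) ≠ 0 := fun i hi => by
    refine b.ne_zero i (eq_zero_of_polar hQU fun w => ?_)
    have : (QuadraticMap.polarBilin QU) (b i) = 0 := b.ext fun j => by
      rcases eq_or_ne i j with rfl | hij
      · show polar QU (b i) (b i) = 0
        rw [polar_self', hi, mul_zero]
      · exact hb i j hij
    exact LinearMap.congr_fun this w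
  have hsol : ∀ i : Fin k, ∃ p : F × F, qnorm (-(QU (b (.inr i)) / QU (b (.inl i)))) p = ν := fun i =>
    exists_qnorm h2 (neg_ne_zero.2 (div_ne_zero (hne _) (hne _))) ν
  choose p hp using hsol
  let img : Fin k ⊕ Fin k → U := Sum.elim (fun i => (p i).1 • b (.inl i) + (p i).2 • b (.inr i))
    (fun i => (-(QU (b (.inr i)) / QU (b (.inl i))) * (p i).2) • b (.inl i) + (p i).1 • b (.inr i))
  let f : U →ₗ[F] U := b.constr F img
  have hf : ∀ i, f (b i) = img i := fun i => b.constr_basis F img i
  have hpol : (QuadraticMap.polarBilin QU).compl₁₂ f f = ν • QuadraticMap.polarBilin QU := by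
    refine LinearMap.ext_basis b b fun i j => ?_
    show polar QU (f (b i)) (f (b j)) = ν * polar QU (b i) (b j)
    rw [hf, hf]
    rcases i with i | i <;> rcases j with j | j <;>
      simp only [img, Sum.elim_inl, Sum.elim_inr, polar_add_left, polar_add_right, polar_smul_l', polar_smul_r']
    all_goals
      rcases eq_or_ne i j with rfl | hij
      · have h := hp i
        simp only [qnorm] at h
        have h1 := hne (.inl i)
        rw [polar_self', polar_self', hb (.inl i) (.inr i) Sum.inl_ne_inr, hb (.inr i) (.inl i) Sum.inr_ne_inl]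
        rw [← h]
        field_simp
        ring
      · simp [hb _ _ (fun h => hij (Sum.inl.inj h)), hb _ _ (fun h => hij (Sum.inr.inj h)), hb _ _ Sum.inl_ne_inr,
          hb _ _ Sum.inr_ne_inl]
  have hsim : ∀ x, QU (f x) = ν * QU x := fun x => polar_ext_sq h2 (LinearMap.congr_fun₂ hpol x x)
  have hinj : Function.Injective f := by
    rw [injective_iff_map_eq_zero]
    intro x hx
    refine eq_zero_of_polar hQU fun y => ?_
    have := LinearMap.congr_fun₂ hpol x y
    simp only [LinearMap.compl₁₂_apply, LinearMap.smul_apply, smul_eq_mul, hx, map_zero, LinearMap.zero_apply] at this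
    exact (mul_eq_zero.1 this.symm).resolve_left hν
  exact ⟨LinearEquiv.ofInjectiveEndo f hinj, hsim⟩

variable [Fintype F] {V : Type*} [AddCommGroup V] [Module F V] [FiniteDimensional F V] {Q : QuadraticForm F V}

/-- The centraliser of an element of odd order prime to the characteristic. -/
theorem exists_centralizer (hQ : (QuadraticMap.polarBilin Q).Nondegenerate) (h2 : (2 : F) ≠ 0) (g : orthGroup Q) {r : ℕ}
    (hr : Odd r) (hrF : (r : F) ≠ 0) (hgr : g ^ r = 1) (hg1 : g ≠ 1) {n : ℕ} (hn : finrank F V = 2 * n) :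
    (∃ v : orthGroup Q, LinearMap.det (v.1 : V →ₗ[F] V) = 1 ∧ v ∉ commutator (orthGroup Q) ∧ v * g = g * v) ∧
      ∀ ν : F, ν ≠ 0 → ∃ u : V ≃ₗ[F] V, IsSimil Q u ν ∧ (∀ x, u (g.1 x) = g.1 (u x)) ∧
        LinearMap.det (u : V →ₗ[F] V) = ν ^ n := by
  classical
  set f : V →ₗ[F] V := (g.1 : V →ₗ[F] V) - LinearMap.id
  set W := LinearMap.range f
  set U := LinearMap.ker f
  have hU : ∀ x, x ∈ U ↔ g.1 x = x := fun x => by
    rw [LinearMap.mem_ker, LinearMap.sub_apply, sub_eq_zero]; rfl
  have hdisj : Disjoint U W := by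
    rw [Submodule.disjoint_def]
    rintro x hx ⟨w, rfl⟩
    have h1 : ∀ i : ℕ, (g ^ i).1 w = w + (i : F) • f w := by
      intro i
      induction i with
      | zero => simp
      | succ i ih =>
        rw [pow_succ']
        show g.1 ((g ^ i).1 w) = _
        rw [ih, map_add, map_smul, (hU _).1 hx]
        show g.1 w + _ = w + _
        rw [Nat.cast_succ, add_smul, one_smul, show f w = g.1 w - w from rfl]
        abel
    have h := h1 r
    rw [hgr] at h
    exact (smul_eq_zero.1 (add_eq_left.1 h.symm)).resolve_left hrF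
  have hcompl : IsCompl U W :=
    ⟨hdisj, codisjoint_iff.2 (Submodule.eq_top_of_disjoint _ _
      (by rw [add_comm]; exact f.finrank_range_add_finrank_ker.ge) hdisj)⟩
  have horth : ∀ x ∈ U, ∀ y ∈ W, polar Q x y = 0 := by
    rintro x hx _ ⟨w, rfl⟩
    show polar Q x (g.1 w - w) = 0
    have := polar_isom g x w
    rw [(hU x).1 hx] at this
    rw [polar_sub_right, this, sub_self]
  have hdec : ∀ x, ∃ a ∈ U, ∃ b ∈ W, a + b = x := fun x =>
    Submodule.mem_sup.1 (by rw [hcompl.sup_eq_top]; trivial)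
  have hnd : ∀ S T : Submodule F V, (∀ x, ∃ a ∈ S, ∃ b ∈ T, a + b = x) → (∀ x ∈ S, ∀ y ∈ T, polar Q x y = 0) →
      (QuadraticMap.polarBilin (Q.comp S.subtype)).Nondegenerate := by
    intro S T hd ho
    have key : ∀ a : S, (∀ b : S, polar (Q.comp S.subtype) a b = 0) → a = 0 := by
      intro a ha
      refine Subtype.ext (eq_zero_of_polar hQ fun x => ?_)
      obtain ⟨c, hc, e, he, rfl⟩ := hd x
      have := ha ⟨c, hc⟩
      simp only [polar, QuadraticMap.comp_apply, map_add, Submodule.subtype_apply] at this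
      rw [polar_add_right, ho _ a.2 _ he, add_zero]
      exact this
    exact ⟨fun a ha => key a ha, fun b hb => key b fun a => by rw [polar_comm]; exact hb a⟩
  have hWnd := hnd W U (fun x => by obtain ⟨a, ha, b, hb, e⟩ := hdec x; exact ⟨b, hb, a, ha, by rw [add_comm, e]⟩)
    (fun x hx y hy => by rw [polar_comm]; exact horth y hy x hx)
  have hUnd := hnd U W hdec horth
  have hgW : ∀ w ∈ W, g.1 w ∈ W := by
    rintro _ ⟨w, rfl⟩
    exact ⟨g.1 w, by show g.1 (g.1 w) - g.1 w = g.1 (g.1 w - w); rw [map_sub]⟩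
  obtain ⟨gW, hgW'⟩ := exists_of_preserving hWnd ((g.1 : V →ₗ[F] V).restrict hgW)
    (fun w => g.2 w)
  have hgWv : ∀ w : W, ((gW.1 w : W) : V) = g.1 w := fun w => congrArg Subtype.val (hgW' w)
  have hgWr : gW ^ r = 1 := by
    have h1 : ∀ (i : ℕ) (w : W), (((gW ^ i).1 w : W) : V) = (g ^ i).1 w := by
      intro i w
      induction i with
      | zero => rfl
      | succ i ih =>
        rw [pow_succ', pow_succ']
        show ((gW.1 ((gW ^ i).1 w) : W) : V) = g.1 ((g ^ i).1 w)
        rw [hgWv, ih]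
    exact Subtype.ext (LinearEquiv.ext fun w => Subtype.ext (by rw [h1, hgr]; rfl))
  have hfix : ∀ w : W, gW.1 w = w → w = 0 := fun w hw => Subtype.ext
    (Submodule.disjoint_def.1 hdisj w.1 ((hU _).2 (by rw [← hgWv, hw])) w.2)
  haveI hWn : Nontrivial W := by
    obtain ⟨x, hx⟩ : ∃ x, g.1 x ≠ x := by
      by_contra h; push Not at h; exact hg1 (Subtype.ext (LinearEquiv.ext h))
    exact ⟨⟨f x, x, rfl⟩, 0, fun h => hx (sub_eq_zero.1 (congrArg Subtype.val h))⟩
  refine ⟨fixFree_twist hWnd h2 gW hr hrF hgWr hfix hQ W.subtype (fun _ => rfl) g (fun w => (hgWv w).symm),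
    fun ν hν => ?_⟩
  obtain ⟨uW, huW, huWg, huWd⟩ := fixFree_similitude hWnd h2 gW hr hrF hgWr hfix hν
  -- the dimensions
  have hWe : Even (finrank F W) := by
    let B : W →ₗ[F] W →ₗ[F] F := (QuadraticMap.polarBilin (Q.comp W.subtype)).comp (skewEnd gW)
    have hA : B.IsAlt := fun a => by
      show polar (Q.comp W.subtype) (skewEnd gW a) a = 0
      have h := skew_adj gW a a
      rw [polar_comm _ a (skewEnd gW a)] at h
      exact (mul_eq_zero.1 (show (2 : F) * polar (Q.comp W.subtype) (skewEnd gW a) a = 0 by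
        linear_combination h)).resolve_left h2
    have hi := skew_injective gW hr hgWr hfix
    have hB : B.Nondegenerate := by
      refine ⟨fun a ha => hi (by rw [map_zero]; exact eq_zero_of_polar hWnd fun b => ha b), fun b hb => ?_⟩
      refine eq_zero_of_polar hWnd fun a => ?_
      obtain ⟨c, rfl⟩ := (LinearMap.injective_iff_surjective.1 hi) a
      rw [polar_comm]; exact hb c
    obtain ⟨m, b, -⟩ := CfsgLib.Classical.exists_sympBasis hA hB
    rw [Module.finrank_eq_card_basis b]
    exact ⟨m, by simp⟩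
  obtain ⟨l, hl⟩ := hWe
  have hsum := Submodule.finrank_add_eq_of_isCompl hcompl
  obtain ⟨uU, huU⟩ := exists_similitude_even hUnd h2 (k := n - l) (by omega) hν
  let e := Submodule.prodEquivOfIsCompl U W hcompl
  let u : V ≃ₗ[F] V := e.symm.trans ((LinearEquiv.prodCongr uU uW).trans e)
  have hu : ∀ (a : U) (b : W), u (a + b : V) = (uU a : V) + uW b := fun a b => by
    show e ((LinearEquiv.prodCongr uU uW) (e.symm (e (a, b)))) = _
    rw [e.symm_apply_apply]; rfl
  have husim : IsSimil Q u ν := fun x => by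
    obtain ⟨a, ha, b, hb, rfl⟩ := hdec x
    rw [hu ⟨a, ha⟩ ⟨b, hb⟩, quad_add', quad_add', horth _ (uU ⟨a, ha⟩).2 _ (uW ⟨b, hb⟩).2, horth a ha b hb,
      add_zero, add_zero, mul_add]
    exact congrArg₂ (· + ·) (huU ⟨a, ha⟩) (huW ⟨b, hb⟩)
  have hug : ∀ x, u (g.1 x) = g.1 (u x) := fun x => by
    obtain ⟨a, ha, b, hb, rfl⟩ := hdec x
    have hgb : g.1 b = ((gW.1 ⟨b, hb⟩ : W) : V) := (hgWv ⟨b, hb⟩).symm
    rw [map_add, (hU a).1 ha, hgb, hu ⟨a, ha⟩ (gW.1 ⟨b, hb⟩), hu ⟨a, ha⟩ ⟨b, hb⟩, map_add, huWg, hgWv,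
      (hU _).1 (uU ⟨a, ha⟩).2]
  have hdu : LinearMap.det (u : V →ₗ[F] V) =
      LinearMap.det (uU : U →ₗ[F] U) * LinearMap.det (uW : W →ₗ[F] W) := by
    rw [← LinearMap.det_prodMap, ← LinearMap.det_conj ((uU : U →ₗ[F] U).prodMap (uW : W →ₗ[F] W)) e]
    rfl
  -- the determinant of a similitude squared
  have hsq : LinearMap.det (u : V →ₗ[F] V) ^ 2 = (ν ^ n) ^ 2 := by
    let b := Module.finBasis F V
    have h : (QuadraticMap.polarBilin Q).compl₁₂ (u : V →ₗ[F] V) (u : V →ₗ[F] V) = ν • QuadraticMap.polarBilin Q :=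
      LinearMap.ext fun x => LinearMap.ext fun y => husim.polar x y
    have hd := congrArg (fun B => (LinearMap.toMatrix₂ b b B).det) h
    simp only [LinearMap.toMatrix₂_compl₁₂ b b b b, Matrix.det_mul, Matrix.det_transpose, LinearMap.det_toMatrix,
      map_smul, Matrix.det_smul, Fintype.card_fin, hn] at hd
    have hne : (LinearMap.toMatrix₂ b b (QuadraticMap.polarBilin Q)).det ≠ 0 :=
      (LinearMap.BilinForm.nondegenerate_iff_det_ne_zero b).1 hQ
    apply mul_right_cancel₀ hne
    rw [← pow_mul, mul_comm n 2]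
    linear_combination hd
  rcases sq_eq_sq_iff_eq_or_eq_neg.1 hsq with hd | hd
  · exact ⟨u, husim, hug, hd⟩
  -- adjust by a reflection fixed by `g`
  have hU0 : n - l ≠ 0 := fun h0 => by
    have hUr : finrank F U = 0 := by omega
    haveI : Subsingleton U := Module.finrank_zero_iff.1 hUr
    have h1 : LinearMap.det (uU : U →ₗ[F] U) = 1 := by
      rw [Subsingleton.elim (uU : U →ₗ[F] U) LinearMap.id]; exact LinearMap.det_id
    rw [hdu, h1, huWd n (by omega), one_mul] at hd
    exact h2 ((mul_eq_zero.1 (show (2 : F) * ν ^ n = 0 by linear_combination hd)).resolve_right (pow_ne_zero _ hν))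
  obtain ⟨a, ha⟩ : ∃ a : U, Q a.1 ≠ 0 := by
    by_contra hall
    push Not at hall
    haveI : Nontrivial U := Module.nontrivial_of_finrank_pos (R := F) (by omega)
    obtain ⟨a, ha⟩ := exists_ne (0 : U)
    refine ha (eq_zero_of_polar hUnd fun b => ?_)
    simp only [polar, QuadraticMap.comp_apply, Submodule.subtype_apply, hall, sub_self]
  have hga : g.1 a.1 = a.1 := (hU _).1 a.2
  refine ⟨u.trans (refl Q a.1).1, fun x => ?_, fun x => ?_, ?_⟩
  · show Q ((refl Q a.1).1 (u x)) = _
    rw [apply_quad, husim]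
  · show (refl Q a.1).1 (u (g.1 x)) = g.1 ((refl Q a.1).1 (u x))
    rw [hug]
    have := conj_refl Q g a.1
    rw [hga, mul_inv_eq_iff_eq_mul] at this
    exact (LinearEquiv.congr_fun (congrArg Subtype.val this) (u x)).symm
  · rw [LinearEquiv.coe_trans, LinearMap.det_comp, det_refl Q ha, hd]
    ring

end CfsgLib.Orth
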