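import Mathlib

set_option autoImplicit false
set_option linter.unusedSectionVars false

/-!
Orthogonal groups of quadratic forms with non-degenerate polar form, in every characteristic:
reflections (orthogonal transvections in characteristic two), Siegel maps, hyperbolic tori.
-/

namespace CfsgLib.Orth

open QuadraticMap Module

variable {F V : Type*} [Field F] [AddCommGroup V] [Module F V]

/-- The orthogonal group of a quadratic form. -/
def orthGroup (Q : QuadraticForm F V) : Subgroup (V ≃ₗ[F] V) where
  carrier := {g | ∀ v, Q (g v) = Q v}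
  one_mem' := fun v => rfl
  mul_mem' := fun {a b} ha hb v => by rw [LinearEquiv.mul_apply, ha, hb]
  inv_mem' := fun {a} ha v => by
    have h := ha (a⁻¹ v)
    rw [← LinearEquiv.mul_apply, mul_inv_cancel] at h
    exact h.symm

variable (Q : QuadraticForm F V)

theorem polar_smul_r' (a : F) (x y : V) : polar Q x (a • y) = a * polar Q x y := by
  rw [polar_smul_right, smul_eq_mul]

theorem polar_smul_l' (a : F) (x y : V) : polar Q (a • x) y = a * polar Q x y := by
  rw [polar_smul_left, smul_eq_mul]

theorem polar_self' (v : V) : polar Q v v = 2 * Q v := by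
  rw [polar_self, nsmul_eq_mul, Nat.cast_ofNat]

theorem quad_smul' (a : F) (v : V) : Q (a • v) = a * a * Q v := by
  rw [QuadraticMap.map_smul, smul_eq_mul]

theorem quad_add' (x y : V) : Q (x + y) = Q x + Q y + polar Q x y := by
  simp only [polar]; ring

variable {Q}

theorem apply_quad (g : orthGroup Q) (v : V) : Q (g.1 v) = Q v := g.2 v

theorem polar_isom (g : orthGroup Q) (u v : V) : polar Q (g.1 u) (g.1 v) = polar Q u v := by
  simp only [polar, ← map_add, apply_quad]

theorem inv_apply (g : orthGroup Q) (v : V) : g.1 ((g⁻¹).1 v) = v := g.1.apply_symm_apply v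

variable (Q)

/-- `v ↦ v - f(a, v) / Q(a) • a`; the identity when `Q a = 0`. -/
def reflFun (a : V) : V →ₗ[F] V :=
  LinearMap.id - ((Q a)⁻¹ • QuadraticMap.polarBilin Q a).smulRight a

theorem reflFun_apply (a v : V) : reflFun Q a v = v - ((Q a)⁻¹ * polar Q a v) • a := by
  simp [reflFun]

theorem reflFun_quad (a v : V) : Q (reflFun Q a v) = Q v := by
  rw [reflFun_apply, sub_eq_add_neg, ← neg_smul, quad_add', quad_smul', polar_smul_r', polar_comm _ v a]
  rcases eq_or_ne (Q a) 0 with h | h
  · simp [h]
  · field_simp; ring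

theorem reflFun_reflFun (a v : V) : reflFun Q a (reflFun Q a v) = v := by
  rcases eq_or_ne (Q a) 0 with h | h
  · simp [reflFun_apply, h]
  · simp only [reflFun_apply, sub_eq_add_neg, ← neg_smul, polar_add_right, polar_smul_r', polar_self']
    rw [add_assoc, ← add_smul]
    convert add_zero v
    convert zero_smul F a
    field_simp
    ring

/-- The reflection in `a` as an element of the orthogonal group (the identity when `Q a = 0`). -/
def refl (a : V) : orthGroup Q :=
  ⟨{ reflFun Q a with
      invFun := reflFun Q a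
      left_inv := reflFun_reflFun Q a
      right_inv := reflFun_reflFun Q a }, reflFun_quad Q a⟩

theorem refl_apply (a v : V) : (refl Q a).1 v = v - ((Q a)⁻¹ * polar Q a v) • a :=
  reflFun_apply Q a v

theorem refl_mul_self (a : V) : refl Q a * refl Q a = 1 :=
  Subtype.ext (LinearEquiv.ext (reflFun_reflFun Q a))

theorem refl_inv (a : V) : (refl Q a)⁻¹ = refl Q a :=
  inv_eq_of_mul_eq_one_left (refl_mul_self Q a)

theorem refl_fix {a v : V} (h : polar Q a v = 0) : (refl Q a).1 v = v := by
  simp [refl_apply, h]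

theorem refl_self {a : V} (h : Q a ≠ 0) : (refl Q a).1 a = -a := by
  rw [refl_apply, polar_self', show (Q a)⁻¹ * (2 * Q a) = 2 by field_simp, two_smul]
  abel

theorem refl_smul {t : F} (ht : t ≠ 0) (a : V) : refl Q (t • a) = refl Q a := by
  refine Subtype.ext (LinearEquiv.ext fun v => ?_)
  rw [refl_apply, refl_apply, quad_smul', polar_smul_l', smul_smul]
  congr 2
  rcases eq_or_ne (Q a) 0 with h | h
  · simp [h]
  · field_simp

theorem conj_refl (g : orthGroup Q) (a : V) : g * refl Q a * g⁻¹ = refl Q (g.1 a) := by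
  refine Subtype.ext (LinearEquiv.ext fun v => ?_)
  show g.1 ((refl Q a).1 ((g⁻¹).1 v)) = _
  rw [refl_apply, refl_apply, map_sub, map_smul, inv_apply, apply_quad,
    ← polar_isom g a, inv_apply]

/-- If `Q x = Q y` and `x - y` is non-singular then its reflection exchanges `x` and `y`. -/
theorem refl_sub_apply {x y : V} (h : Q x = Q y) (hd : Q (x - y) ≠ 0) : (refl Q (x - y)).1 x = y := by
  rw [refl_apply]
  have hp : polar Q (x - y) x = Q (x - y) := by
    rw [sub_eq_add_neg, polar_add_left, polar_neg_left, polar_self', quad_add', QuadraticMap.map_neg,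
      polar_neg_right, polar_comm _ y x, ← h]
    ring
  rw [hp, inv_mul_cancel₀ hd, one_smul, sub_sub_cancel]

theorem det_refl [FiniteDimensional F V] {a : V} (h : Q a ≠ 0) :
    LinearMap.det ((refl Q a).1 : V →ₗ[F] V) = -1 := by
  have e : ((refl Q a).1 : V →ₗ[F] V) = LinearMap.transvection (-((Q a)⁻¹ • QuadraticMap.polarBilin Q a)) a := by
    ext v
    show (refl Q a).1 v = v + _ • a
    rw [refl_apply, sub_eq_add_neg, ← neg_smul]
    simp
  rw [e, LinearMap.transvection.det]
  simp only [LinearMap.neg_apply, LinearMap.smul_apply, QuadraticMap.polarBilin_apply_apply, smul_eq_mul,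
    polar_self']
  field_simp
  ring

/-- The reflection subgroup. -/
def reflGroup : Subgroup (orthGroup Q) := Subgroup.closure (Set.range (refl Q))

theorem refl_mem_reflGroup (a : V) : refl Q a ∈ reflGroup Q := Subgroup.subset_closure ⟨a, rfl⟩

section Nondegenerate

variable {Q} [FiniteDimensional F V] (hQ : (QuadraticMap.polarBilin Q).Nondegenerate)
include hQ

theorem eq_zero_of_polar {v : V} (h : ∀ w, polar Q v w = 0) : v = 0 :=
  hQ.1 v h

theorem exists_polar_eq (φ : V →ₗ[F] F) : ∃ z, ∀ v, polar Q z v = φ v :=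
  ⟨(LinearMap.BilinForm.toDual (QuadraticMap.polarBilin Q) hQ).symm φ, fun v => by
    rw [← QuadraticMap.polarBilin_apply_apply]
    exact LinearMap.BilinForm.apply_toDual_symm_apply φ v⟩

theorem exists_polar_one {W : Submodule F V} {x : V} (hx : x ∉ W) :
    ∃ z, (∀ w ∈ W, polar Q z w = 0) ∧ polar Q z x = 1 := by
  obtain ⟨φ, hφx, hφW⟩ := Submodule.exists_dual_map_eq_bot_of_notMem hx inferInstance
  obtain ⟨z, hz⟩ := exists_polar_eq hQ ((φ x)⁻¹ • φ)
  refine ⟨z, fun w hw => ?_, ?_⟩
  · have : φ w = 0 := by
      have := Submodule.mem_map_of_mem (f := φ) hw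
      rwa [hφW, Submodule.mem_bot] at this
    rw [hz, LinearMap.smul_apply, this, smul_zero]
  · rw [hz, LinearMap.smul_apply, smul_eq_mul, inv_mul_cancel₀ hφx]

/-- Linear maps preserving `Q` are bijective. -/
theorem exists_of_preserving (f : V →ₗ[F] V) (hf : ∀ v, Q (f v) = Q v) :
    ∃ g : orthGroup Q, ∀ v, g.1 v = f v := by
  have hinj : Function.Injective f := by
    rw [injective_iff_map_eq_zero]
    intro v hv
    refine eq_zero_of_polar hQ fun w => ?_
    have : polar Q (f v) (f w) = polar Q v w := by simp only [polar, ← map_add, hf]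
    rw [← this, hv, polar_zero_left]
  exact ⟨⟨LinearEquiv.ofInjectiveEndo f hinj, fun v => hf v⟩, fun v => rfl⟩

/-- The Siegel map `v ↦ v + f(d,v) u - f(u,v) d - Q(u) f(d,v) d`. -/
theorem exists_siegel {d u : V} (hd : Q d = 0) (hdu : polar Q d u = 0) :
    ∃ g : orthGroup Q, ∀ v, g.1 v =
      v + polar Q d v • u + (-(polar Q u v) - Q u * polar Q d v) • d := by
  obtain ⟨g, hg⟩ := exists_of_preserving hQ
    (LinearMap.id + (QuadraticMap.polarBilin Q d).smulRight u +
      (-(QuadraticMap.polarBilin Q u) - Q u • QuadraticMap.polarBilin Q d).smulRight d) (fun v => by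
      simp only [LinearMap.add_apply, LinearMap.id_apply, LinearMap.smulRight_apply, LinearMap.sub_apply,
        LinearMap.neg_apply, LinearMap.smul_apply, QuadraticMap.polarBilin_apply_apply, smul_eq_mul]
      simp only [quad_add', quad_smul', polar_add_left, polar_smul_r', polar_smul_l', hd, polar_comm _ u d, hdu,
        polar_comm _ v u, polar_comm _ v d]
      ring)
  exact ⟨g, fun v => by rw [hg]; simp⟩

end Nondegenerate

/-- The reflection product scaling the hyperbolic pair `(d, z)` by `c, c⁻¹`. -/
def torus (d z : V) (c : F) : orthGroup Q := refl Q (d + z) * refl Q (d + c • z)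

theorem torus_fix {d z v : V} (c : F) (hd : polar Q d v = 0) (hz : polar Q z v = 0) :
    (torus Q d z c).1 v = v := by
  show (refl Q (d + z)).1 ((refl Q (d + c • z)).1 v) = v
  rw [refl_fix Q (a := d + c • z) (v := v) (by simp [polar_add_left, polar_smul_l', hd, hz]),
    refl_fix Q (by simp [polar_add_left, hd, hz])]

theorem torus_pair {d z : V} (hd : Q d = 0) (hz : Q z = 0) (hdz : polar Q d z = 1) {c : F} (hc : c ≠ 0) :
    (torus Q d z c).1 d = c • d ∧ (torus Q d z c).1 z = c⁻¹ • z := by
  have key : ∀ e : F, e ≠ 0 → Q (d + e • z) = e ∧ (refl Q (d + e • z)).1 d = -(e • z) ∧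
      (refl Q (d + e • z)).1 z = -(e⁻¹ • d) := by
    intro e he
    have hq : Q (d + e • z) = e := by rw [quad_add', quad_smul', polar_smul_r', hd, hz, hdz]; ring
    refine ⟨hq, ?_, ?_⟩
    · rw [refl_apply, hq, polar_add_left, polar_smul_l', polar_self', hd, polar_comm _ z d, hdz]
      rw [show e⁻¹ * (2 * 0 + e * 1) = 1 by field_simp; ring, one_smul]; abel
    · rw [refl_apply, hq, polar_add_left, polar_smul_l', polar_self', hz, hdz]
      rw [show e⁻¹ * (1 + e * (2 * 0)) = e⁻¹ by ring, smul_add, smul_smul, inv_mul_cancel₀ he, one_smul]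
      abel
  obtain ⟨-, h1, h2⟩ := key 1 one_ne_zero
  obtain ⟨-, h3, h4⟩ := key c hc
  rw [one_smul] at h1 h2
  rw [inv_one, one_smul] at h2
  constructor
  · show (refl Q (d + z)).1 ((refl Q (d + c • z)).1 d) = _
    rw [h3, map_neg, map_smul, h2, smul_neg, neg_neg]
  · show (refl Q (d + z)).1 ((refl Q (d + c • z)).1 z) = _
    rw [h4, map_neg, map_smul, h1, smul_neg, neg_neg]

end CfsgLib.Orth
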