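import Cfsg.Agent.Lib.Classical.OrthCount
import Cfsg.Agent.Lib.Orth.Classify
import Mathlib.NumberTheory.Zsqrtd.GaussianInt

set_option autoImplicit false
set_option linter.unusedSectionVars false

/-! The quadratic space of even subsets of a set modulo complementation. -/

namespace CfsgLib.Orth.EvenSubsets

open QuadraticMap Finset

local notation "𝔽" => ZMod 2

variable (n : ℕ)

/-- weight -/
def wt (x : Fin n → 𝔽) : ℕ := (univ.filter fun i => x i = 1).card

/-- `wt choose 2`, modulo two -/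
def q0 (x : Fin n → 𝔽) : 𝔽 := ((wt n x).choose 2 : ℕ)

/-- companion -/
def b0 : LinearMap.BilinMap 𝔽 (Fin n → 𝔽) 𝔽 :=
  LinearMap.mk₂ 𝔽 (fun x y => (∑ i, x i) * (∑ i, y i) + ∑ i, x i * y i)
    (fun a b c => by simp only [Pi.add_apply, sum_add_distrib, add_mul]; ring)
    (fun a b c => by simp only [Pi.smul_apply, smul_eq_mul, ← mul_sum, mul_assoc]; ring)
    (fun a b c => by simp only [Pi.add_apply, sum_add_distrib, mul_add]; ring)
    (fun a b c => by simp only [Pi.smul_apply, smul_eq_mul, ← mul_sum, mul_left_comm _ a]; ring)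

theorem two_cases (a : 𝔽) : a = 0 ∨ a = 1 := by revert a; decide

theorem sum_eq_wt (x : Fin n → 𝔽) : ∑ i, x i = (wt n x : 𝔽) := by
  rw [wt, ← sum_boole]
  exact sum_congr rfl fun i _ => by rcases two_cases (x i) with h | h <;> simp [h]

theorem choose_two_add (u v : ℕ) : (u + v).choose 2 = u.choose 2 + v.choose 2 + u * v := by
  induction v with
  | zero => simp
  | succ v ih =>
    rw [← add_assoc, Nat.choose_succ_succ, Nat.choose_one_right, ih, Nat.choose_succ_succ v 1, Nat.choose_one_right]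
    ring

theorem q0_add (x y : Fin n → 𝔽) : q0 n (x + y) = q0 n x + q0 n y + b0 n x y := by
  classical
  set A := univ.filter fun i => x i = 1
  set B := univ.filter fun i => y i = 1
  have hxy : (∑ i, x i * y i) = ((A ∩ B).card : 𝔽) := by
    rw [← filter_and, ← sum_boole]
    exact sum_congr rfl fun i _ => by
      rcases two_cases (x i) with h | h <;> rcases two_cases (y i) with h' | h' <;> simp [h, h']
  have hw : wt n (x + y) = (A \ B).card + (B \ A).card := by
    rw [wt, ← card_union_of_disjoint disjoint_sdiff_sdiff]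
    congr 1
    ext i
    simp only [A, B, mem_filter, mem_univ, true_and, mem_union, mem_sdiff, Pi.add_apply]
    rcases two_cases (x i) with h | h <;> rcases two_cases (y i) with h' | h' <;> rw [h, h'] <;> decide
  have hA : wt n x = (A \ B).card + (A ∩ B).card := (card_sdiff_add_card_inter A B).symm
  have hB : wt n y = (B \ A).card + (A ∩ B).card := by rw [inter_comm]; exact (card_sdiff_add_card_inter B A).symm
  show _ = _ + _ + ((∑ i, x i) * (∑ i, y i) + ∑ i, x i * y i)
  rw [sum_eq_wt, sum_eq_wt, hxy, q0, q0, q0, hw, hA, hB, choose_two_add, choose_two_add, choose_two_add]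
  push_cast
  generalize (((A \ B).card.choose 2 : ℕ) : 𝔽) = a, (((B \ A).card.choose 2 : ℕ) : 𝔽) = b,
    (((A ∩ B).card.choose 2 : ℕ) : 𝔽) = c, ((A \ B).card : 𝔽) = u, ((B \ A).card : 𝔽) = v, ((A ∩ B).card : 𝔽) = w
  revert a b c u v w
  decide

/-- The form on all subsets. -/
def Q0 : QuadraticForm 𝔽 (Fin n → 𝔽) where
  toFun := q0 n
  toFun_smul := fun a x => by
    rcases two_cases a with rfl | rfl
    · simp [q0, wt]
    · simp
  exists_companion' := ⟨b0 n, q0_add n⟩

theorem Q0_apply (x : Fin n → 𝔽) : Q0 n x = q0 n x := rfl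

theorem polar_Q0 (x y : Fin n → 𝔽) : polar (Q0 n) x y = (∑ i, x i) * (∑ i, y i) + ∑ i, x i * y i := by
  rw [polar, Q0_apply, Q0_apply, Q0_apply, q0_add]
  show q0 n x + q0 n y + ((∑ i, x i) * (∑ i, y i) + ∑ i, x i * y i) - q0 n x - q0 n y = _
  ring

theorem wt_perm (σ : Equiv.Perm (Fin n)) (x : Fin n → 𝔽) : wt n (x ∘ σ) = wt n x :=
  card_equiv σ (fun i => by simp)

/-- summation -/
def sumMap : (Fin n → 𝔽) →ₗ[𝔽] 𝔽 := ∑ i, LinearMap.proj i

theorem sumMap_apply (x : Fin n → 𝔽) : sumMap n x = ∑ i, x i := by simp [sumMap]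

/-- even subsets -/
abbrev Even0 : Submodule 𝔽 (Fin n → 𝔽) := LinearMap.ker (sumMap n)

theorem mem_even {x : Fin n → 𝔽} : x ∈ Even0 n ↔ ∑ i, x i = 0 := by rw [LinearMap.mem_ker, sumMap_apply]

theorem polar_even (x y : Even0 n) : polar (Q0 n) x.1 y.1 = ∑ i, x.1 i * y.1 i := by
  rw [polar_Q0, (mem_even n).1 x.2, zero_mul, zero_add]

/-- the constants among the even subsets -/
def Ones : Submodule 𝔽 (Even0 n) := (Submodule.span 𝔽 {(1 : Fin n → 𝔽)}).comap (Even0 n).subtype

theorem mem_ones {x : Even0 n} : x ∈ Ones n ↔ ∃ a : 𝔽, ∀ i, x.1 i = a := by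
  show x.1 ∈ Submodule.span 𝔽 {(1 : Fin n → 𝔽)} ↔ _
  rw [Submodule.mem_span_singleton]
  constructor
  · rintro ⟨a, ha⟩; exact ⟨a, fun i => by rw [← ha]; simp⟩
  · rintro ⟨a, ha⟩; exact ⟨a, funext fun i => by simp [ha]⟩

variable {n}
variable (hn : 4 ∣ n)
include hn

theorem natCast_n : (n : 𝔽) = 0 :=
  (ZMod.natCast_eq_zero_iff_even (n := n)).2 (even_iff_two_dvd.2 (dvd_trans (by norm_num) hn))

theorem ones_null (x : Even0 n) (hx : x ∈ Ones n) : Q0 n x.1 = 0 ∧ ∀ y : Even0 n, polar (Q0 n) x.1 y.1 = 0 := by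
  obtain ⟨a, ha⟩ := (mem_ones n).1 hx
  refine ⟨?_, fun y => ?_⟩
  · rcases two_cases a with rfl | rfl
    · rw [show x.1 = 0 from funext ha, QuadraticMap.map_zero]
    · show ((wt n x.1).choose 2 : 𝔽) = 0
      have hw : wt n x.1 = n := by rw [wt, filter_true_of_mem fun i _ => ha i, card_univ, Fintype.card_fin]
      obtain ⟨j, rfl⟩ := hn
      rw [hw, Nat.choose_two_right, ZMod.natCast_eq_zero_iff_even,
        show 4 * j * (4 * j - 1) = 2 * (2 * (j * (4 * j - 1))) by ring, Nat.mul_div_cancel_left _ (by norm_num)]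
      exact even_two_mul _
  · rw [polar_even]
    simp only [ha, ← mul_sum, (mem_even n).1 y.2, mul_zero]

/-- The form on even subsets modulo complementation. -/
noncomputable def QW : QuadraticForm 𝔽 (Even0 n ⧸ Ones n) where
  toFun := fun w => Quotient.liftOn' w (fun x => Q0 n x.1) fun a b h => by
    rw [Submodule.quotientRel_def] at h
    obtain ⟨h1, h2⟩ := ones_null hn _ h
    have hab : a.1 = (a - b : Even0 n).1 + b.1 := by simp
    show Q0 n a.1 = Q0 n b.1
    rw [hab, quad_add', h1, h2, zero_add, add_zero]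
  toFun_smul := fun c w => Quotient.inductionOn' w fun x => QuadraticMap.map_smul (Q0 n) c x.1
  exists_companion' := by
    refine ⟨Submodule.liftQ (Ones n)
      ({ toFun := fun x => Submodule.liftQ (Ones n) ((b0 n x.1).comp (Even0 n).subtype) ?_
         map_add' := ?_, map_smul' := ?_ } : Even0 n →ₗ[𝔽] (Even0 n ⧸ Ones n →ₗ[𝔽] 𝔽)) ?_, ?_⟩
    · intro y hy
      rw [LinearMap.mem_ker, LinearMap.comp_apply, Submodule.subtype_apply,
        show b0 n x.1 y.1 = polar (Q0 n) x.1 y.1 from (polar_Q0 n _ _).symm, polar_comm]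
      exact (ones_null hn y hy).2 x
    · intro a b; ext w; simp
    · intro c a; ext w; simp
    · intro x hx
      rw [LinearMap.mem_ker]
      ext y
      show b0 n x.1 y.1 = 0
      rw [show b0 n x.1 y.1 = polar (Q0 n) x.1 y.1 from (polar_Q0 n _ _).symm]
      exact (ones_null hn x hx).2 y
    · intro a b
      induction a using Submodule.Quotient.induction_on with | H a =>
      induction b using Submodule.Quotient.induction_on with | H b =>
      exact q0_add n a.1 b.1

theorem QW_mk (x : Even0 n) : QW hn (Submodule.Quotient.mk x) = Q0 n x.1 := rfl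

theorem QW_nondeg (hn3 : 3 ≤ n) : (QuadraticMap.polarBilin (QW hn)).Nondegenerate := by
  refine nondegenerate_of_left fun w => ?_
  induction w using Submodule.Quotient.induction_on with | H x =>
  intro hx
  rw [Submodule.Quotient.mk_eq_zero, mem_ones]
  refine ⟨x.1 ⟨0, by omega⟩, fun i => ?_⟩
  by_cases hi : i = ⟨0, by omega⟩
  · rw [hi]
  · let y : Even0 n := ⟨Pi.single i 1 + Pi.single ⟨0, by omega⟩ 1, (mem_even n).2 (by
      simp [sum_add_distrib, Pi.single_apply]; decide)⟩
    have h := hx (Submodule.Quotient.mk y)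
    rw [polar, ← Submodule.Quotient.mk_add, QW_mk, QW_mk, QW_mk] at h
    change polar (Q0 n) x.1 y.1 = 0 at h
    rw [polar_even] at h
    simp [y, mul_add, sum_add_distrib, Pi.single_apply] at h
    exact CharTwo.add_eq_zero.1 h

omit hn in
theorem card_even (hn0 : n ≠ 0) : 2 * Nat.card (Even0 n) = 2 ^ n := by
  have h := Submodule.card_eq_card_quotient_mul_card (Even0 n)
  rw [Nat.card_congr (LinearMap.quotKerEquivOfSurjective (sumMap n) ?_).toEquiv, Nat.card_zmod,
    Nat.card_eq_fintype_card (α := Fin n → 𝔽), Fintype.card_fun, ZMod.card, Fintype.card_fin] at h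
  · omega
  · exact fun a => ⟨Pi.single ⟨0, Nat.pos_of_ne_zero hn0⟩ a, by simp [sumMap_apply]⟩

theorem card_ones (hn0 : n ≠ 0) : Nat.card (Ones n) = 2 := by
  have hmem : ∀ a : 𝔽, (fun _ => a : Fin n → 𝔽) ∈ Even0 n := fun a => (mem_even n).2 (by simp [natCast_n hn])
  refine (Nat.card_congr (Equiv.ofBijective (fun a : 𝔽 => (⟨⟨fun _ => a, hmem a⟩, (mem_ones n).2 ⟨a, fun _ => rfl⟩⟩ : Ones n))
    ⟨fun a b h => congrFun (congrArg (fun z : Ones n => z.1.1) h) ⟨0, Nat.pos_of_ne_zero hn0⟩, fun z => ?_⟩)).symm.trans (Nat.card_zmod 2)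
  obtain ⟨a, ha⟩ := (mem_ones n).1 z.2
  exact ⟨a, Subtype.ext (Subtype.ext (funext fun i => (ha i).symm))⟩

theorem card_W (hn0 : n ≠ 0) : 4 * Nat.card (Even0 n ⧸ Ones n) = 2 ^ n := by
  have h := Submodule.card_eq_card_quotient_mul_card (Ones n)
  rw [card_ones hn hn0] at h
  rw [← card_even hn0, h]; ring

theorem zero_fibres (hn0 : n ≠ 0) :
    Nat.card {x : Even0 n // Q0 n x.1 = 0} = 2 * CfsgLib.Classical.zeroCount (QW hn) := by
  refine Eq.trans ?_ (congrArg (· * CfsgLib.Classical.zeroCount (QW hn)) (card_ones hn hn0))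
  rw [CfsgLib.Classical.zeroCount, mul_comm, ← Nat.card_prod]
  have key : ∀ (w : Even0 n ⧸ Ones n) (r : Ones n), Submodule.Quotient.mk (w.out + r.1) = w := fun w r => by
    rw [Submodule.Quotient.mk_add, (Submodule.Quotient.mk_eq_zero _).2 r.2, add_zero]
    exact Quotient.out_eq' w
  refine Nat.card_congr
    { toFun := fun x => (⟨Submodule.Quotient.mk x.1, x.2⟩, ⟨x.1 - (Submodule.Quotient.mk (p := Ones n) x.1).out, by
        rw [← Submodule.Quotient.eq]; exact (Quotient.out_eq' (Submodule.Quotient.mk x.1)).symm⟩)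
      invFun := fun p => ⟨p.1.1.out + p.2.1, by
        rw [← QW_mk hn, key]; exact p.1.2⟩
      left_inv := fun x => Subtype.ext (by simp)
      right_inv := fun p => by
        refine Prod.ext (Subtype.ext (key _ _)) (Subtype.ext ?_)
        show p.1.1.out + p.2.1 - _ = p.2.1
        rw [key]; abel }

omit hn in
theorem gauss_sum : ∑ x : Fin n → 𝔽, (⟨0, 1⟩ : GaussianInt) ^ wt n x = (1 + ⟨0, 1⟩) ^ n := by
  classical
  have h1 : ∀ x : Fin n → 𝔽, (⟨0, 1⟩ : GaussianInt) ^ wt n x = ∏ i, (if x i = 1 then (⟨0, 1⟩ : GaussianInt) else 1) := fun x => by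
    rw [prod_ite, prod_const_one, mul_one, prod_const, wt]
  simp only [h1]
  rw [← Fintype.prod_sum (fun _ (a : 𝔽) => if a = 1 then (⟨0, 1⟩ : GaussianInt) else 1), prod_const, card_univ,
    Fintype.card_fin]
  congr 1

omit hn in
theorem I_pow_re (w : ℕ) : ((⟨0, 1⟩ : GaussianInt) ^ w).re =
    if (w : 𝔽) = 0 then (if (w.choose 2 : 𝔽) = 0 then 1 else -1) else 0 := by
  have hI : (⟨0, 1⟩ : GaussianInt) ^ 2 = -1 := by rw [pow_two]; ext <;> simp
  obtain ⟨s, rfl | rfl⟩ := Nat.even_or_odd' w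
  · have h0 : ((2 * s : ℕ) : 𝔽) = 0 := by rw [ZMod.natCast_eq_zero_iff_even]; exact even_two_mul s
    have hc : (((2 * s).choose 2 : ℕ) : 𝔽) = (s : 𝔽) := by
      rw [two_mul, choose_two_add]; push_cast
      generalize ((s.choose 2 : ℕ) : 𝔽) = a, (s : 𝔽) = b
      revert a b; decide
    rw [if_pos h0, pow_mul, hI, hc]
    rcases Nat.even_or_odd s with hs | hs
    · rw [hs.neg_one_pow, if_pos ((ZMod.natCast_eq_zero_iff_even).2 hs)]; rfl
    · rw [hs.neg_one_pow, if_neg (fun h => Nat.not_even_iff_odd.2 hs ((ZMod.natCast_eq_zero_iff_even).1 h))]; rfl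
  · have h0 : ((2 * s + 1 : ℕ) : 𝔽) ≠ 0 := fun h => Nat.not_even_two_mul_add_one s ((ZMod.natCast_eq_zero_iff_even).1 h)
    rw [if_neg h0, pow_succ, pow_mul, hI]
    rcases Nat.even_or_odd s with hs | hs <;> simp [hs.neg_one_pow]

omit hn in
theorem zero_formula (k : ℕ) (hk : n = 4 * (k + 1)) :
    2 * (Nat.card {x : Even0 n // Q0 n x.1 = 0} : ℤ) - Nat.card (Even0 n) = (-4) ^ (k + 1) := by
  classical
  let f : (Fin n → 𝔽) → ℤ := fun x => if ∑ i, x i = 0 then (if Q0 n x = 0 then 1 else -1) else 0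
  have h1 : ∑ x, f x = (-4) ^ (k + 1) := by
    have h4 : ((1 : GaussianInt) + ⟨0, 1⟩) ^ 4 = ((-4 : ℤ) : GaussianInt) := by
      rw [show (4 : ℕ) = 2 * 2 from rfl, pow_mul, pow_two, pow_two]; ext <;> simp
    have h := congrArg Zsqrtd.re (gauss_sum (n := n))
    rw [hk, pow_mul, h4, ← Int.cast_pow, Zsqrtd.re_intCast] at h
    rw [← h]
    have hre : ∀ s : Finset (Fin n → 𝔽), ∀ g : (Fin n → 𝔽) → GaussianInt, (∑ x ∈ s, g x).re = ∑ x ∈ s, (g x).re := by
      intro s g
      induction s using Finset.induction_on with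
      | empty => simp
      | insert a s ha ih => rw [sum_insert ha, sum_insert ha, Zsqrtd.re_add, ih]
    subst hk
    rw [hre]
    refine sum_congr rfl fun x _ => ?_
    rw [I_pow_re]
    simp only [f, sum_eq_wt, Q0_apply, q0]
    split_ifs <;> simp_all
  rw [← h1, Nat.card_eq_fintype_card, Nat.card_eq_fintype_card]
  have h2 : ∑ x, f x = ∑ x : Even0 n, (if Q0 n x.1 = 0 then (1 : ℤ) else -1) := by
    simp only [f]
    rw [← sum_filter]
    exact sum_subtype _ (fun x => by rw [mem_filter, mem_even]; simp) (fun x => if Q0 n x = 0 then (1 : ℤ) else -1)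
  rw [h2, Fintype.card_subtype]
  have h3 : ∀ x : Even0 n, (if Q0 n x.1 = 0 then (1 : ℤ) else -1) = 2 * (if Q0 n x.1 = 0 then 1 else 0) - 1 :=
    fun x => by split_ifs <;> norm_num
  simp only [h3, sum_sub_distrib, ← mul_sum, sum_boole, sum_const, card_univ, nsmul_eq_mul, mul_one]

/-- Relabelling. -/
noncomputable def permE (σ : Equiv.Perm (Fin n)) : Even0 n ≃ₗ[𝔽] Even0 n :=
  LinearEquiv.ofSubmodules (LinearEquiv.funCongrLeft 𝔽 𝔽 σ.symm) (Even0 n) (Even0 n) (by
    ext x
    constructor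
    · rintro ⟨y, hy, rfl⟩
      rw [SetLike.mem_coe, mem_even] at hy
      rw [mem_even, ← hy]
      exact Equiv.sum_comp σ.symm y
    · intro hx
      refine ⟨x ∘ σ, (mem_even n).2 ?_, funext fun i => by simp⟩
      rw [← (mem_even n).1 hx]
      exact Equiv.sum_comp σ x)

theorem permE_apply (σ : Equiv.Perm (Fin n)) (x : Even0 n) (i : Fin n) : (permE σ x).1 i = x.1 (σ.symm i) := rfl

theorem permE_ones (σ : Equiv.Perm (Fin n)) : (Ones n).map (permE σ : Even0 n →ₗ[𝔽] Even0 n) = Ones n := by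
  ext x
  constructor
  · rintro ⟨y, hy, rfl⟩
    obtain ⟨a, ha⟩ := (mem_ones n).1 hy
    exact (mem_ones n).2 ⟨a, fun i => ha _⟩
  · intro hx
    obtain ⟨a, ha⟩ := (mem_ones n).1 hx
    exact ⟨x, hx, Subtype.ext (funext fun i => show x.1 (σ.symm i) = x.1 i by rw [ha, ha])⟩

/-- The action of the symmetric group. -/
noncomputable def permHom : Equiv.Perm (Fin n) →* orthGroup (QW hn) where
  toFun σ := ⟨Submodule.Quotient.equiv (Ones n) (Ones n) (permE σ) (permE_ones hn σ), fun w => by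
    induction w using Submodule.Quotient.induction_on with | H x =>
    show q0 n (x.1 ∘ σ.symm) = q0 n x.1
    rw [q0, q0, wt_perm]⟩
  map_one' := Subtype.ext (LinearEquiv.ext fun w => by
    induction w using Submodule.Quotient.induction_on with | H x => rfl)
  map_mul' σ τ := Subtype.ext (LinearEquiv.ext fun w => by
    induction w using Submodule.Quotient.induction_on with | H x => rfl)

theorem permHom_injective (hn5 : 5 ≤ n) : Function.Injective (permHom hn) := by
  classical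
  rw [injective_iff_map_eq_one]
  intro σ h
  have hpair : ∀ i j : Fin n, i ≠ j → σ i = i ∨ σ i = j := by
    intro i j hij
    by_contra hne
    push Not at hne
    let x : Even0 n := ⟨Pi.single i 1 + Pi.single j 1, (mem_even n).2 (by
      simp [sum_add_distrib, Pi.single_apply]; decide)⟩
    have hx : Submodule.Quotient.mk (permE σ x) = (Submodule.Quotient.mk x : Even0 n ⧸ Ones n) :=
      LinearEquiv.congr_fun (congrArg Subtype.val h) (Submodule.Quotient.mk x)
    rw [Submodule.Quotient.eq, mem_ones] at hx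
    obtain ⟨a, ha⟩ := hx
    obtain ⟨l, hl⟩ : ∃ l : Fin n, l ∉ ({i, j, σ i, σ j} : Finset (Fin n)) := by
      by_contra hall
      push Not at hall
      have := card_le_card (show (univ : Finset (Fin n)) ⊆ {i, j, σ i, σ j} from fun l _ => hall l)
      rw [card_univ, Fintype.card_fin] at this
      have := card_le_four (a := i) (b := j) (c := σ i) (d := σ j)
      omega
    simp only [mem_insert, mem_singleton, not_or] at hl
    obtain ⟨l1, l2, l3, l4⟩ := hl
    have e1 : x.1 (σ.symm l) - x.1 l = a := ha l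
    have e2 : x.1 (σ.symm (σ i)) - x.1 (σ i) = a := ha (σ i)
    have hx : ∀ t, x.1 t = (if t = i then 1 else 0) + (if t = j then 1 else 0) := fun t => by
      simp [x, Pi.single_apply]
    have m1 : σ.symm l ≠ i := fun e => l3 (by rw [← e, Equiv.apply_symm_apply])
    have m2 : σ.symm l ≠ j := fun e => l4 (by rw [← e, Equiv.apply_symm_apply])
    rw [hx, hx, if_neg m1, if_neg m2, if_neg l1, if_neg l2] at e1
    rw [Equiv.symm_apply_apply, hx, hx, if_pos rfl, if_neg hij, if_neg hne.1, if_neg hne.2, ← e1] at e2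
    simp at e2
  refine Equiv.ext fun i => ?_
  by_contra hne
  obtain ⟨j, hj⟩ : ∃ j : Fin n, j ≠ i ∧ j ≠ σ i := by
    by_contra hall
    push Not at hall
    have := card_le_card (show (univ : Finset (Fin n)) ⊆ {i, σ i} from fun l _ => by
      by_cases hl : l = i
      · simp [hl]
      · simp [hall l hl])
    rw [card_univ, Fintype.card_fin] at this
    have := card_le_two (a := i) (b := σ i)
    omega
  exact (hpair i j hj.1.symm).elim hne fun e => hj.2 e.symm

omit hn in
/-- The symmetric group of degree `4k+4` in the orthogonal group of dimension `4k+2`. -/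
theorem embeds (k : ℕ) (hk : 1 ≤ k) :
    (Odd k → ∃ φ : Equiv.Perm (Fin (4 * k + 4)) →* orthGroup (plusForm 𝔽 (2 * k + 1)), Function.Injective φ) ∧
    (Even k → ∃ φ : Equiv.Perm (Fin (4 * k + 4)) →* orthGroup (minusForm 𝔽 (2 * k) 1 1), Function.Injective φ) := by
  classical
  have hn : 4 ∣ 4 * k + 4 := ⟨k + 1, by ring⟩
  have hn0 : 4 * k + 4 ≠ 0 := by omega
  have hQ := QW_nondeg hn (by omega)
  have hW := card_W hn hn0
  have hrank : Module.finrank 𝔽 (Even0 (4 * k + 4) ⧸ Ones (4 * k + 4)) = 2 * (2 * k + 1) := by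
    have : Fintype (Even0 (4 * k + 4) ⧸ Ones (4 * k + 4)) := Fintype.ofFinite _
    rw [Nat.card_eq_fintype_card, Module.card_eq_pow_finrank (K := 𝔽), ZMod.card] at hW
    rw [show 2 ^ (4 * k + 4) = 4 * 2 ^ (4 * k + 2) by rw [pow_add _ _ 4, pow_add]; ring] at hW
    have := Nat.pow_right_injective (le_refl 2) (Nat.eq_of_mul_eq_mul_left (by norm_num) hW)
    omega
  have hZ : 4 * (CfsgLib.Classical.zeroCount (QW hn) : ℤ) - 2 ^ (4 * k + 3) = (-4) ^ (k + 1) := by
    have hE : (Nat.card (Even0 (4 * k + 4)) : ℤ) = 2 ^ (4 * k + 3) := by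
      have := card_even hn0
      rw [pow_succ] at this
      exact_mod_cast (show Nat.card (Even0 (4 * k + 4)) = 2 ^ (4 * k + 3) by omega)
    rw [← zero_formula (n := 4 * k + 4) k (by ring), zero_fibres hn hn0, hE]
    push_cast; ring
  have hinj := permHom_injective hn (by omega)
  have h12 : ∀ z₁ z₂ : 𝔽, z₁ ^ 2 + 1 * z₁ * z₂ + 1 * z₂ ^ 2 = 0 → z₁ = 0 ∧ z₂ = 0 := by decide
  have hp : (CfsgLib.Classical.zeroCount (plusForm 𝔽 (2 * k + 1)) : ℤ) * 2 = 2 ^ (4 * k + 2) + 2 ^ (2 * k + 1) := by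
    have := CfsgLib.Classical.zeroCount_plus (F := 𝔽) (q := 2) (ZMod.card 2) (2 * k + 1)
    push_cast at this
    rw [show 4 * k + 2 = 2 * (2 * k + 1) by ring]
    linarith
  have hm : (CfsgLib.Classical.zeroCount (minusForm 𝔽 (2 * k) 1 1) : ℤ) = 2 ^ (4 * k + 1) + 2 ^ (2 * k) - 2 ^ (2 * k + 1) := by
    have := CfsgLib.Classical.zeroCount_minus (F := 𝔽) (q := 2) (ZMod.card 2) 1 1 h12 (2 * k)
    push_cast at this
    rw [this, show 4 * k + 1 = 2 * (2 * k) + 1 by ring]
  have h4 : (4 : ℤ) ^ (k + 1) = 4 * 2 ^ (2 * k) := by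
    rw [pow_succ', show (4 : ℤ) = 2 ^ 2 by norm_num, ← pow_mul]
  have hpos : (0 : ℤ) < 2 ^ (2 * k) := by positivity
  rcases classify_even hQ hrank with ⟨e, he⟩ | ⟨-, e, ζ, hζ, he⟩
  · refine ⟨fun _ => ⟨(CfsgLib.Classical.orthGroupCongr e he).symm.toMonoidHom.comp (permHom hn),
      (CfsgLib.Classical.orthGroupCongr e he).symm.injective.comp hinj⟩, fun hev => absurd hev ?_⟩
    intro hev
    rw [← CfsgLib.Classical.zeroCount_congr e he] at hZ
    rw [show (-4 : ℤ) = -1 * 4 by norm_num, mul_pow, (Even.add_one hev).neg_one_pow, h4,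
      show 4 * k + 3 = 4 * k + 2 + 1 by ring, pow_succ (2 : ℤ) (4 * k + 2)] at hZ
    rw [pow_succ (2 : ℤ) (2 * k)] at hp
    nlinarith
  · obtain rfl : ζ = 1 := by
      rcases two_cases ζ with rfl | rfl
      · exact absurd (hζ 0) (by simp)
      · rfl
    obtain ⟨e, he⟩ : ∃ e' : ((Fin (2 * k) ⊕ Fin (2 * k)) ⊕ Fin 2 → 𝔽) ≃ₗ[𝔽] Even0 (4 * k + 4) ⧸ Ones (4 * k + 4),
        ∀ v, QW hn (e' v) = minusForm 𝔽 (2 * k) 1 1 v := ⟨e, he⟩
    refine ⟨fun hodd => absurd hodd ?_, fun _ => ⟨(CfsgLib.Classical.orthGroupCongr e he).symm.toMonoidHom.comp (permHom hn),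
      (CfsgLib.Classical.orthGroupCongr e he).symm.injective.comp hinj⟩⟩
    intro hodd
    rw [← CfsgLib.Classical.zeroCount_congr e he] at hZ
    rw [show (-4 : ℤ) = -1 * 4 by norm_num, mul_pow, (Odd.add_one hodd).neg_one_pow, h4, hm,
      show 4 * k + 3 = 4 * k + 1 + 2 by ring, pow_add (2 : ℤ) (4 * k + 1), pow_succ (2 : ℤ) (2 * k)] at hZ
    linarith

end CfsgLib.Orth.EvenSubsets
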