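import Cfsg.Agent.Lib.Orth.Classify

set_option autoImplicit false
set_option linter.unusedSectionVars false

/-! The quadratic functions over the field of two elements polarising to a fixed alternating form. -/

namespace CfsgLib.Orth

open QuadraticMap Module

local notation "𝔽" => ZMod 2

variable {m : ℕ}

theorem twoCases (a : 𝔽) : a = 0 ∨ a = 1 := by revert a; decide

/-- The polarisation of the plus form, as in the statements. -/
theorem plus_polar_eq (u v : Fin m ⊕ Fin m → 𝔽) :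
    Cfsg.quadFormPlus m 𝔽 (u + v) - Cfsg.quadFormPlus m 𝔽 u - Cfsg.quadFormPlus m 𝔽 v =
      polar (plusForm 𝔽 m) u v := by
  simp only [plusForm_apply, polar]

/-- `v ↦ P v + B(v, w)`. -/
def shiftFun (w v : Fin m ⊕ Fin m → 𝔽) : 𝔽 :=
  Cfsg.quadFormPlus m 𝔽 v + (Cfsg.quadFormPlus m 𝔽 (v + w) - Cfsg.quadFormPlus m 𝔽 v - Cfsg.quadFormPlus m 𝔽 w)

theorem shiftFun_eq (w v : Fin m ⊕ Fin m → 𝔽) :
    shiftFun w v = plusForm 𝔽 m v + polar (plusForm 𝔽 m) v w := by
  rw [shiftFun, plus_polar_eq, plusForm_apply]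

theorem shiftFun_trans (w v : Fin m ⊕ Fin m → 𝔽) :
    shiftFun w v = plusForm 𝔽 m (v + w) + plusForm 𝔽 m w := by
  have h2 : (2 : 𝔽) = 0 := by decide
  rw [shiftFun_eq, polar]
  linear_combination (-plusForm 𝔽 m w) * h2

theorem shiftFun_add (w u v : Fin m ⊕ Fin m → 𝔽) :
    shiftFun w (u + v) = shiftFun w u + shiftFun w v + polar (plusForm 𝔽 m) u v := by
  simp only [shiftFun_eq, QuadraticMap.polar_add_left]
  simp only [polar]; ring

theorem shiftFun_injective : Function.Injective (shiftFun (m := m)) := by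
  intro a b h
  refine sub_eq_zero.1 ((plusForm_nondeg (F := 𝔽) m).1 (a - b) fun v => ?_)
  have := congrFun h v
  rw [shiftFun_eq, shiftFun_eq, add_right_inj] at this
  show polar (plusForm 𝔽 m) (a - b) v = 0
  rw [QuadraticMap.polar_sub_left, polar_comm _ a, polar_comm _ b, this, sub_self]

theorem exists_shiftFun (q : (Fin m ⊕ Fin m → 𝔽) → 𝔽)
    (hq : ∀ u v, q (u + v) = q u + q v + polar (plusForm 𝔽 m) u v) : ∃ w, q = shiftFun w := by
  let φ : (Fin m ⊕ Fin m → 𝔽) →ₗ[𝔽] 𝔽 := (AddMonoidHom.mk' (fun v => q v - plusForm 𝔽 m v) (fun u v => by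
    simp only [hq u v, polar]; ring)).toZModLinearMap 2
  set B := QuadraticMap.polarBilin (plusForm 𝔽 m)
  refine ⟨(LinearMap.BilinForm.toDual B (plusForm_nondeg m)).symm φ, funext fun v => ?_⟩
  rw [shiftFun_eq, polar_comm, ← QuadraticMap.polarBilin_apply_apply,
    LinearMap.BilinForm.apply_toDual_symm_apply]
  show q v = plusForm 𝔽 m v + (q v - plusForm 𝔽 m v)
  ring

/-- Quadratic functions with the given polar, as the space itself. -/
noncomputable def shiftEquiv : (Fin m ⊕ Fin m → 𝔽) ≃ {q : (Fin m ⊕ Fin m → 𝔽) → 𝔽 //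
    ∀ u v, q (u + v) = q u + q v + (Cfsg.quadFormPlus m 𝔽 (u + v) - Cfsg.quadFormPlus m 𝔽 u - Cfsg.quadFormPlus m 𝔽 v)} :=
  Equiv.ofBijective (fun w => ⟨shiftFun w, fun u v => by rw [shiftFun_add, plus_polar_eq]⟩)
    ⟨fun a b h => shiftFun_injective (congrArg Subtype.val h), fun q => by
      obtain ⟨w, hw⟩ := exists_shiftFun q.1 fun u v => by rw [← plus_polar_eq]; exact q.2 u v
      exact ⟨w, Subtype.ext hw.symm⟩⟩

/-- The transvection along `w`. -/
theorem exists_transvection (q : (Fin m ⊕ Fin m → 𝔽) → 𝔽)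
    (hq : ∀ u v, q (u + v) = q u + q v + polar (plusForm 𝔽 m) u v) {w : Fin m ⊕ Fin m → 𝔽} (hw : q w = 0) :
    ∃ g : (Fin m ⊕ Fin m → 𝔽) ≃ₗ[𝔽] (Fin m ⊕ Fin m → 𝔽), ∀ v, q v + polar (plusForm 𝔽 m) v w = q (g v) := by
  let B := QuadraticMap.polarBilin (plusForm 𝔽 m)
  let t : (Fin m ⊕ Fin m → 𝔽) →ₗ[𝔽] (Fin m ⊕ Fin m → 𝔽) := LinearMap.id + (B.flip w).smulRight w
  have ht : ∀ v, t v = v + polar (plusForm 𝔽 m) v w • w := fun v => rfl
  have hww : polar (plusForm 𝔽 m) w w = 0 := by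
    have h2 : (2 : 𝔽) = 0 := by decide
    rw [polar_self, nsmul_eq_mul]
    linear_combination (plusForm 𝔽 m w) * h2
  have htt : ∀ v, t (t v) = v := fun v => by
    rw [ht, ht, QuadraticMap.polar_add_left, polar_smul_left, hww, smul_zero, add_zero, add_assoc, ← add_smul,
      CharTwo.add_self_eq_zero, zero_smul, add_zero]
  refine ⟨LinearEquiv.ofLinearMap t t (LinearMap.ext htt) (LinearMap.ext htt), fun v => ?_⟩
  show _ = q (t v)
  rw [ht]
  rcases twoCases (polar (plusForm 𝔽 m) v w) with h | h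
  · rw [h, zero_smul, add_zero, add_zero]
  · rw [h, one_smul, hq, hw, add_zero, h]

theorem card_plus_zeros : 2 * (Nat.card {v : Fin m ⊕ Fin m → 𝔽 // plusForm 𝔽 m v = 0}) = 2 ^ (2 * m) + 2 ^ m := by
  classical
  let χ : 𝔽 → ℤ := fun a => if a = 0 then 1 else -1
  have hχ : ∀ a b, χ (a + b) = χ a * χ b := by decide
  have hχs : ∀ (s : Finset (Fin m)) (f : Fin m → 𝔽), χ (∑ i ∈ s, f i) = ∏ i ∈ s, χ (f i) := by
    intro s f
    induction s using Finset.induction_on with
    | empty => simp [χ]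
    | insert a s ha ih => rw [Finset.sum_insert ha, hχ, ih, Finset.prod_insert ha]
  have hsum : ∑ v, χ (plusForm 𝔽 m v) = 2 ^ m := by
    let e : (Fin m → 𝔽 × 𝔽) ≃ (Fin m ⊕ Fin m → 𝔽) :=
      { toFun := fun p => Sum.elim (fun i => (p i).1) (fun i => (p i).2)
        invFun := fun v i => (v (.inl i), v (.inr i))
        left_inv := fun p => rfl
        right_inv := fun v => funext (Sum.rec (fun _ => rfl) (fun _ => rfl)) }
    rw [← e.sum_comp]
    have h1 : ∀ p, χ (plusForm 𝔽 m (e p)) = ∏ i, χ ((p i).1 * (p i).2) := fun p => by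
      rw [← plusForm_apply, Cfsg.quadFormPlus, hχs]; rfl
    simp only [h1]
    rw [← Fintype.prod_sum (fun _ (x : 𝔽 × 𝔽) => χ (x.1 * x.2))]
    rw [Finset.prod_const, Finset.card_univ, Fintype.card_fin]
    congr 1
  have hcount : ∑ v, (χ (plusForm 𝔽 m v) + 1) = 2 * (Nat.card {v : Fin m ⊕ Fin m → 𝔽 // plusForm 𝔽 m v = 0} : ℤ) := by
    rw [Nat.card_eq_fintype_card, Fintype.card_subtype, Finset.card_filter]
    push_cast
    rw [Finset.mul_sum]
    refine Finset.sum_congr rfl fun v _ => ?_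
    simp only [χ]; split_ifs <;> simp
  rw [Finset.sum_add_distrib, hsum, Finset.sum_const, Finset.card_univ] at hcount
  simp only [Fintype.card_fun, ZMod.card, Fintype.card_sum, Fintype.card_fin, nsmul_eq_mul, mul_one] at hcount
  rw [← two_mul] at hcount
  push_cast at hcount
  zify
  linarith

theorem card_plus_ones :
    2 * (Nat.card {v : Fin m ⊕ Fin m → 𝔽 // plusForm 𝔽 m v = 1}) + 2 ^ m = 2 ^ (2 * m) := by
  classical
  have h0 := card_plus_zeros (m := m)
  have h : Nat.card {v : Fin m ⊕ Fin m → 𝔽 // plusForm 𝔽 m v = 0} +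
      Nat.card {v : Fin m ⊕ Fin m → 𝔽 // plusForm 𝔽 m v = 1} = 2 ^ (2 * m) := by
    have hn : ∀ v : Fin m ⊕ Fin m → 𝔽, plusForm 𝔽 m v = 1 ↔ ¬ plusForm 𝔽 m v = 0 := fun v => by
      rcases twoCases (plusForm 𝔽 m v) with h | h <;> simp [h]
    rw [Nat.card_congr (Equiv.subtypeEquivRight hn), Nat.card_eq_fintype_card, Nat.card_eq_fintype_card,
      Fintype.card_subtype_compl]
    have := Fintype.card_subtype_le (fun v : Fin m ⊕ Fin m → 𝔽 => plusForm 𝔽 m v = 0)
    rw [Fintype.card_fun, ZMod.card, Fintype.card_sum, Fintype.card_fin, ← two_mul] at this ⊢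
    omega
  omega

theorem card_zeros_ne (hm : Nat.card {v : Fin m ⊕ Fin m → 𝔽 // plusForm 𝔽 m v = 0} =
    Nat.card {v : Fin m ⊕ Fin m → 𝔽 // plusForm 𝔽 m v = 1}) : False := by
  have h0 := card_plus_zeros (m := m)
  have h1 := card_plus_ones (m := m)
  rw [hm] at h0
  have : 0 < 2 ^ m := Nat.two_pow_pos m
  omega

theorem card_shift_zeros (w : Fin m ⊕ Fin m → 𝔽) :
    Nat.card {v // shiftFun w v = 0} = Nat.card {v : Fin m ⊕ Fin m → 𝔽 // plusForm 𝔽 m v = plusForm 𝔽 m w} := by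
  refine Nat.card_congr ((Equiv.addRight w).subtypeEquiv fun v => ?_)
  rw [shiftFun_trans, CharTwo.add_eq_zero]
  rfl

/-- `q + B(·, w)` is equivalent to `q` only if `q w = 0`. -/
theorem shift_equiv_iff (a w : Fin m ⊕ Fin m → 𝔽)
    (e : (Fin m ⊕ Fin m → 𝔽) ≃ (Fin m ⊕ Fin m → 𝔽)) (he : ∀ v, shiftFun (a + w) v = shiftFun a (e v)) :
    shiftFun a w = 0 := by
  by_contra h
  have hz : Nat.card {v // shiftFun (a + w) v = 0} = Nat.card {v // shiftFun a v = 0} :=
    Nat.card_congr (e.subtypeEquiv fun v => by rw [he])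
  rw [card_shift_zeros, card_shift_zeros] at hz
  have hne : plusForm 𝔽 m (a + w) ≠ plusForm 𝔽 m a := by
    intro h'
    apply h
    rw [shiftFun_trans, add_comm w a, h', CharTwo.add_self_eq_zero]
  rcases twoCases (plusForm 𝔽 m a) with ha | ha <;> rcases twoCases (plusForm 𝔽 m (a + w)) with hb | hb
  · exact hne (by rw [ha, hb])
  · rw [ha, hb] at hz; exact card_zeros_ne hz.symm
  · rw [ha, hb] at hz; exact card_zeros_ne hz
  · exact hne (by rw [ha, hb])

end CfsgLib.Orth
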