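import Cfsg.Agent.Lib.Classical.OrthApps

/-!
The subgroup generated by the reflections in one square class of norms, odd characteristic.
-/

set_option autoImplicit false
set_option linter.unusedSectionVars false

open QuadraticMap Module
open CfsgLib.Orth

namespace CfsgLib.Orth.ReflClass

variable {F V : Type*} [Field F] [AddCommGroup V] [Module F V] [FiniteDimensional F V]
  {Q : QuadraticForm F V}

/-- The generators: reflections with norm in the class of `c`. -/
def classRefl (Q : QuadraticForm F V) (c : F) : Set (orthGroup Q) :=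
  {g | ∃ (v : V) (t : F), t ≠ 0 ∧ Q v = c * t ^ 2 ∧ g = refl Q v}

theorem refl_smul {s : F} (hs : s ≠ 0) {a : V} (ha : Q a ≠ 0) : refl Q (s • a) = refl Q a := by
  refine Subtype.ext (LinearEquiv.ext fun v => ?_)
  rw [refl_apply, refl_apply, quad_smul', polar_smul_l', smul_smul]
  congr 2
  field_simp

section

variable (hQ : (QuadraticMap.polarBilin Q).Nondegenerate) (h2 : (2 : F) ≠ 0)
include hQ h2

/-- An isometry fixing the orthogonal of an anisotropic vector. -/
theorem fix_hyper {e : V} (he : Q e ≠ 0) (g : orthGroup Q) (hg : ∀ v, polar Q e v = 0 → g.1 v = v) :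
    g = 1 ∨ g = refl Q e := by
  have hee : polar Q e e ≠ 0 := by rw [polar_self']; exact mul_ne_zero h2 he
  have hdec : ∀ v, g.1 v = v + (polar Q e v / polar Q e e) • (g.1 e - e) := fun v => by
    have h0 : polar Q e (v - (polar Q e v / polar Q e e) • e) = 0 := by
      rw [polar_sub_right, polar_smul_r', div_mul_cancel₀ _ hee, sub_self]
    have := hg _ h0
    rw [map_sub, map_smul, sub_eq_iff_eq_add] at this
    rw [this]; module
  set k := polar Q e (g.1 e) / polar Q e e
  have hy : g.1 e = k • e := by
    refine sub_eq_zero.1 (eq_zero_of_polar hQ fun v => ?_)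
    have hsplit : v = (v - (polar Q e v / polar Q e e) • e) + (polar Q e v / polar Q e e) • e := by abel
    have h0 : polar Q e (v - (polar Q e v / polar Q e e) • e) = 0 := by
      rw [polar_sub_right, polar_smul_r', div_mul_cancel₀ _ hee, sub_self]
    rw [hsplit, polar_add_right, polar_smul_r']
    have h1 : polar Q (g.1 e - k • e) (v - (polar Q e v / polar Q e e) • e) = 0 := by
      rw [polar_sub_left, polar_smul_l', h0, mul_zero, sub_zero]
      conv_lhs => rw [← hg _ h0]
      rw [polar_isom, h0]
    have h3 : polar Q (g.1 e - k • e) e = 0 := by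
      rw [polar_sub_left, polar_smul_l', polar_comm, div_mul_cancel₀ _ hee, sub_self]
    rw [h1, h3]; ring
  have hk : k * k = 1 := by
    have := apply_quad g e
    rw [hy, quad_smul'] at this
    exact mul_right_cancel₀ he (this.trans (one_mul _).symm)
  rcases mul_self_eq_one_iff.1 hk with h | h <;> rw [h] at hy
  · refine Or.inl (Subtype.ext (LinearEquiv.ext fun v => ?_))
    rw [hdec v, hy, one_smul, sub_self, smul_zero, add_zero]
    rfl
  · refine Or.inr (Subtype.ext (LinearEquiv.ext fun v => ?_))
    rw [hdec v, hy, refl_apply, polar_self']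
    match_scalars <;> field_simp <;> ring

variable [Fintype F] [Finite V]

theorem exists_comb {α β : F} (hα : α ≠ 0) (hβ : β ≠ 0) (c : F) : ∃ s t : F, α * s ^ 2 + β * t ^ 2 = c := by
  obtain ⟨s, t, h⟩ := FiniteField.exists_root_sum_quadratic
    (f := Polynomial.C α * Polynomial.X ^ 2)
    (g := Polynomial.C β * Polynomial.X ^ 2 - Polynomial.C c)
    (Polynomial.degree_C_mul_X_pow 2 hα)
    (by rw [Polynomial.degree_sub_C (by rw [Polynomial.degree_C_mul_X_pow 2 hβ]; norm_num),
          Polynomial.degree_C_mul_X_pow 2 hβ]; rfl)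
    (FiniteField.odd_card_of_char_ne_two fun hc => h2 (by
      have := ringChar.of_eq hc
      exact CharTwo.two_eq_zero))
  simp at h
  exact ⟨s, t, by linear_combination h⟩

variable (c : F) (hc : c ≠ 0) (χ : orthGroup Q →* ℤˣ)
  (hχ : ∀ g, (((χ g : ℤˣ) : ℤ) : F) = LinearMap.det (g.1 : V →ₗ[F] V))
include hc hχ

theorem chi_refl {a : V} (ha : Q a ≠ 0) : χ (refl Q a) = -1 := by
  rcases Int.units_eq_one_or (χ (refl Q a)) with h | h
  · have := hχ (refl Q a)
    rw [h, det_refl Q ha] at this
    exact absurd (by linear_combination (by simpa using this : (1 : F) = -1)) h2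
  · exact h

theorem psi_refl {a : V} (ha : Q a ≠ 0) :
    (χ * levelSign Q c) (refl Q a) = 1 ↔ IsSquare (c * Q a) := by
  classical
  rw [MonoidHom.mul_apply, chi_refl hQ h2 c hc χ hχ ha, levelSign_refl Q h2 hc ha]
  split_ifs with h <;> simp [h]

theorem mem_of_class {a : V} (ha : Q a ≠ 0) (h : IsSquare (c * Q a)) :
    refl Q a ∈ Subgroup.closure (classRefl Q c) := by
  obtain ⟨r, hr⟩ := h
  refine Subgroup.subset_closure ⟨a, r / c, ?_, ?_, rfl⟩
  · intro h0
    rcases div_eq_zero_iff.1 h0 with h0 | h0
    · rw [h0, mul_zero] at hr; exact mul_ne_zero hc ha hr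
    · exact hc h0
  · field_simp
    linear_combination hr

/-- Two reflections of one class spanning a non-degenerate plane. -/
theorem plane {a b : V} (ha : Q a ≠ 0) (hb : Q b ≠ 0)
    (hψ : (χ * levelSign Q c) (refl Q a) = (χ * levelSign Q c) (refl Q b))
    (hd : polar Q a b * polar Q a b ≠ 4 * (Q a * Q b)) :
    refl Q a * refl Q b ∈ Subgroup.closure (classRefl Q c) := by
  set l := polar Q a b / (2 * Q a) with hl
  set e := b - l • a with he
  have hae : polar Q a e = 0 := by
    rw [he, polar_sub_right, polar_smul_r', polar_self', hl, div_mul_cancel₀ _ (mul_ne_zero h2 ha), sub_self]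
  have hQb : Q b = Q e + l * l * Q a := by
    have := QuadraticMap.map_add Q e (l • a)
    rw [show e + l • a = b by rw [he]; abel, quad_smul', polar_smul_r', polar_comm _ e a, hae] at this
    linear_combination this
  have hQe : Q e ≠ 0 := fun h0 => hd (by
    rw [hQb, h0, hl]; field_simp; ring)
  obtain ⟨s, t, hst⟩ := exists_comb hQ h2 ha hQe c
  set u := s • a + t • e with hu
  set u' := (-(t * Q e)) • a + (s * Q a) • e with hu'
  have hQu : Q u = c := by
    rw [hu, QuadraticMap.map_add Q, quad_smul', quad_smul', polar_smul_l', polar_smul_r', hae, ← hst]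
    ring
  have hQu' : Q u' = Q a * Q e * c := by
    rw [hu', QuadraticMap.map_add Q, quad_smul', quad_smul', polar_smul_l', polar_smul_r', hae, ← hst]
    ring
  have hu'0 : Q u' ≠ 0 := by rw [hQu']; exact mul_ne_zero (mul_ne_zero ha hQe) hc
  have huu : polar Q u' u = 0 := by
    rw [hu, hu']
    simp only [polar_add_left, polar_add_right, polar_smul_l', polar_smul_r', polar_self', hae,
      polar_comm _ e a]
    ring
  have huq : Q u ≠ 0 := by rw [hQu]; exact hc
  -- vectors orthogonal to the plane
  have hfix : ∀ v, polar Q a v = 0 → polar Q e v = 0 →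
      (refl Q a * refl Q b * refl Q u).1 v = v := fun v h1 h3 => by
    have hbv : polar Q b v = 0 := by
      rw [show b = e + l • a by rw [he]; abel, polar_add_left, polar_smul_l', h1, h3]; ring
    have huv : polar Q u v = 0 := by rw [hu, polar_add_left, polar_smul_l', polar_smul_l', h1, h3]; ring
    show (refl Q a).1 ((refl Q b).1 ((refl Q u).1 v)) = v
    simp [refl_apply, h1, hbv, huv]
  have hperp : ∀ v, polar Q u v = 0 → polar Q u' v = 0 → polar Q a v = 0 ∧ polar Q e v = 0 := by
    intro v h1 h3
    rw [hu, polar_add_left, polar_smul_l', polar_smul_l'] at h1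
    rw [hu', polar_add_left, polar_smul_l', polar_smul_l'] at h3
    constructor
    · have : c * polar Q a v = 0 := by
        rw [← hst]; linear_combination (s * Q a) * h1 - t * h3
      exact (mul_eq_zero.1 this).resolve_left hc
    · have : c * polar Q e v = 0 := by
        rw [← hst]; linear_combination (t * Q e) * h1 + s * h3
      exact (mul_eq_zero.1 this).resolve_left hc
  set h := refl Q a * refl Q b * refl Q u with hh
  have hχh : χ h = -1 := by
    rw [hh, map_mul, map_mul, chi_refl hQ h2 c hc χ hχ ha, chi_refl hQ h2 c hc χ hχ hb,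
      chi_refl hQ h2 c hc χ hχ huq]
    rfl
  have key : ∀ g : orthGroup Q, (∀ v, polar Q a v = 0 → polar Q e v = 0 → g.1 v = v) → g.1 u = u →
      g = 1 ∨ g = refl Q u' := fun g hg hgu => fix_hyper hQ h2 hu'0 g fun v hv => by
    have hc2 : polar Q u u ≠ 0 := by rw [polar_self']; exact mul_ne_zero h2 huq
    set k := polar Q u v / polar Q u u
    have h1 : polar Q u (v - k • u) = 0 := by
      rw [polar_sub_right, polar_smul_r', div_mul_cancel₀ _ hc2, sub_self]
    have h3 : polar Q u' (v - k • u) = 0 := by rw [polar_sub_right, polar_smul_r', hv, huu]; ring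
    obtain ⟨h4, h5⟩ := hperp _ h1 h3
    have := hg _ h4 h5
    rw [map_sub, map_smul, hgu] at this
    exact sub_left_inj.1 this
  obtain ⟨x, hx, hxe⟩ : ∃ x, Q x ≠ 0 ∧ h = refl Q x := by
    by_cases hhu : h.1 u = u
    · rcases key h hfix hhu with h' | h'
      · rw [h', map_one] at hχh; exact absurd hχh (by decide)
      · exact ⟨u', hu'0, h'⟩
    · set x := h.1 u - u with hxd
      have hx0 : Q x ≠ 0 := by
        intro hx0
        apply hhu
        have hpu : polar Q u x = 0 := by
          have h1 := QuadraticMap.map_add Q u x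
          rw [show u + x = h.1 u by rw [hxd]; abel, apply_quad, hx0] at h1
          linear_combination -h1
        -- `x` is orthogonal to the fixed vectors, hence in the plane
        set k := polar Q u' x / polar Q u' u'
        have hu'u' : polar Q u' u' ≠ 0 := by rw [polar_self']; exact mul_ne_zero h2 hu'0
        have hxk : x = k • u' := by
          refine sub_eq_zero.1 (eq_zero_of_polar hQ fun v => ?_)
          set i := polar Q u v / polar Q u u
          set j := polar Q u' v / polar Q u' u'
          have hc2 : polar Q u u ≠ 0 := by rw [polar_self']; exact mul_ne_zero h2 huq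
          set w := v - i • u - j • u' with hw
          have h1 : polar Q u w = 0 := by
            rw [hw, polar_sub_right, polar_sub_right, polar_smul_r', polar_smul_r', div_mul_cancel₀ _ hc2,
              polar_comm _ u u', huu]; ring
          have h3 : polar Q u' w = 0 := by
            rw [hw, polar_sub_right, polar_sub_right, polar_smul_r', polar_smul_r', huu,
              div_mul_cancel₀ _ hu'u']; ring
          obtain ⟨h4, h5⟩ := hperp _ h1 h3
          have h6 : polar Q (x - k • u') w = 0 := by
            rw [polar_sub_left, polar_smul_l', h3, hxd, polar_sub_left]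
            conv_lhs => arg 1; arg 1; rw [← hfix w h4 h5]
            rw [polar_isom, h1]; ring
          rw [show v = w + i • u + j • u' by rw [hw]; abel, polar_add_right, polar_add_right, h6,
            polar_smul_r', polar_smul_r']
          simp only [polar_sub_left, polar_smul_l']
          rw [polar_comm _ x u, hpu, huu, polar_comm _ x u', div_mul_cancel₀ _ hu'u']
          ring
        have hk0 : k = 0 := by
          rw [hxk, quad_smul'] at hx0
          rcases mul_eq_zero.1 hx0 with h' | h'
          · exact mul_self_eq_zero.1 h'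
          · exact absurd h' hu'0
        rw [hk0, zero_smul, sub_eq_zero] at hxk
        exact hxk
      refine ⟨x, hx0, ?_⟩
      have hg : refl Q x * h = 1 := by
        have h1 := key (refl Q x * h) (fun v h4 h5 => by
          show (refl Q x).1 (h.1 v) = v
          rw [hfix v h4 h5, refl_apply, show polar Q x v = 0 by
            rw [hxd, polar_sub_left, show polar Q (h.1 u) v = polar Q u v by
              rw [← polar_isom h u v, hfix v h4 h5]]
            exact sub_self _, mul_zero, zero_smul, sub_zero]) (by
          show (refl Q x).1 (h.1 u) = u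
          rw [refl_apply]
          have hp : polar Q x (h.1 u) = Q x := by
            have h7 := QuadraticMap.map_add Q (h.1 u) (-u)
            rw [← sub_eq_add_neg, ← hxd, QuadraticMap.map_neg, polar_neg_right] at h7
            rw [hxd, polar_sub_left, polar_self', polar_comm _ u, ← hxd, h7, apply_quad]
            ring
          rw [hp, inv_mul_cancel₀ hx0, one_smul, hxd]; abel)
        refine h1.resolve_right fun h' => ?_
        have := congrArg χ h'
        rw [map_mul, hχh, chi_refl hQ h2 c hc χ hχ hx0, chi_refl hQ h2 c hc χ hχ hu'0] at this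
        exact absurd this (by decide)
      rw [← refl_inv Q x]
      exact eq_inv_of_mul_eq_one_right hg
  have hcu : IsSquare (c * Q u) := ⟨c, by rw [hQu]⟩
  have hcx : IsSquare (c * Q x) := (psi_refl hQ h2 c hc χ hχ hx).1 (by
    rw [← hxe, hh, map_mul, map_mul, hψ, Int.units_mul_self, one_mul]
    exact (psi_refl hQ h2 c hc χ hχ huq).2 hcu)
  have : refl Q a * refl Q b = refl Q x * refl Q u := by
    rw [← hxe, hh, mul_assoc _ (refl Q u), refl_mul_self, mul_one]
  rw [this]
  exact mul_mem (mem_of_class hQ h2 c hc χ hχ hx hcx) (mem_of_class hQ h2 c hc χ hχ huq hcu)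

/-- Any two reflections of one class. -/
theorem pair (h43 : ¬ (finrank F V = 4 ∧ Fintype.card F = 3)) (heven : Even (finrank F V))
    (hn : 2 ≤ finrank F V) {a b : V} (ha : Q a ≠ 0) (hb : Q b ≠ 0)
    (hψ : (χ * levelSign Q c) (refl Q a) = (χ * levelSign Q c) (refl Q b)) :
    refl Q a * refl Q b ∈ Subgroup.closure (classRefl Q c) := by
  classical
  by_cases hd : polar Q a b * polar Q a b = 4 * (Q a * Q b)
  swap
  · exact plane hQ h2 c hc χ hχ ha hb hψ hd
  set l := polar Q a b / (2 * Q a) with hl
  set z := b - l • a with hz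
  have haz : polar Q a z = 0 := by
    rw [hz, polar_sub_right, polar_smul_r', polar_self', hl, div_mul_cancel₀ _ (mul_ne_zero h2 ha), sub_self]
  have hQb : Q b = l * l * Q a := by
    rw [hl]; field_simp; linear_combination -hd
  have hQz : Q z = 0 := by
    have := QuadraticMap.map_add Q z (l • a)
    rw [show z + l • a = b by rw [hz]; abel, quad_smul', polar_smul_r', polar_comm _ z a, haz] at this
    linear_combination hQb - this
  have hl0 : l ≠ 0 := fun e => hb (by rw [hQb, e]; ring)
  by_cases hz0 : z = 0
  · have : b = l • a := sub_eq_zero.1 hz0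
    rw [this, refl_smul hl0 ha, refl_mul_self]
    exact one_mem _
  have hzz : polar Q z z = 0 := by rw [polar_self', hQz, mul_zero]
  have hza : z ∉ F ∙ a := fun hm => by
    obtain ⟨r, hr⟩ := Submodule.mem_span_singleton.1 hm
    rw [← hr, polar_smul_r', polar_self', mul_eq_zero] at haz
    rcases haz with h' | h'
    · exact hz0 (by rw [← hr, h', zero_smul])
    · exact mul_ne_zero h2 ha h'
  obtain ⟨w₀, hw₀, hw₁⟩ := exists_polar_one hQ hza
  have hw₀a : polar Q w₀ a = 0 := hw₀ a (Submodule.mem_span_singleton_self a)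
  set z' := w₀ - Q w₀ • z with hz'
  have hz'z : polar Q z' z = 1 := by rw [hz', polar_sub_left, polar_smul_l', hzz, hw₁]; ring
  have hz'a : polar Q a z' = 0 := by
    rw [hz', polar_sub_right, polar_smul_r', haz, polar_comm, hw₀a]; ring
  have hQz' : Q z' = 0 := by
    rw [hz', sub_eq_add_neg, QuadraticMap.map_add Q, QuadraticMap.map_neg, quad_smul', polar_neg_right,
      polar_smul_r', hw₁, hQz]; ring
  -- a middle vector
  obtain ⟨x, hxa, hxq, hxb⟩ : ∃ x, polar Q a x = 0 ∧ Q x = Q a ∧
      polar Q x b * polar Q x b ≠ 4 * (Q x * Q b) := by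
    by_cases hq : Fintype.card F = 3
    · set W := LinearMap.BilinForm.orthogonal (polarBilin Q) (Submodule.span F ({a, z} : Set V))
      have hrefl : LinearMap.BilinForm.IsRefl (polarBilin Q) := fun u v h => by
        change polar Q v u = 0
        rw [polar_comm]; exact h
      have hle : finrank F ↥(W ⊓ LinearMap.BilinForm.orthogonal (polarBilin Q) W) ≤ 2 := by
        refine le_trans (Submodule.finrank_mono inf_le_right) ?_
        rw [LinearMap.BilinForm.orthogonal_orthogonal hQ hrefl]
        refine le_trans (finrank_span_le_card _) ?_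
        rw [Set.toFinset_insert, Set.toFinset_singleton]
        exact Finset.card_le_two
      have hW : finrank F V - 2 ≤ finrank F W := by
        rw [LinearMap.BilinForm.finrank_orthogonal hQ]
        have : finrank F (Submodule.span F ({a, z} : Set V)) ≤ 2 := by
          refine le_trans (finrank_span_le_card _) ?_
          rw [Set.toFinset_insert, Set.toFinset_singleton]
          exact Finset.card_le_two
        omega
      have h6 : 6 ≤ finrank F V := by
        obtain ⟨m, hm⟩ := heven
        rcases Nat.lt_or_ge (finrank F V) 4 with h' | h'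
        · exfalso
          have hm1 : finrank F V = 2 := by omega
          have hsub : LinearIndependent F ![a, z, z'] := by
            rw [Fintype.linearIndependent_iff]
            intro g hg
            simp [Fin.sum_univ_three] at hg
            have e1 := congrArg (polar Q a) hg
            have e2 := congrArg (polar Q z) hg
            have e3 := congrArg (polar Q z') hg
            simp [polar_add_right, polar_smul_r', haz, hz'a, polar_self', hzz, hQz', hz'z, polar_comm _ z a,
              polar_comm _ z z', polar_comm _ z' a, h2, ha] at e1 e2 e3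
            intro i; fin_cases i <;> assumption
          have := hsub.fintype_card_le_finrank
          simp at this; omega
        · omega
      obtain ⟨x, hx, hxq⟩ := exists_value (Q := Q) W (by omega) (Q a)
      have hxa : polar Q a x = 0 := hx a (Submodule.subset_span (by simp))
      have hxz : polar Q z x = 0 := hx z (Submodule.subset_span (by simp))
      refine ⟨x, hxa, hxq, ?_⟩
      rw [show b = z + l • a by rw [hz]; abel, polar_add_right, polar_smul_r', polar_comm _ x z, hxz,
        polar_comm _ x a, hxa, ← show Q b = Q (z + l • a) by rw [hz]; simp]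
      rw [hxq]
      simpa using (mul_ne_zero (show (4 : F) ≠ 0 by
        rw [show (4 : F) = 2 * 2 by norm_num]; exact mul_ne_zero h2 h2) (mul_ne_zero ha hb)).symm
    · obtain ⟨t, ht⟩ : ∃ t : F, t ∉ ({0, 2 * l * Q a, -(2 * l * Q a)} : Finset F) := by
        by_contra h'
        push Not at h'
        have : Fintype.card F ≤ 3 := by
          rw [← Finset.card_univ]
          exact (Finset.card_le_card fun t _ => h' t).trans Finset.card_le_three
        have h5 := FiniteField.odd_card_of_char_ne_two (F := F) fun hc => h2 (by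
          have := ringChar.of_eq hc
          exact CharTwo.two_eq_zero)
        have := Fintype.one_lt_card (α := F)
        omega
      simp only [Finset.mem_insert, Finset.mem_singleton, not_or] at ht
      obtain ⟨ht0, ht1, ht2⟩ := ht
      set x := t • z' + (Q a / t) • z with hx
      have hxq : Q x = Q a := by
        rw [hx, QuadraticMap.map_add Q, quad_smul', quad_smul', polar_smul_l', polar_smul_r', hz'z, hQz, hQz']
        field_simp; ring
      have hxa : polar Q a x = 0 := by
        rw [hx, polar_add_right, polar_smul_r', polar_smul_r', hz'a, haz]; ring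
      refine ⟨x, hxa, hxq, fun h' => ?_⟩
      have hxb' : polar Q x b = t := by
        rw [show b = z + l • a by rw [hz]; abel, polar_add_right, polar_smul_r', polar_comm _ x a, hxa,
          hx, polar_add_left, polar_smul_l', polar_smul_l', hz'z, hzz]
        ring
      rw [hxb', hxq, hQb] at h'
      have : (t - 2 * l * Q a) * (t - -(2 * l * Q a)) = 0 := by linear_combination h'
      rcases mul_eq_zero.1 this with e | e
      · exact ht1 (sub_eq_zero.1 e)
      · exact ht2 (sub_eq_zero.1 e)
  have hx : Q x ≠ 0 := hxq ▸ ha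
  have hψx : (χ * levelSign Q c) (refl Q x) = (χ * levelSign Q c) (refl Q a) := by
    have e1 := psi_refl hQ h2 c hc χ hχ hx
    have e2 := psi_refl hQ h2 c hc χ hχ ha
    rw [hxq] at e1
    rcases Int.units_eq_one_or ((χ * levelSign Q c) (refl Q x)) with h1 | h1 <;>
      rcases Int.units_eq_one_or ((χ * levelSign Q c) (refl Q a)) with h3 | h3 <;>
      simp_all
  have hd1 : polar Q a x * polar Q a x ≠ 4 * (Q a * Q x) := by
    rw [hxa, hxq, mul_zero]
    exact (mul_ne_zero (show (4 : F) ≠ 0 by rw [show (4 : F) = 2 * 2 by norm_num]; exact mul_ne_zero h2 h2)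
      (mul_ne_zero ha ha)).symm
  have : refl Q a * refl Q b = (refl Q a * refl Q x) * (refl Q x * refl Q b) := by
    rw [mul_assoc, ← mul_assoc (refl Q x), refl_mul_self, one_mul]
  rw [this]
  exact mul_mem (plane hQ h2 c hc χ hχ ha hx hψx.symm hd1)
    (plane hQ h2 c hc χ hχ hx hb (hψx.trans hψ) hxb)

end

/-- The index is two. -/
theorem index_classRefl [Fintype F] [Finite V] (hQ : (QuadraticMap.polarBilin Q).Nondegenerate)
    (h2 : (2 : F) ≠ 0) (c : F) (hc : c ≠ 0) (h43 : ¬ (finrank F V = 4 ∧ Fintype.card F = 3))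
    (heven : Even (finrank F V)) (hn : 2 ≤ finrank F V) :
    (Subgroup.closure (classRefl Q c)).index = 2 := by
  classical
  obtain ⟨χ, hχ⟩ := CfsgLib.Classical.exists_detSign hQ (good_of_two_ne h2) h2
  set ψ := χ * levelSign Q c with hψd
  set H := Subgroup.closure (classRefl Q c) with hHd
  have hnorm : ∀ g x : orthGroup Q, x ∈ H → g * x * g⁻¹ ∈ H := by
    intro g x hx
    refine Subgroup.closure_induction (p := fun x _ => g * x * g⁻¹ ∈ H) ?_ ?_ ?_ ?_ hx
    · rintro _ ⟨v, t, ht, hv, rfl⟩
      exact Subgroup.subset_closure ⟨g.1 v, t, ht, by rw [apply_quad, hv], conj_refl Q g v⟩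
    · simp [one_mem]
    · intro x y _ _ hx hy
      rw [conj_mul.symm]
      exact mul_mem hx hy
    · intro x _ hx
      rw [conj_inv.symm]
      exact inv_mem hx
  obtain ⟨r, hr0, hr⟩ : ∃ r : V, Q r ≠ 0 ∧ ψ (refl Q r) = -1 := by
    obtain ⟨ε, hε⟩ := FiniteField.exists_nonsquare (F := F) (fun h => h2 (by
      have := ringChar.of_eq h
      exact CharTwo.two_eq_zero))
    obtain ⟨r, hr⟩ := CfsgLib.Classical.exists_value_top hQ hn (c * ε)
    have hr0 : Q r ≠ 0 := hr ▸ mul_ne_zero hc fun e => hε (e ▸ IsSquare.zero)
    refine ⟨r, hr0, (Int.units_eq_one_or _).resolve_left fun h => hε ?_⟩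
    obtain ⟨s, hs⟩ := (psi_refl hQ h2 c hc χ hχ hr0).1 h
    exact ⟨s / c, by rw [hr] at hs; field_simp; linear_combination hs⟩
  have key : ∀ g, g ∈ reflGroup Q →
      (ψ g = 1 ∧ g ∈ H) ∨ (ψ g = -1 ∧ refl Q r * g ∈ H) := by
    intro g hg
    refine Subgroup.closure_induction (p := fun g _ => (ψ g = 1 ∧ g ∈ H) ∨ (ψ g = -1 ∧ refl Q r * g ∈ H))
      ?_ (Or.inl ⟨map_one _, one_mem _⟩) ?_ ?_ hg
    · rintro _ ⟨a, rfl⟩
      by_cases ha : Q a = 0
      · rw [CfsgLib.Classical.refl_eq_one ha]; exact Or.inl ⟨map_one _, one_mem _⟩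
      rcases Int.units_eq_one_or (ψ (refl Q a)) with h | h
      · exact Or.inl ⟨h, mem_of_class hQ h2 c hc χ hχ ha ((psi_refl hQ h2 c hc χ hχ ha).1 h)⟩
      · exact Or.inr ⟨h, pair hQ h2 c hc χ hχ h43 heven hn hr0 ha (hr.trans h.symm)⟩
    · intro x y _ _ hx hy
      rcases hx with ⟨x1, x2⟩ | ⟨x1, x2⟩ <;> rcases hy with ⟨y1, y2⟩ | ⟨y1, y2⟩ <;>
        rw [map_mul, x1, y1]
      · exact Or.inl ⟨one_mul 1, mul_mem x2 y2⟩
      · refine Or.inr ⟨one_mul _, ?_⟩
        rw [show refl Q r * (x * y) = (refl Q r * x * (refl Q r)⁻¹) * (refl Q r * y) by group]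
        exact mul_mem (hnorm _ _ x2) y2
      · exact Or.inr ⟨mul_one _, by rw [← mul_assoc]; exact mul_mem x2 y2⟩
      · refine Or.inl ⟨by simp, ?_⟩
        rw [show x * y = ((refl Q r)⁻¹ * (refl Q r * x) * ((refl Q r)⁻¹)⁻¹) *
          ((refl Q r * refl Q r)⁻¹ * (refl Q r * y)) by group, refl_mul_self, inv_one, one_mul]
        exact mul_mem (hnorm _ _ x2) y2
    · intro x _ hx
      rcases hx with ⟨x1, x2⟩ | ⟨x1, x2⟩ <;> rw [map_inv, x1]
      · exact Or.inl ⟨inv_one, inv_mem x2⟩
      · refine Or.inr ⟨by simp, ?_⟩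
        rw [show refl Q r * x⁻¹ = refl Q r * (refl Q r * x)⁻¹ * (refl Q r)⁻¹ * (refl Q r * refl Q r) by group,
          refl_mul_self, mul_one]
        exact hnorm _ _ (inv_mem x2)
  have hall : ∀ g, (ψ g = 1 ∧ g ∈ H) ∨ (ψ g = -1 ∧ refl Q r * g ∈ H) := fun g =>
    key g (by rw [reflGroup_eq_top hQ (good_of_two_ne h2)]; trivial)
  have hHle : H ≤ ψ.ker := by
    rw [hHd, Subgroup.closure_le]
    rintro _ ⟨v, t, ht, hv, rfl⟩
    have h0 : Q v ≠ 0 := hv ▸ mul_ne_zero hc (pow_ne_zero _ ht)
    exact (psi_refl hQ h2 c hc χ hχ h0).2 ⟨c * t, by rw [hv]; ring⟩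
  have hH : H = ψ.ker := by
    refine le_antisymm hHle fun g hg => ?_
    rcases hall g with ⟨-, h⟩ | ⟨h, -⟩
    · exact h
    · rw [MonoidHom.mem_ker] at hg
      rw [hg] at h
      exact absurd h (by decide)
  rw [hH, Subgroup.index_ker]
  have : ψ.range = ⊤ := top_unique fun u _ => by
    rcases Int.units_eq_one_or u with rfl | rfl
    · exact one_mem _
    · exact ⟨_, hr⟩
  rw [this]
  simp

/-- The matrix form. -/
theorem index_reflectionMatrix {F : Type*} [Field F] [Fintype F] (h2 : (2 : F) ≠ 0) {n : ℕ} (hn : 2 ≤ n)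
    (heven : Even n) (Q : QuadraticForm F (Fin n → F)) (hQ : (QuadraticMap.polarBilin Q).Nondegenerate)
    (h43 : ¬ (n = 4 ∧ Fintype.card F = 3)) (c : F) (hc : c ≠ 0) :
    (Subgroup.closure {g : ↥(Cfsg.isometryGroup F ⇑Q) | ∃ (v : Fin n → F) (t : F), t ≠ 0 ∧ Q v = c * t ^ 2 ∧
      ((g : Matrix.GeneralLinearGroup (Fin n) F) : Matrix (Fin n) (Fin n) F) =
        Cfsg.reflectionMatrix ⇑Q v}).index = 2 := by
  set e := toOrth (Qf := ⇑Q) Q (fun _ => rfl)
  have hfr : finrank F (Fin n → F) = n := Module.finrank_fin_fun F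
  have h := index_classRefl hQ h2 c hc (by rwa [hfr]) (by rwa [hfr]) (by rwa [hfr])
  rw [← Subgroup.index_map_equiv _ e]
  refine Eq.trans ?_ h
  congr 1
  show Subgroup.map e.toMonoidHom _ = _
  rw [MonoidHom.map_closure]
  congr 1
  ext g
  constructor
  · rintro ⟨g', ⟨v, t, ht, hv, hm⟩, rfl⟩
    refine ⟨v, t, ht, hv, e.symm.injective ?_⟩
    show e.symm (e g') = _
    rw [e.symm_apply_apply]
    exact Subtype.ext (Units.ext (hm.trans (matOf_refl Q v).symm))
  · rintro ⟨v, t, ht, hv, rfl⟩
    exact ⟨e.symm (refl Q v), ⟨v, t, ht, hv, matOf_refl Q v⟩, e.apply_symm_apply _⟩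

end CfsgLib.Orth.ReflClass
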