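import Cfsg.Agent.Lib.KnownC.OrthSign
import Cfsg.Agent.Lib.KnownC.FormConj
import Cfsg.Agent.Lib.Orth.TorusSign
import Cfsg.Agent.NumberTheory.PrimitivePrime
import Cfsg.Agent.NumberTheory.PrimitivePart

set_option autoImplicit false
set_option linter.unusedSectionVars false

/-!
In `Ω(2m+3, q)`, `q` odd, no element has order `p * (q ^ (m+1) + 1)`.
-/

namespace CfsgLib.Orth.SingerUnipotent

open Module QuadraticMap CfsgLib.Classical CfsgLib.KnownC.OrthSign
open scoped Polynomial

universe u₀

variable {F : Type u₀} [Field F] [Fintype F] {p : ℕ} [Fact p.Prime] [CharP F p]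

theorem three_le_char (h2 : (2 : F) ≠ 0) : 3 ≤ p := by
  have h := (Fact.out : p.Prime).two_le
  by_contra h'
  have : p = 2 := by omega
  subst this
  exact h2 (CharTwo.two_eq_zero)

section Three

variable {U : Type*} [AddCommGroup U] [Module F U] [FiniteDimensional F U] {R : QuadraticForm F U}

theorem eq_smul_of_commute_unipotent (h2 : (2 : F) ≠ 0) (hR : (QuadraticMap.polarBilin R).Nondegenerate)
    (hd : finrank F U = 3) (u c : Module.End F U) (hu : ∀ x, R (u x) = R x) (hu1 : u ≠ 1) (hup : u ^ p = 1)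
    (hcu : Commute c u) {N : ℕ} (hcN : c ^ N = 1) (hNp : N.Coprime p) (hc : ∀ x, R (c x) = R x) :
    c = 1 ∨ c = -1 := by
  classical
  haveI : Nontrivial U := Module.nontrivial_of_finrank_eq_succ hd
  haveI : CharP (Module.End F U) p :=
    charP_of_injective_algebraMap (algebraMap F (Module.End F U)).injective p
  set A : Module.End F U := u - 1 with hA
  have hAx : ∀ x, A x = u x - x := fun x => rfl
  have hAp : A ^ p = 0 := by
    rw [hA, sub_pow_char_of_commute (p := p) (Commute.one_right u), hup, one_pow, sub_self]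
  have hA3 : ∀ x, A (A (A x)) = 0 := fun x => by
    have h := LinearMap.aeval_self_charpoly A
    rw [IsNilpotent.charpoly_eq_X_pow_finrank ⟨p, hAp⟩, hd, map_pow, Polynomial.aeval_X] at h
    exact LinearMap.congr_fun h x
  have hskew : ∀ x y, polar R (A x) y + polar R x (A y) + polar R (A x) (A y) = 0 := fun x y => by
    have h : polar R (u x) (u y) = polar R x y := by simp only [polar, ← map_add, hu]
    rw [show u x = x + A x by rw [hAx]; abel, show u y = y + A y by rw [hAx]; abel, polar_add_left,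
      polar_add_right, polar_add_right] at h
    linear_combination h
  have hA0 : A ≠ 0 := sub_ne_zero.2 hu1
  obtain ⟨x₀, hx₀⟩ : ∃ x, A (A x) ≠ 0 := by
    by_contra hne
    push Not at hne
    have hAA : ∀ x y, polar R (A x) (A y) = 0 := fun x y => by
      have h := hskew x (A y)
      rw [hne, polar_zero_right, polar_zero_right, add_zero, add_zero] at h
      exact h
    have hself : ∀ x, polar R x (A x) = 0 := fun x => by
      have h := hskew x x
      rw [hAA, add_zero, polar_comm _ (A x) x, ← two_mul] at h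
      exact (mul_eq_zero.1 h).resolve_left h2
    have hr1 : finrank F (LinearMap.range A) ≤ 1 := by
      have h1 := LinearMap.finrank_range_add_finrank_ker A
      have h3 : LinearMap.range A ≤ LinearMap.ker A := by
        rintro _ ⟨x, rfl⟩
        exact LinearMap.mem_ker.2 (hne x)
      have := Submodule.finrank_mono h3
      omega
    obtain ⟨x₁, hx₁⟩ : ∃ x, A x ≠ 0 := by
      by_contra h
      push Not at h
      exact hA0 (LinearMap.ext h)
    obtain ⟨y₁, hy₁⟩ : ∃ y, polar R y (A x₁) ≠ 0 := by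
      by_contra h
      push Not at h
      exact hx₁ (hR.2 _ h)
    have hline : ∀ x, ∃ c : F, A x = c • A x₁ := fun x => by
      have hspan : (F ∙ A x₁) = LinearMap.range A := Submodule.eq_of_le_of_finrank_le
        ((Submodule.span_singleton_le_iff_mem _ _).2 (LinearMap.mem_range_self A x₁))
        (by rw [finrank_span_singleton hx₁]; exact hr1)
      obtain ⟨c, hc⟩ := Submodule.mem_span_singleton.1 (hspan.symm ▸ LinearMap.mem_range_self A x : A x ∈ F ∙ A x₁)
      exact ⟨c, hc.symm⟩
    obtain ⟨c₁, hc₁⟩ := hline y₁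
    have h1 := hself y₁
    rw [hc₁, polar_smul_r'] at h1
    have hc0 : c₁ = 0 := (mul_eq_zero.1 h1).resolve_right hy₁
    have h3 := hself (x₁ + y₁)
    rw [map_add, hc₁, hc0, zero_smul, add_zero, polar_add_left, hself, zero_add] at h3
    exact hy₁ h3
  let b : Fin 3 → U := ![x₀, A x₀, A (A x₀)]
  have hli : LinearIndependent F b := by
    rw [Fintype.linearIndependent_iff]
    intro g hg
    simp only [b, Fin.sum_univ_three, Matrix.cons_val_zero, Matrix.cons_val_one, Matrix.cons_val] at hg
    have e1 := congrArg (fun v => A (A v)) hg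
    simp only [map_add, map_smul, hA3, map_zero, smul_zero, add_zero] at e1
    have g0 : g 0 = 0 := (smul_eq_zero.1 e1).resolve_right hx₀
    rw [g0, zero_smul, zero_add] at hg
    have e2 := congrArg A hg
    simp only [map_add, map_smul, hA3, map_zero, smul_zero, add_zero] at e2
    have g1 : g 1 = 0 := (smul_eq_zero.1 e2).resolve_right hx₀
    rw [g1, zero_smul, zero_add] at hg
    have g2 : g 2 = 0 := (smul_eq_zero.1 hg).resolve_right hx₀
    intro i; fin_cases i <;> assumption
  let B := basisOfLinearIndependentOfCardEqFinrank hli (by simp [hd])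
  have hB : ∀ i, B i = b i := fun i => by simp [B, coe_basisOfLinearIndependentOfCardEqFinrank]
  set a : Fin 3 → F := fun i => B.repr (c x₀) i with ha
  have hcx : c x₀ = a 0 • x₀ + a 1 • A x₀ + a 2 • A (A x₀) := by
    conv_lhs => rw [← B.sum_repr (c x₀)]
    simp [Fin.sum_univ_three, hB, b, ha]
  have hcA : ∀ y, c (A y) = A (c y) := fun y => by
    rw [hAx, hAx, map_sub, show c (u y) = u (c y) from LinearMap.congr_fun hcu.eq y]
  set D : Module.End F U := a 1 • 1 + a 2 • A with hD
  have hceq : c = a 0 • 1 + A * D := by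
    refine B.ext fun i => ?_
    have key : ∀ y, c y = a 0 • y + a 1 • A y + a 2 • A (A y) → c y = (a 0 • 1 + A * D : Module.End F U) y :=
      fun y h => by
        rw [h, hD]; simp [Module.End.mul_apply, LinearMap.add_apply, LinearMap.smul_apply, add_assoc]
    apply key
    rw [hB]
    fin_cases i
    · exact hcx
    · show c (A x₀) = a 0 • A x₀ + a 1 • A (A x₀) + a 2 • A (A (A x₀))
      rw [hcA, hcx]; simp [hA3]
    · show c (A (A x₀)) = a 0 • A (A x₀) + a 1 • A (A (A x₀)) + a 2 • A (A (A (A x₀)))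
      rw [hcA, hcA, hcx]; simp [hA3]
  have hcomm : Commute A D := by
    rw [hD]
    exact ((Commute.one_right A).smul_right _).add_right ((Commute.refl A).smul_right _)
  have hcp : c ^ p = (a 0 ^ p) • 1 := by
    rw [hceq, add_pow_char_of_commute (p := p) ((Commute.one_left _).smul_left _), hcomm.mul_pow, hAp, zero_mul,
      add_zero, smul_pow, one_pow]
  obtain ⟨j, hj⟩ := exists_pow_eq_self_of_coprime (x := c) (n := p)
    (Nat.Coprime.coprime_dvd_right (orderOf_dvd_of_pow_eq_one hcN) hNp.symm)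
  rw [hcp, smul_pow, one_pow] at hj
  set e := (a 0 ^ p) ^ j
  obtain ⟨z, hz⟩ : ∃ z, R z ≠ 0 := by
    by_contra h
    push Not at h
    obtain ⟨z, hz⟩ := exists_ne (0 : U)
    exact hz (hR.1 z fun w => by simp [polar, h])
  have he : e * e = 1 := by
    have h := hc z
    rw [← hj, LinearMap.smul_apply, Module.End.one_apply, quad_smul'] at h
    exact mul_right_cancel₀ hz (h.trans (one_mul _).symm)
  rcases mul_self_eq_one_iff.1 he with h | h
  · left; rw [← hj, h, one_smul]
  · right; rw [← hj, h, neg_one_smul]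

end Three

section FieldAction

variable {W : Type*} [AddCommGroup W] [Module F W] [FiniteDimensional F W]

/-- An endomorphism of primitive prime order without fixed vectors on a small space generates a field. -/
theorem field_action [Nontrivial W] {r d : ℕ} [Fact r.Prime] (hrp : r ≠ p)
    (hd : orderOf (Fintype.card F : ZMod r) = d) (hlt : finrank F W < 2 * d) (T : Module.End F W)
    (hT : T ^ r = 1) (hfix : ∀ x, T x = x → x = 0) :
    finrank F W = d ∧ ∃ (K : Type u₀) (_ : Field K) (_ : Finite K) (_ : Algebra F K) (Φ : K →ₐ[F] Module.End F W),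
      Nat.card K = Fintype.card F ^ d ∧ ∀ C, Commute C T → ∃ a, Φ a = C := by
  classical
  have hr : r.Prime := Fact.out
  obtain ⟨k, hpp, hk⟩ := FiniteField.card F p
  have hcyc : Polynomial.aeval T (Polynomial.cyclotomic r F) = 0 := by
    have h := congrArg (Polynomial.aeval T) (Polynomial.cyclotomic_prime_mul_X_sub_one F r)
    rw [mul_comm] at h
    simp only [map_mul, map_sub, map_pow, Polynomial.aeval_X, map_one, hT, sub_self] at h
    refine LinearMap.ext fun x => hfix _ (sub_eq_zero.1 ?_)
    exact LinearMap.congr_fun h x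
  set f := minpoly F T with hf
  have hint : IsIntegral F T := Algebra.IsIntegral.isIntegral T
  have hfd : f ∣ Polynomial.cyclotomic r F := minpoly.dvd F T hcyc
  have hdeg : ∀ g : F[X], Irreducible g → g ∣ Polynomial.cyclotomic r F → g.natDegree = d := fun g hg hgd => by
    have hco : p.Coprime r := (Nat.coprime_primes hpp hr).2 hrp.symm
    rw [Polynomial.natDegree_of_dvd_cyclotomic_of_irreducible hk hco hgd hg, ← hd, ← orderOf_units,
      ZMod.coe_unitOfCoprime, hk]
  have hfn : f.natDegree ≤ finrank F W := by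
    have h := Polynomial.natDegree_le_of_dvd (LinearMap.minpoly_dvd_charpoly T) (LinearMap.charpoly_monic T).ne_zero
    rwa [LinearMap.charpoly_natDegree] at h
  have hirr : Irreducible f := by
    obtain ⟨g, hgi, hgf⟩ := WfDvdMonoid.exists_irreducible_factor (minpoly.not_isUnit F T) (minpoly.ne_zero hint)
    obtain ⟨h, hh⟩ := hgf
    rw [← hf] at hh
    rcases eq_or_ne h.natDegree 0 with h0 | h0
    · have hne : h ≠ 0 := fun e => minpoly.ne_zero hint (by rw [← hf, hh, e, mul_zero])
      rw [hh]
      exact (irreducible_mul_isUnit (Polynomial.isUnit_iff_degree_eq_zero.2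
        (by rw [Polynomial.degree_eq_natDegree hne, h0]; rfl))).2 hgi
    · exfalso
      have hne : h ≠ 0 := fun e => h0 (by rw [e]; rfl)
      obtain ⟨g', hgi', hgh⟩ := WfDvdMonoid.exists_irreducible_factor
        (fun e => h0 (Polynomial.natDegree_eq_zero_of_isUnit e)) hne
      have e1 := hdeg g hgi (dvd_trans ⟨h, hh⟩ hfd)
      have e2 := hdeg g' hgi' (dvd_trans hgh (dvd_trans ⟨g, by rw [hh, mul_comm]⟩ hfd))
      have e3 := Polynomial.natDegree_le_of_dvd hgh hne
      rw [hh, Polynomial.natDegree_mul hgi.ne_zero hne, e1] at hfn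
      omega
  have hfdeg : f.natDegree = d := hdeg f hirr hfd
  haveI : Fact (Irreducible f) := ⟨hirr⟩
  haveI : Module.Finite F (AdjoinRoot f) := (minpoly.monic hint).finite_adjoinRoot
  haveI : Finite (AdjoinRoot f) := Module.finite_of_finite F
  have hKd : finrank F (AdjoinRoot f) = d := by
    rw [PowerBasis.finrank (AdjoinRoot.powerBasis hirr.ne_zero), AdjoinRoot.powerBasis_dim, hfdeg]
  let Φ : AdjoinRoot f →ₐ[F] Module.End F W :=
    Ideal.Quotient.liftₐ (Ideal.span {f}) (Polynomial.aeval T) fun g hg => by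
      obtain ⟨c, rfl⟩ := Ideal.mem_span_singleton.1 hg
      rw [map_mul, minpoly.aeval, zero_mul]
  have hΦmk : ∀ g, Φ (AdjoinRoot.mk f g) = Polynomial.aeval T g := fun g => rfl
  letI : Module (AdjoinRoot f) W := Module.compHom W Φ.toRingHom
  haveI : IsScalarTower F (AdjoinRoot f) W := ⟨fun c a x => by
    show Φ (c • a) x = c • Φ a x
    rw [map_smul, LinearMap.smul_apply]⟩
  haveI : Finite W := Module.finite_of_finite F
  haveI : Module.Finite (AdjoinRoot f) W := Module.Finite.of_finite
  have hmul := Module.finrank_mul_finrank F (AdjoinRoot f) W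
  rw [hKd] at hmul
  have hone : finrank (AdjoinRoot f) W = 1 := by
    have h0 : 0 < finrank F W := Module.finrank_pos
    rcases Nat.lt_or_ge (finrank (AdjoinRoot f) W) 2 with h | h
    · rcases Nat.eq_zero_or_pos (finrank (AdjoinRoot f) W) with h' | h'
      · rw [h', mul_zero] at hmul; omega
      · omega
    · nlinarith
  refine ⟨by rw [← hmul, hone, mul_one], AdjoinRoot f, inferInstance, inferInstance, inferInstance, Φ, ?_, ?_⟩
  · rw [Module.natCard_eq_pow_finrank (K := F), hKd, Nat.card_eq_fintype_card]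
  · intro C hC
    obtain ⟨y, hy⟩ := exists_ne (0 : W)
    obtain ⟨a, ha⟩ := exists_smul_eq_of_finrank_eq_one hone hy (C y)
    refine ⟨a, LinearMap.ext fun z => ?_⟩
    obtain ⟨b, rfl⟩ := exists_smul_eq_of_finrank_eq_one hone hy z
    have hcomm : Commute C (Φ b) := by
      obtain ⟨g, rfl⟩ := AdjoinRoot.mk_surjective b
      rw [hΦmk]
      induction g using Polynomial.induction_on' with
      | add g g' hg hg' => rw [map_add]; exact hg.add_right hg'
      | monomial i c =>
        rw [Polynomial.aeval_monomial]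
        exact (Algebra.commute_algebraMap_right c C).mul_right (hC.pow_right i)
    show a • (b • y) = C (Φ b y)
    rw [← Module.End.mul_apply, hcomm.eq, Module.End.mul_apply, ← ha, smul_comm]
    rfl

theorem eq_zero_of_apply [Nontrivial W] {r d : ℕ} [Fact r.Prime] (hrp : r ≠ p)
    (hd : orderOf (Fintype.card F : ZMod r) = d) (hlt : finrank F W < 2 * d) (T : Module.End F W)
    (hT : T ^ r = 1) (hfix : ∀ x, T x = x → x = 0) (C : Module.End F W) (hC : Commute C T) {y : W} (hy : y ≠ 0)
    (hCy : C y = 0) : C = 0 := by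
  obtain ⟨-, K, _, _, _, Φ, -, hsurj⟩ := field_action hrp hd hlt T hT hfix
  obtain ⟨a, rfl⟩ := hsurj C hC
  by_contra ha
  have ha0 : a ≠ 0 := fun e => ha (by rw [e, map_zero])
  apply hy
  rw [← Module.End.one_apply (R := F) y, ← map_one Φ, ← inv_mul_cancel₀ ha0, map_mul, Module.End.mul_apply, hCy,
    map_zero]

theorem eq_one_of_pow_char [Nontrivial W] {r d : ℕ} [Fact r.Prime] (hrp : r ≠ p)
    (hd : orderOf (Fintype.card F : ZMod r) = d) (hlt : finrank F W < 2 * d) (T : Module.End F W)
    (hT : T ^ r = 1) (hfix : ∀ x, T x = x → x = 0) (C : Module.End F W) (hC : Commute C T)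
    (hCp : C ^ p = 1) : C = 1 := by
  obtain ⟨-, K, _, _, _, Φ, -, hsurj⟩ := field_action hrp hd hlt T hT hfix
  obtain ⟨a, rfl⟩ := hsurj C hC
  haveI : CharP K p := charP_of_injective_algebraMap (algebraMap F K).injective p
  have hinj : Function.Injective Φ := Φ.toRingHom.injective
  have ha : a ^ p = 1 := hinj (by rw [map_pow, hCp, map_one])
  have h : (a - 1) ^ p = 0 := by rw [sub_pow_char, ha, one_pow, sub_self]
  rw [sub_eq_zero.1 (pow_eq_zero_iff'.1 h).1, map_one]

theorem det_eq_one [Nontrivial W] {r m : ℕ} [Fact r.Prime] (hrp : r ≠ p)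
    (hd : orderOf (Fintype.card F : ZMod r) = 2 * m) (hlt : finrank F W < 2 * (2 * m)) (T : Module.End F W)
    (hT : T ^ r = 1) (hfix : ∀ x, T x = x → x = 0) (C : Module.End F W) (hC : Commute C T)
    (hCN : C ^ (Fintype.card F ^ m + 1) = 1) : LinearMap.det C = 1 := by
  obtain ⟨-, K, _, _, _, Φ, hcard, hsurj⟩ := field_action hrp hd hlt T hT hfix
  obtain ⟨a, rfl⟩ := hsurj C hC
  have hinj : Function.Injective Φ := Φ.toRingHom.injective
  have ha : a ^ (Fintype.card F ^ m + 1) = 1 := hinj (by rw [map_pow, hCN, map_one])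
  obtain ⟨ua, hua⟩ : IsUnit a := IsUnit.of_pow_eq_one ha (Nat.succ_ne_zero _)
  obtain ⟨γ, hγ⟩ := IsCyclic.exists_ofOrder_eq_natCard (α := Kˣ)
  haveI : Fintype Kˣ := Fintype.ofFinite _
  obtain ⟨i, hi⟩ : ∃ i : ℕ, γ ^ i = ua := by
    have : ua ∈ Subgroup.zpowers γ := by
      rw [Subgroup.eq_top_of_card_eq (Subgroup.zpowers γ) (by rw [Nat.card_zpowers, hγ])]; exact Subgroup.mem_top _
    exact (Submonoid.mem_powers_iff _ _).1 ((isOfFinOrder_of_finite γ).mem_powers_iff_mem_zpowers.2 this)
  have hq1 : 1 ≤ Fintype.card F ^ m := Nat.one_le_pow _ _ Fintype.card_pos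
  have hcardu : orderOf γ = (Fintype.card F ^ m - 1) * (Fintype.card F ^ m + 1) := by
    rw [hγ, Nat.card_units, hcard, two_mul, pow_add, mul_comm (Fintype.card F ^ m - 1), ← Nat.mul_self_sub_mul_self_eq,
      mul_one]
  have hdi : Fintype.card F ^ m - 1 ∣ i := by
    refine Nat.dvd_of_mul_dvd_mul_right (Nat.succ_pos (Fintype.card F ^ m)) ?_
    rw [Nat.succ_eq_add_one, ← hcardu, orderOf_dvd_iff_pow_eq_one, pow_mul, hi]
    exact Units.ext (by rw [Units.val_pow_eq_pow_val, hua, ha]; rfl)
  obtain ⟨j, rfl⟩ : Fintype.card F - 1 ∣ i := by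
    refine dvd_trans ?_ hdi
    simpa using Nat.sub_dvd_pow_sub_pow (Fintype.card F) 1 m
  rw [← hua, ← hi, Units.val_pow_eq_pow_val, map_pow, map_pow, pow_mul,
    FiniteField.pow_card_sub_one_eq_one, one_pow]
  intro h0
  have := congrArg LinearMap.det (map_mul Φ (γ : K) (γ⁻¹ : Kˣ))
  rw [Units.mul_inv, map_one, map_one, map_mul, h0, zero_mul] at this
  exact one_ne_zero this

end FieldAction

section Main

variable {V : Type*} [AddCommGroup V] [Module F V] [FiniteDimensional F V] {Q : QuadraticForm F V}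

/-- An isometry as an endomorphism. -/
def toEnd : orthGroup Q →* Module.End F V where
  toFun g := g.1.toLinearMap
  map_one' := rfl
  map_mul' _ _ := rfl

theorem toEnd_injective : Function.Injective (toEnd (Q := Q)) := fun g h e =>
  Subtype.ext (LinearEquiv.toLinearMap_injective e)

theorem toEnd_apply (g : orthGroup Q) (x : V) : toEnd g x = g.1 x := rfl

/-- There is no element of order `p * (q ^ m + 1)` in the commutator subgroup of the orthogonal group of
dimension `2 * m + 3`. -/
theorem orderOf_ne (h2 : (2 : F) ≠ 0) (hQ : (QuadraticMap.polarBilin Q).Nondegenerate) {m : ℕ} (hm : 2 ≤ m)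
    (hV : finrank F V = 2 * m + 3) (g : orthGroup Q) (hg : g ∈ commutator (orthGroup Q)) :
    orderOf g ≠ p * (Fintype.card F ^ m + 1) := by
  classical
  intro hord
  haveI : Finite V := Module.finite_of_finite F
  obtain ⟨k, hpp, hk⟩ := FiniteField.card F p
  have hp3 := three_le_char (F := F) (p := p) h2
  set q := Fintype.card F with hq
  have hqodd : Odd q := by rw [hk]; exact (hpp.odd_of_ne_two (by omega)).pow
  have hq3 : 3 ≤ q := by
    have := Fintype.one_lt_card (α := F)
    obtain ⟨c, hc⟩ := hqodd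
    omega
  have hqm : 9 ≤ q ^ m := le_trans (by nlinarith : 9 ≤ q ^ 2) (Nat.pow_le_pow_right (by omega) hm)
  set N := q ^ m + 1 with hN
  have hNe : Even N := Odd.add_odd hqodd.pow odd_one
  have hNq : N.Coprime q := by
    rw [hN]
    obtain ⟨c, hc⟩ : q ∣ q ^ m := dvd_pow_self q (by omega)
    rw [hc, mul_comm, add_comm, Nat.coprime_add_mul_right_left]
    exact Nat.coprime_one_left q
  have hNp : N.Coprime p := Nat.Coprime.coprime_dvd_right (by rw [hk]; exact dvd_pow_self p k.ne_zero) hNq
  obtain ⟨r, hr, hr1, hr2⟩ := NT.exists_primitive_prime (q := q) (n := 2 * m) (by omega) (by omega) (by omega)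
    (by omega)
  haveI : Fact r.Prime := ⟨hr⟩
  have hd : orderOf (q : ZMod r) = 2 * m :=
    (NT.orderOf_eq_iff_primitive (by omega) (by omega)).2 ⟨hr1, hr2⟩
  have hrp : r ≠ p := fun e => NT.primitive_not_dvd_base (by omega) (by omega) hr hr1
    (e ▸ by rw [hk]; exact dvd_pow_self p k.ne_zero)
  have hrF : (r : F) ≠ 0 := fun h => by
    rw [CharP.cast_eq_zero_iff F p] at h
    exact hrp ((Nat.prime_dvd_prime_iff_eq hpp hr).1 h).symm
  have hrN : r ∣ N := by
    have h : r ∣ (q ^ m - 1) * (q ^ m + 1) := by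
      rw [mul_comm, ← Nat.mul_self_sub_mul_self_eq, mul_one, ← pow_add, ← two_mul]; exact hr1
    exact (hr.dvd_mul.1 h).resolve_left (hr2 m (by omega) (by omega))
  set s := g ^ p with hs
  set u := g ^ N with hu
  set t := s ^ (N / r) with ht
  have hsiff : ∀ i : ℕ, s ^ i = 1 ↔ N ∣ i := fun i => by
    rw [hs, ← pow_mul, ← orderOf_dvd_iff_pow_eq_one, hord]
    exact Nat.mul_dvd_mul_iff_left hpp.pos
  have hup : u ^ p = 1 := by rw [hu, ← pow_mul, mul_comm, ← hord, pow_orderOf_eq_one]
  have hu1 : u ≠ 1 := fun h => by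
    rw [hu, ← orderOf_dvd_iff_pow_eq_one, hord] at h
    have := Nat.le_of_dvd (by omega) h
    nlinarith
  have htr : t ^ r = 1 := by rw [ht, ← pow_mul, Nat.div_mul_cancel hrN, hsiff]
  have ht1 : t ≠ 1 := fun h => by
    rw [ht, hsiff] at h
    have := Nat.le_of_dvd (Nat.div_pos (Nat.le_of_dvd (by omega) hrN) hr.pos) h
    have := Nat.div_lt_self (show 0 < N by omega) hr.one_lt
    omega
  have hTr : toEnd t ^ r = 1 := by rw [← map_pow, htr, map_one]
  set W : Submodule F V := LinearMap.range (toEnd t - 1) with hW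
  set U : Submodule F V := LinearMap.ker (toEnd t - 1) with hU
  have hc : IsCompl W U := (CfsgLib.KnownC.FormConj.isCompl_ker_range hTr hrF).symm
  have horth : ∀ (w : W) (z : U), polar Q (w : V) (z : V) = 0 := by
    rintro ⟨w, y, rfl⟩ ⟨z, hz⟩
    have hz' : t.1 z = z := sub_eq_zero.1 hz
    show polar Q (t.1 y - y) z = 0
    rw [polar_sub_left]
    nth_rw 1 [← hz']
    rw [polar_isom, sub_self]
  let e := Submodule.prodEquivOfIsCompl W U hc
  have he : ∀ a, e a = (a.1 : V) + a.2 := fun a => rfl
  have hdec : ∀ x, x = ((e.symm x).1 : V) + (e.symm x).2 := fun x => (e.apply_symm_apply x).symm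
  let G₀ : Subgroup (orthGroup Q) := Subgroup.centralizer {t}
  have hG₀' : ∀ x : G₀, Commute x.1 t := fun x => Subgroup.mem_centralizer_singleton_iff.1 x.2
  have hG₀ : ∀ x : G₀, Commute (toEnd x.1) (toEnd t) := fun x => (hG₀' x).map toEnd
  have presW : ∀ x : G₀, ∀ y ∈ W, toEnd x.1 y ∈ W := by
    rintro x _ ⟨y, rfl⟩
    exact ⟨toEnd x.1 y, by
      rw [← Module.End.mul_apply, ← Module.End.mul_apply, ((hG₀ x).sub_right (Commute.one_right _)).eq]⟩
  have presU : ∀ x : G₀, ∀ y ∈ U, toEnd x.1 y ∈ U := fun x y hy => by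
    rw [hU, LinearMap.mem_ker, ← Module.End.mul_apply, ← ((hG₀ x).sub_right (Commute.one_right _)).eq,
      Module.End.mul_apply, LinearMap.mem_ker.1 hy, map_zero]
  let ρW : G₀ →* Module.End F W :=
    { toFun := fun x => (toEnd x.1).restrict (presW x)
      map_one' := rfl
      map_mul' := fun _ _ => rfl }
  let ρU : G₀ →* Module.End F U :=
    { toFun := fun x => (toEnd x.1).restrict (presU x)
      map_one' := rfl
      map_mul' := fun _ _ => rfl }
  have hpow : ∀ i, g ^ i ∈ G₀ := fun i => Subgroup.mem_centralizer_singleton_iff.2 (by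
    rw [ht, hs, ← pow_mul, ← pow_add, ← pow_add, add_comm])
  let g₀ : G₀ := ⟨g, by simpa using hpow 1⟩
  let s₀ := g₀ ^ p
  let u₀ := g₀ ^ N
  let t₀ := s₀ ^ (N / r)
  have happly : ∀ (x : G₀) (a : W × U), toEnd x.1 (e a) = e (ρW x a.1, ρU x a.2) := fun x a => by
    rw [he, he, map_add]; rfl
  -- the field generated by `t`
  have hfix : ∀ y, ρW t₀ y = y → y = 0 := fun y hy => by
    have h := congrArg Subtype.val hy
    have h' : (y : V) ∈ U := LinearMap.mem_ker.2 (sub_eq_zero.2 h)
    exact Subtype.ext (Submodule.disjoint_def.1 hc.disjoint _ y.2 h')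
  haveI : Nontrivial W := by
    rw [Submodule.nontrivial_iff_ne_bot, hW, Ne, LinearMap.range_eq_bot, sub_eq_zero]
    exact fun h => ht1 (toEnd_injective (h.trans (map_one _).symm))
  have hlt : finrank F W < 2 * (2 * m) := by
    have := Submodule.finrank_le W
    omega
  have hT₀ : ρW t₀ ^ r = 1 := by
    rw [← map_pow, show t₀ ^ r = 1 from Subtype.ext htr, map_one]
  have hcomW : ∀ x : G₀, Commute (ρW x) (ρW t₀) := fun x =>
    Commute.map (Subtype.ext (Subgroup.mem_centralizer_singleton_iff.1 x.2) : Commute x t₀) ρW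
  obtain ⟨hWd, -⟩ := field_action hrp hd hlt _ hT₀ hfix
  have hUd : finrank F U = 3 := by
    have := Submodule.finrank_add_eq_of_isCompl hc
    omega
  have huW : ρW u₀ = 1 := eq_one_of_pow_char hrp hd hlt _ hT₀ hfix _ (hcomW _)
    (by rw [← map_pow, show u₀ ^ p = 1 from Subtype.ext hup, map_one])
  have hext : ∀ x : G₀, ρW x = 1 → ρU x = 1 → x.1 = 1 := fun x hx hx' => toEnd_injective (by
    refine LinearMap.ext fun y => ?_
    obtain ⟨a, rfl⟩ := e.surjective y
    rw [happly, hx, hx', map_one]
    rfl)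
  -- the complement
  let QU : QuadraticForm F U := Q.comp U.subtype
  have hQU : (QuadraticMap.polarBilin QU).Nondegenerate := nondegenerate_of_left fun z hz =>
    Subtype.ext (hQ.1 z fun x => by
      rw [hdec x, map_add, polarBilin_apply_apply, polarBilin_apply_apply, polar_comm _ (z : V) _, horth, zero_add]
      have := hz (e.symm x).2
      simpa [QU, polar] using this)
  have huU : ρU u₀ ≠ 1 := fun h => hu1 (hext u₀ huW h)
  have hsU : ρU s₀ = 1 := by
    have hiso : ∀ (x : G₀) (z : U), QU (ρU x z) = QU z := fun x z => x.1.2 z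
    rcases eq_smul_of_commute_unipotent (p := p) h2 hQU hUd (ρU u₀) (ρU s₀) (hiso _) huU
      (by rw [← map_pow, show u₀ ^ p = 1 from Subtype.ext hup, map_one])
      ((((Commute.refl g₀).pow_pow p N)).map ρU) (N := N)
      (by rw [← map_pow, show s₀ ^ N = 1 from Subtype.ext ((hsiff N).2 dvd_rfl), map_one]) hNp (hiso _) with h | h
    · exact h
    exfalso
    have hdet : LinearMap.det (toEnd s) = 1 :=
      ((mem_commutator_odd hQ h2 s).1 (pow_mem hg p)).1
    have hconj : toEnd s = (e : W × U →ₗ[F] V) ∘ₗ (ρW s₀).prodMap (ρU s₀) ∘ₗ (e.symm : V →ₗ[F] W × U) := by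
      refine LinearMap.ext fun y => ?_
      obtain ⟨a, rfl⟩ := e.surjective y
      simp only [LinearMap.comp_apply, LinearEquiv.coe_coe, LinearEquiv.symm_apply_apply]
      exact happly s₀ a
    rw [hconj, LinearMap.det_conj, LinearMap.det_prodMap, det_eq_one hrp hd hlt _ hT₀ hfix _ (hcomW _)
      (by rw [← map_pow, show s₀ ^ N = 1 from Subtype.ext ((hsiff N).2 dvd_rfl), map_one]), one_mul, h,
      show (-1 : Module.End F U) = (-1 : F) • LinearMap.id from (neg_one_smul F _).symm, LinearMap.det_smul, hUd,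
      LinearMap.det_id] at hdet
    exact h2 (by linear_combination -hdet)
  -- semiregularity
  have hper : ∀ (y : W), y ≠ 0 → ∀ i : ℕ, ρW (s₀ ^ i) y = y ↔ N ∣ i := fun y hy i => by
    constructor
    · intro h
      rw [← hsiff]
      refine hext (s₀ ^ i) ?_ (by rw [map_pow, hsU, one_pow])
      refine sub_eq_zero.1 (eq_zero_of_apply hrp hd hlt _ hT₀ hfix _ ((hcomW _).sub_left (Commute.one_left _)) hy ?_)
      rw [LinearMap.sub_apply, h]; exact sub_self y
    · intro h
      rw [show s₀ ^ i = 1 from Subtype.ext ((hsiff i).2 h), map_one]; rfl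
  -- the levels of `W`
  let QW : QuadraticForm F W := Q.comp W.subtype
  have hQW : (QuadraticMap.polarBilin QW).Nondegenerate := nondegenerate_of_left fun y hy =>
    Subtype.ext (hQ.1 y fun x => by
      rw [hdec x, map_add, polarBilin_apply_apply, polarBilin_apply_apply, horth, add_zero]
      have := hy (e.symm x).1
      simpa [QW, polar] using this)
  let A : F → ℕ := fun c => Nat.card {y : W // y ≠ 0 ∧ QW y = c}
  have hA : ∀ c, N ∣ A c := by
    intro c
    haveI : Fintype {y : W // y ≠ 0 ∧ QW y = c} := Fintype.ofFinite _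
    have hmaps : ∀ y : {y : W // y ≠ 0 ∧ QW y = c}, ρW s₀ y.1 ≠ 0 ∧ QW (ρW s₀ y.1) = c := fun y =>
      ⟨fun h => y.2.1 (Subtype.ext (s₀.1.1.map_eq_zero_iff.1 (congrArg Subtype.val h))),
        (s₀.1.2 (y.1 : V)).trans y.2.2⟩
    let τ : Equiv.Perm {y : W // y ≠ 0 ∧ QW y = c} := Equiv.ofBijective (fun y => ⟨_, hmaps y⟩)
      (Finite.injective_iff_bijective.1 fun y y' h => Subtype.ext (Subtype.ext (s₀.1.1.injective
        (congrArg (fun z : {y : W // y ≠ 0 ∧ QW y = c} => (z.1 : V)) h))))
    have hτ : ∀ (i : ℕ) y, ((τ ^ i) y).1 = ρW (s₀ ^ i) y.1 := by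
      intro i y
      induction i with
      | zero => simp
      | succ i ih =>
        rw [pow_succ', Equiv.Perm.mul_apply, pow_succ', map_mul, Module.End.mul_apply, ← ih]; rfl
    have hperτ : ∀ y (i : ℕ), (τ ^ i) y = y ↔ N ∣ i := fun y i => by
      rw [← Subtype.val_inj, hτ, hper y.1 y.2.1]
    obtain ⟨j, hj, -⟩ := sign_of_uniform τ hNe fun y _ => hperτ y
    rw [show τ.support = Finset.univ from Finset.eq_univ_of_forall fun y => Equiv.Perm.mem_support.2 fun h => by
      have := (hperτ y 1).1 (by rwa [pow_one]); have := Nat.le_of_dvd one_pos this; omega,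
      Finset.card_univ, ← Nat.card_eq_fintype_card] at hj
    exact ⟨j, hj⟩
  obtain ⟨m', rfl⟩ : ∃ m', m = m' + 1 := ⟨m - 1, by omega⟩
  have hA1 : A 1 = Nat.card {y : W // QW y = 1} := Nat.card_congr (Equiv.subtypeEquivRight fun y =>
    ⟨fun h => h.2, fun h => ⟨fun h0 => one_ne_zero (α := F) (by rw [← h, h0, QuadraticMap.map_zero]), h⟩⟩)
  have hAc : ∀ c, c ≠ 0 → A c = q ^ m' * N := by
    intro c hc0
    have hAc1 : A c = A 1 := by
      rw [hA1, ← card_level hQW hWd hc0]
      exact Nat.card_congr (Equiv.subtypeEquivRight fun y =>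
        ⟨fun h => h.2, fun h => ⟨fun h0 => hc0 (by rw [← h, h0, QuadraticMap.map_zero]), h⟩⟩)
    rw [hAc1]
    obtain ⟨ε, hε, hεv⟩ : ∃ ε : ℤ, HasSign QW (m' + 1) ε ∧ (ε = 1 ∨ ε = -1) := by
      rcases exists_sign hQW hWd with h | h
      · exact ⟨1, h, Or.inl rfl⟩
      · exact ⟨-1, h.1, Or.inr rfl⟩
    have htot := card_space_eq hQW hWd
    rw [card_space hWd, ← hA1, ← hq] at htot
    have htot' : (q : ℤ) ^ (2 * (m' + 1)) = zeroCount QW + ((q : ℤ) - 1) * (A 1 : ℕ) := by
      have := congrArg (fun a : ℕ => (a : ℤ)) htot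
      push_cast [Nat.cast_sub (show 1 ≤ q by omega)] at this
      exact this
    have key : (A 1 : ℤ) = (q : ℤ) ^ m' * ((q : ℤ) ^ (m' + 1) - ε) := by
      unfold HasSign at hε
      rw [← hq] at hε
      have hne : (q : ℤ) * ((q : ℤ) - 1) ≠ 0 := mul_ne_zero (by omega) (by omega)
      refine mul_left_cancel₀ hne ?_
      linear_combination hε.symm - (q : ℤ) * htot'
    rcases hεv with rfl | rfl
    · exfalso
      have h1 : (N : ℤ) ∣ (A 1 : ℤ) := Int.natCast_dvd_natCast.2 (hA 1)
      have h3 : (N : ℤ) ∣ (q : ℤ) ^ m' * 2 := by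
        have : (q : ℤ) ^ m' * 2 = (q : ℤ) ^ m' * (N : ℤ) - (A 1 : ℤ) := by rw [key, hN]; push_cast; ring
        rw [this]
        exact dvd_sub (Dvd.intro_left _ rfl) h1
      have h4 : N ∣ q ^ m' * 2 := by exact_mod_cast h3
      have := Nat.le_of_dvd two_pos ((hNq.pow_right m').dvd_of_dvd_mul_left h4)
      omega
    · zify
      rw [key, hN]; push_cast; ring
  -- the sign of `s`
  let L : F → ℕ := fun c => Nat.card {z : U // QU z = c}
  have hL1 : Even (L 1) := by
    have h := card_level_even Q h2 U (one_ne_zero (α := F))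
    rwa [show L 1 = Nat.card {v : V // v ∈ U ∧ Q v = 1} from Nat.card_congr
      { toFun := fun z => ⟨z.1.1, z.1.2, z.2⟩
        invFun := fun v => ⟨⟨v.1, v.2.1⟩, v.2.2⟩
        left_inv := fun _ => rfl
        right_inv := fun _ => rfl }]
  have hsumL : ∑ c : F, L (1 - c) = q ^ 3 := by
    rw [show ∑ c : F, L (1 - c) = ∑ c : F, L c from Equiv.sum_comp (Equiv.subLeft (1 : F)) L, ← Nat.card_sigma, Nat.card_congr (Equiv.sigmaFiberEquiv _),
      Module.natCard_eq_pow_finrank (K := F), hUd, Nat.card_eq_fintype_card, ← hq]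
  have hsQ : ∀ a : W × U, Q (e a) = QW a.1 + QU a.2 := fun a => by
    rw [he, quad_add', horth, add_zero]; rfl
  have hsign : levelSign Q 1 s = -1 := by
    unfold levelSign
    rw [MonoidHom.comp_apply]
    generalize Classical.decEq {x : V // Q x = 1} = dX
    generalize Fintype.ofFinite {x : V // Q x = 1} = fX
    set σ := levelPerm Q 1 s with hσ
    have hσi : ∀ (i : ℕ) (x : {x : V // Q x = 1}),
        (((σ ^ i) x : {x : V // Q x = 1}) : V) = e (ρW (s₀ ^ i) (e.symm x.1).1, (e.symm x.1).2) := by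
      intro i x
      rw [hσ, ← map_pow, levelPerm_apply]
      have h := happly (s₀ ^ i) (e.symm x.1)
      rw [e.apply_symm_apply, map_pow ρU, hsU, one_pow] at h
      exact h
    have hperσ : ∀ (x : {x : V // Q x = 1}), (e.symm x.1).1 ≠ 0 → ∀ i : ℕ, (σ ^ i) x = x ↔ N ∣ i := by
      intro x hx i
      rw [← hper _ hx, ← Subtype.val_inj, hσi]
      constructor
      · intro h
        exact congrArg Prod.fst (e.injective (h.trans (e.apply_symm_apply x.1).symm))
      · intro h
        rw [h]; exact e.apply_symm_apply x.1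
    have hmoved : ∀ x : {x : V // Q x = 1}, σ x ≠ x ↔ (e.symm x.1).1 ≠ 0 := by
      intro x
      constructor
      · intro h h0
        apply h
        apply Subtype.ext
        have := hσi 1 x
        rw [pow_one σ, h0, map_zero] at this
        rw [this, ← h0]
        exact e.apply_symm_apply x.1
      · intro hx h
        have := (hperσ x hx 1).1 (by rwa [pow_one])
        have := Nat.le_of_dvd one_pos this
        omega
    obtain ⟨j, hj, hsj⟩ := sign_of_uniform σ hNe fun x hx => hperσ x ((hmoved x).1 hx)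
    rw [hsj]
    suffices Odd j by exact this.neg_one_pow
    have key : ∀ a b : Σ c : F, {y : W // y ≠ 0 ∧ QW y = c} × {z : U // QU z = 1 - c},
        a.2.1.1 = b.2.1.1 → a.2.2.1 = b.2.2.1 → a = b := by
      rintro ⟨c, ⟨y, hy, rfl⟩, z⟩ ⟨c', ⟨y', hy', rfl⟩, z'⟩ (h1 : y = y') (h3 : z.1 = z'.1)
      subst h1
      rw [Subtype.ext h3]
    let E : {x : {x : V // Q x = 1} // x ∈ σ.support} ≃
        Σ c : F, {y : W // y ≠ 0 ∧ QW y = c} × {z : U // QU z = 1 - c} :=
      { toFun := fun x => ⟨QW (e.symm x.1.1).1,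
          ⟨(e.symm x.1.1).1, (hmoved _).1 (Equiv.Perm.mem_support.1 x.2), rfl⟩, (e.symm x.1.1).2, by
            have h := hsQ (e.symm x.1.1)
            rw [e.apply_symm_apply] at h
            linear_combination x.1.2 - h⟩
        invFun := fun a => ⟨⟨e (a.2.1.1, a.2.2.1), by rw [hsQ, a.2.1.2.2, a.2.2.2]; ring⟩, by
            rw [Equiv.Perm.mem_support, hmoved, e.symm_apply_apply]; exact a.2.1.2.1⟩
        left_inv := fun x => Subtype.ext (Subtype.ext (e.apply_symm_apply _))
        right_inv := fun a => key _ _ (congrArg Prod.fst (e.symm_apply_apply _))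
          (congrArg Prod.snd (e.symm_apply_apply _)) }
    have hcard : σ.support.card = ∑ c : F, A c * L (1 - c) := by
      rw [← Nat.card_eq_finsetCard, Nat.card_congr E, Nat.card_sigma]
      exact Finset.sum_congr rfl fun c _ => Nat.card_prod _ _
    obtain ⟨a, ha⟩ := hA 0
    obtain ⟨l, hl⟩ := hL1
    have hsum : ∑ c : F, A c * L (1 - c) =
        N * (a * L 1 + q ^ m' * ∑ c ∈ Finset.univ.erase (0 : F), L (1 - c)) := by
      rw [← Finset.add_sum_erase _ _ (Finset.mem_univ (0 : F)), sub_zero, ha, mul_assoc, mul_add,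
        Finset.mul_sum, Finset.mul_sum]
      congr 1
      exact Finset.sum_congr rfl fun c hc => by rw [hAc c (Finset.ne_of_mem_erase hc)]; ring
    rw [hcard, hsum] at hj
    rw [← Nat.eq_of_mul_eq_mul_left (show 0 < N by omega) hj, hl]
    have htot := Finset.add_sum_erase _ (fun c => L (1 - c)) (Finset.mem_univ (0 : F))
    rw [sub_zero, hsumL, hl] at htot
    refine Even.add_odd ⟨a * l, by ring⟩ (Odd.mul hqodd.pow ?_)
    have : Odd (q ^ 3) := hqodd.pow
    rw [← htot, Nat.odd_add'] at this
    exact this.2 ⟨l, rfl⟩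
  have := ((mem_commutator_odd hQ h2 s).1 (pow_mem hg p)).2
  rw [hsign] at this
  exact absurd this (by decide)

end Main

end CfsgLib.Orth.SingerUnipotent
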